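import Mathlib
import Cfsg.Prelude.Def_Local
import Cfsg.Agent.Lib.Helper55.Cores

set_option autoImplicit false

namespace Cfsg.Agent.Helper63

open Cfsg

variable {G : Type*} [Group G]

/-! ### relIndex divisibility lemmas -/

lemma relIndex_dvd_of_le_right' {H K L : Subgroup G} (hHK : H ≤ K) (hKL : K ≤ L) :
    H.relIndex K ∣ H.relIndex L :=
  Dvd.intro _ (Subgroup.relIndex_mul_relIndex H K L hHK hKL)

lemma relIndex_dvd_of_le_right_normal {V K' K : Subgroup G} [V.Normal] (h : K' ≤ K) :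
    V.relIndex K' ∣ V.relIndex K := by
  rw [← Subgroup.relIndex_sup_right K' V, ← Subgroup.relIndex_sup_right K V]
  exact relIndex_dvd_of_le_right' le_sup_right (sup_le_sup_right h V)

/-- `|W ∩ Y : V ∩ Y|` divides `|W : V|` for `V` normal, `V ≤ W`. -/
lemma relIndex_inf_dvd {V W Y : Subgroup G} [V.Normal] (hVW : V ≤ W) :
    (V ⊓ Y).relIndex (W ⊓ Y) ∣ V.relIndex W := by
  have h1 : V ⊓ Y = V ⊓ (W ⊓ Y) := by
    rw [← inf_assoc, inf_of_le_left hVW]
  rw [h1, Subgroup.inf_relIndex_right]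
  exact relIndex_dvd_of_le_right_normal inf_le_left

/-- `|W X : V X|` divides `|W : V|` for `V`, `X` normal, `V ≤ W`. -/
lemma relIndex_sup_dvd {V W X : Subgroup G} [V.Normal] [X.Normal] (hVW : V ≤ W) :
    (V ⊔ X).relIndex (W ⊔ X) ∣ V.relIndex W := by
  have hn : (V ⊔ X).Normal := inferInstance
  have h1 : W ⊔ X = W ⊔ (V ⊔ X) := by
    rw [← sup_assoc, sup_of_le_left hVW]
  rw [h1, Subgroup.relIndex_sup_right]
  exact Subgroup.relIndex_dvd_of_le_left _ le_sup_left

lemma relIndex_pos_of_finite [Finite G] (A B : Subgroup G) : 0 < A.relIndex B := by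
  unfold Subgroup.relIndex
  exact Nat.pos_of_ne_zero Subgroup.index_ne_zero_of_finite

/-! ### chains -/

/-- `PL p k A B`: there is a chain of normal subgroups from `A` to `B` whose factors are
alternately `p'`, `p`, `p'`, …, `p`, `p'` with exactly `k` factors of `p`-type. -/
inductive PL (p : ℕ) : ℕ → Subgroup G → Subgroup G → Prop
  | base (A B : Subgroup G) : A ≤ B → A.Normal → B.Normal → (A.relIndex B).Coprime p → PL p 0 A B
  | step (k : ℕ) (A B C D : Subgroup G) : PL p k A B → B ≤ C → C ≤ D → C.Normal → D.Normal →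
      (∃ m : ℕ, B.relIndex C = p ^ m) → (C.relIndex D).Coprime p → PL p (k + 1) A D

namespace PL

variable {p : ℕ}

lemma le {k : ℕ} {A B : Subgroup G} (h : PL p k A B) : A ≤ B := by
  induction h with
  | base A B hAB _ _ _ => exact hAB
  | step k A B C D _ hBC hCD _ _ _ _ ih => exact ih.trans (hBC.trans hCD)

lemma normal_left {k : ℕ} {A B : Subgroup G} (h : PL p k A B) : A.Normal := by
  induction h with
  | base A B _ hA _ _ => exact hA
  | step k A B C D _ _ _ _ _ _ _ ih => exact ih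

lemma normal_right {k : ℕ} {A B : Subgroup G} (h : PL p k A B) : B.Normal := by
  cases h with
  | base _ _ _ _ hB _ => exact hB
  | step k _ B C _ _ _ _ _ hD _ _ => exact hD

/-- extend the last `p'`-factor -/
lemma extend {k : ℕ} {A B C : Subgroup G} (h : PL p k A B) (hBC : B ≤ C) (hC : C.Normal)
    (hcop : (B.relIndex C).Coprime p) : PL p k A C := by
  cases h with
  | base _ _ hAB hA hB hc =>
    refine PL.base A C (hAB.trans hBC) hA hC ?_
    rw [← Subgroup.relIndex_mul_relIndex A B C hAB hBC]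
    exact Nat.Coprime.mul_left hc hcop
  | step k _ B' C' _ h' hBC' hCD' hC' hD' hpow hc =>
    refine PL.step k A B' C' C h' hBC' (hCD'.trans hBC) hC' hC hpow ?_
    rw [← Subgroup.relIndex_mul_relIndex C' B C hCD' hBC]
    exact Nat.Coprime.mul_left hc hcop

/-- concatenation -/
lemma trans {a b : ℕ} {A B C : Subgroup G} (h1 : PL p a A B) (h2 : PL p b B C) :
    PL p (a + b) A C := by
  induction h2 with
  | base _ C hBC _ hC hc => exact h1.extend hBC hC hc
  | step k _ B' C' D h' hBC' hCD' hC' hD' hpow hc ih =>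
    exact PL.step (a + k) A B' C' D (ih h1) hBC' hCD' hC' hD' hpow hc

lemma succ {k : ℕ} {A B : Subgroup G} (h : PL p k A B) : PL p (k + 1) A B := by
  refine PL.step k A B B B h le_rfl le_rfl h.normal_right h.normal_right ⟨0, ?_⟩ ?_
  · simp
  · simp

lemma mono {k k' : ℕ} {A B : Subgroup G} (h : PL p k A B) (hk : k ≤ k') : PL p k' A B := by
  induction hk with
  | refl => exact h
  | step _ ih => exact ih.succ

/-- a `p`-section -/
lemma of_pow {A B : Subgroup G} (hAB : A ≤ B) (hA : A.Normal) (hB : B.Normal)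
    (h : ∃ m : ℕ, A.relIndex B = p ^ m) : PL p 1 A B := by
  refine PL.step 0 A A B B (PL.base A A le_rfl hA hA (by simp)) hAB le_rfl hB hB h (by simp)

/-- restriction of a chain to a normal section `(X, Y)` -/
lemma restrict [hp : Fact p.Prime] {k : ℕ} {A B : Subgroup G} (h : PL p k A B) (X Y : Subgroup G)
    [hX : X.Normal] [hY : Y.Normal] : PL p k ((A ⊓ Y) ⊔ X) ((B ⊓ Y) ⊔ X) := by
  induction h with
  | base A B hAB hA hB hc =>
    refine PL.base _ _ (sup_le_sup_right (inf_le_inf_right _ hAB) _) inferInstance inferInstance ?_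
    have h1 : ((A ⊓ Y) ⊔ X).relIndex ((B ⊓ Y) ⊔ X) ∣ (A ⊓ Y).relIndex (B ⊓ Y) :=
      relIndex_sup_dvd (inf_le_inf_right _ hAB)
    have h2 : (A ⊓ Y).relIndex (B ⊓ Y) ∣ A.relIndex B := relIndex_inf_dvd hAB
    exact Nat.Coprime.coprime_dvd_left (h1.trans h2) hc
  | step k A B C D h' hBC hCD hC hD hpow hc ih =>
    have hB : B.Normal := h'.normal_right
    refine PL.step k _ _ ((C ⊓ Y) ⊔ X) _ ih (sup_le_sup_right (inf_le_inf_right _ hBC) _)
      (sup_le_sup_right (inf_le_inf_right _ hCD) _) inferInstance inferInstance ?_ ?_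
    · obtain ⟨m, hm⟩ := hpow
      have h1 : ((B ⊓ Y) ⊔ X).relIndex ((C ⊓ Y) ⊔ X) ∣ (B ⊓ Y).relIndex (C ⊓ Y) :=
        relIndex_sup_dvd (inf_le_inf_right _ hBC)
      have h2 : (B ⊓ Y).relIndex (C ⊓ Y) ∣ B.relIndex C := relIndex_inf_dvd hBC
      have h3 := h1.trans h2
      rw [hm] at h3
      obtain ⟨j, _, hj⟩ := (Nat.dvd_prime_pow hp.out).mp h3
      exact ⟨j, hj⟩
    · have h1 : ((C ⊓ Y) ⊔ X).relIndex ((D ⊓ Y) ⊔ X) ∣ (C ⊓ Y).relIndex (D ⊓ Y) :=
        relIndex_sup_dvd (inf_le_inf_right _ hCD)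
      have h2 : (C ⊓ Y).relIndex (D ⊓ Y) ∣ C.relIndex D := relIndex_inf_dvd hCD
      exact Nat.Coprime.coprime_dvd_left (h1.trans h2) hc

end PL

/-! ### bridge to the upper `p`-series -/

section Bridge

/-- the `n`-th term of the upper `p`-series -/
abbrev U (p : ℕ) (G : Type*) [Group G] (n : ℕ) : Subgroup G := (upperPSeries p G n).1

variable (p : ℕ)

lemma U_zero : U p G 0 = ⊥ := rfl

lemma U_succ_even (n : ℕ) (h : Even n) :
    U p G (n + 1) = (pPrimeCore p (G ⧸ U p G n)).comap (QuotientGroup.mk' (U p G n)) := by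
  show (upperPSeries p G (n + 1)).1 = _
  rw [upperPSeries]
  simp only [h, if_true]

lemma U_succ_odd (n : ℕ) (h : ¬ Even n) :
    U p G (n + 1) = (pCore p (G ⧸ U p G n)).comap (QuotientGroup.mk' (U p G n)) := by
  show (upperPSeries p G (n + 1)).1 = _
  rw [upperPSeries]
  simp only [h, if_false]

lemma relIndex_comap_mk' (N : Subgroup G) [N.Normal] (H : Subgroup (G ⧸ N)) :
    N.relIndex (H.comap (QuotientGroup.mk' N)) = Nat.card H := by
  have h1 := Subgroup.relIndex_ker (QuotientGroup.mk' N) (K := H.comap (QuotientGroup.mk' N))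
  rw [QuotientGroup.ker_mk'] at h1
  rw [h1, Subgroup.map_comap_eq_self_of_surjective (QuotientGroup.mk'_surjective N)]

lemma le_comap_mk'_self (N : Subgroup G) [N.Normal] (H : Subgroup (G ⧸ N)) :
    N ≤ H.comap (QuotientGroup.mk' N) := by
  intro x hx
  rw [Subgroup.mem_comap, QuotientGroup.mk'_apply, (QuotientGroup.eq_one_iff x).mpr hx]
  exact H.one_mem

lemma U_le_succ (n : ℕ) : U p G n ≤ U p G (n + 1) := by
  by_cases h : Even n
  · rw [U_succ_even p n h]; exact le_comap_mk'_self _ _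
  · rw [U_succ_odd p n h]; exact le_comap_mk'_self _ _

variable [Finite G] [hp : Fact p.Prime]

/-- from the upper series to a chain -/
theorem PL_of_upper (k : ℕ) : PL p k (⊥ : Subgroup G) (U p G (2 * k + 1)) := by
  induction k with
  | zero =>
    refine PL.base _ _ bot_le inferInstance inferInstance ?_
    show ((U p G 0).relIndex (U p G (0 + 1))).Coprime p
    rw [U_succ_even p 0 (by simp), relIndex_comap_mk']
    exact Helper55.pPrimeCore_coprime p
  | succ k ih =>
    have e1 : 2 * (k + 1) + 1 = (2 * k + 2) + 1 := by ring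
    have hodd : ¬ Even (2 * k + 1) := by
      rw [Nat.not_even_iff_odd]; exact ⟨k, rfl⟩
    have heven : Even (2 * k + 2) := ⟨k + 1, by ring⟩
    rw [e1]
    refine PL.step k ⊥ (U p G (2 * k + 1)) (U p G (2 * k + 2)) (U p G (2 * k + 2 + 1)) ih
      (U_le_succ p _) (U_le_succ p _) inferInstance inferInstance ?_ ?_
    · rw [U_succ_odd p (2 * k + 1) hodd, relIndex_comap_mk']
      exact (Helper55.isPGroup_pCore (p := p)).exists_card_eq
    · rw [U_succ_even p (2 * k + 2) heven, relIndex_comap_mk']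
      exact Helper55.pPrimeCore_coprime p

theorem PL_of_PLengthLE {k : ℕ} (h : PLengthLE p k G) : PL p k (⊥ : Subgroup G) ⊤ := by
  have := PL_of_upper (G := G) p k
  unfold PLengthLE at h
  rwa [show U p G (2 * k + 1) = ⊤ from h] at this

omit [Finite G] hp in
lemma le_U_succ_even (n : ℕ) (h : Even n) (X : Subgroup G) [X.Normal]
    (hc : ((U p G n).relIndex X).Coprime p) : X ≤ U p G (n + 1) := by
  rw [U_succ_even p n h]
  refine le_trans (Subgroup.le_comap_map (QuotientGroup.mk' (U p G n)) X) (Subgroup.comap_mono ?_)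
  apply Helper55.le_pPrimeCore
    (Subgroup.Normal.map inferInstance _ (QuotientGroup.mk'_surjective _))
  have h1 := Subgroup.relIndex_ker (QuotientGroup.mk' (U p G n)) (K := X)
  rw [QuotientGroup.ker_mk'] at h1
  rw [← h1]; exact hc

omit [Finite G] hp in
lemma le_U_succ_odd (n : ℕ) (h : ¬ Even n) (X : Subgroup G) [X.Normal]
    (hc : ∃ m : ℕ, (U p G n).relIndex X = p ^ m) : X ≤ U p G (n + 1) := by
  rw [U_succ_odd p n h]
  refine le_trans (Subgroup.le_comap_map (QuotientGroup.mk' (U p G n)) X) (Subgroup.comap_mono ?_)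
  apply Helper55.le_pCore
    (Subgroup.Normal.map inferInstance _ (QuotientGroup.mk'_surjective _))
  have h1 := Subgroup.relIndex_ker (QuotientGroup.mk' (U p G n)) (K := X)
  rw [QuotientGroup.ker_mk'] at h1
  obtain ⟨m, hm⟩ := hc
  exact IsPGroup.of_card (n := m) (by rw [← h1]; exact hm)

omit [Finite G] in
/-- from a chain to the upper series -/
theorem le_upper_of_PL {k : ℕ} {A B : Subgroup G} (h : PL p k A B) (hA : A = ⊥) :
    B ≤ U p G (2 * k + 1) := by
  induction h with
  | base A B hAB hAn hBn hc =>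
    subst hA
    have := hBn
    apply le_U_succ_even p 0 (by simp) B
    rw [U_zero]; exact hc
  | step k A B C D h' hBC hCD hC hD hpow hc ih =>
    have hB := ih hA
    have hodd : ¬ Even (2 * k + 1) := by
      rw [Nat.not_even_iff_odd]; exact ⟨k, rfl⟩
    have heven : Even (2 * k + 2) := ⟨k + 1, by ring⟩
    have := hC
    have := hD
    have hC' : C ≤ U p G (2 * k + 2) := by
      apply le_U_succ_odd p (2 * k + 1) hodd C
      obtain ⟨m, hm⟩ := hpow
      have hd : (U p G (2 * k + 1)).relIndex C ∣ B.relIndex C := Subgroup.relIndex_dvd_of_le_left C hB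
      rw [hm] at hd
      obtain ⟨j, _, hj⟩ := (Nat.dvd_prime_pow hp.out).mp hd
      exact ⟨j, hj⟩
    have e1 : 2 * (k + 1) + 1 = (2 * k + 2) + 1 := by ring
    rw [e1]
    apply le_U_succ_even p (2 * k + 2) heven D
    have hd : (U p G (2 * k + 2)).relIndex D ∣ C.relIndex D := Subgroup.relIndex_dvd_of_le_left D hC'
    exact Nat.Coprime.coprime_dvd_left hd hc

omit [Finite G] in
theorem PLengthLE_of_PL {k : ℕ} (h : PL p k (⊥ : Subgroup G) ⊤) : PLengthLE p k G := by
  unfold PLengthLE
  exact top_le_iff.mp (le_upper_of_PL p h rfl)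

end Bridge

end Cfsg.Agent.Helper63
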