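import Mathlib
import Cfsg.Agent.Lib.Helper14.SPIDefs

/-!
# SPI piece (MASCHKE) `exists_inv_compl` for helper14's server (S5961)
-/

set_option autoImplicit false

namespace Cfsg.Agent.Helper63.SPI

open Module Polynomial Cfsg.Agent.Helper14.SPI

/-- averaging: from an endomorphism `π` and `x` with inverse `y`, `x ^ r = 1`, the sum
`S = ∑_{m<r} x^m π y^m` commutes with `x`. -/
theorem h63_avg_comm {F V : Type*} [Field F] [AddCommGroup V] [Module F V]
    (x y π : Module.End F V) (r : ℕ) (hxr : x ^ r = 1) (hyr : y ^ r = 1) (hyx : y * x = 1) :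
    x * (∑ m ∈ Finset.range r, x ^ m * π * y ^ m) =
      (∑ m ∈ Finset.range r, x ^ m * π * y ^ m) * x := by
  set S : Module.End F V := ∑ m ∈ Finset.range r, x ^ m * π * y ^ m with hS
  have hxSy : x * S * y = S := by
    rw [hS, Finset.mul_sum, Finset.sum_mul]
    have h1 : ∀ m ∈ Finset.range r, x * (x ^ m * π * y ^ m) * y =
        x ^ (m + 1) * π * y ^ (m + 1) := by
      intro m _
      rw [pow_succ' x, pow_succ y]
      simp only [mul_assoc]
    rw [Finset.sum_congr rfl h1]
    have h2 := Finset.sum_range_succ (fun m => x ^ m * π * y ^ m) r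
    have h3 := Finset.sum_range_succ' (fun m => x ^ m * π * y ^ m) r
    simp only [pow_zero, mul_one, one_mul] at h3
    rw [hxr, hyr, mul_one, one_mul] at h2
    exact add_right_cancel (h3.symm.trans h2)
  calc x * S = x * S * (y * x) := by rw [hyx, mul_one]
    _ = (x * S * y) * x := by simp only [mul_assoc]
    _ = S * x := by rw [hxSy]

/-- (MASCHKE) invariant complement inside `R`: average a projection onto `U`. -/
theorem exists_inv_compl {F V : Type*} [Field F] [AddCommGroup V] [Module F V]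
    [FiniteDimensional F V] (x : V →ₗ[F] V) (r : ℕ) (hr0 : (r : F) ≠ 0) (hxr : x ^ r = 1)
    (R U : Submodule F V) (hRx : R.map x ≤ R) (hUx : U.map x ≤ U) (hUR : U ≤ R) :
    ∃ C : Submodule F V, C ≤ R ∧ C.map x ≤ C ∧ U ⊓ C = ⊥ ∧ U ⊔ C = R := by
  classical
  have hr : r ≠ 0 := by
    rintro rfl
    simp at hr0
  have hr1 : r - 1 + 1 = r := Nat.sub_add_cancel (Nat.one_le_iff_ne_zero.mpr hr)
  -- the inverse of `x`
  set y : Module.End F V := x ^ (r - 1) with hy
  have hxy : x * y = 1 := by rw [hy, ← pow_succ', hr1, hxr]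
  have hyx : y * x = 1 := by rw [hy, ← pow_succ, hr1, hxr]
  have hyr : y ^ r = 1 := by rw [hy, ← pow_mul, mul_comm, pow_mul, hxr, one_pow]
  have hUxm : ∀ m : ℕ, ∀ u ∈ U, (x ^ m) u ∈ U := by
    intro m
    induction m with
    | zero => intro u hu; simpa using hu
    | succ m ih =>
      intro u hu
      rw [pow_succ', Module.End.mul_apply]
      exact hUx ⟨_, ih u hu, rfl⟩
  have hUym : ∀ m : ℕ, ∀ u ∈ U, (y ^ m) u ∈ U := by
    intro m u hu
    rw [hy, ← pow_mul]
    exact hUxm _ u hu
  -- a projection onto `U`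
  obtain ⟨C₀, hC₀⟩ := Submodule.exists_isCompl U
  set π : Module.End F V := U.subtype ∘ₗ (Submodule.projectionOnto U C₀ hC₀) with hπ
  have hπU : ∀ v, π v ∈ U := fun v => (Submodule.projectionOnto U C₀ hC₀ v).2
  have hπid : ∀ u ∈ U, π u = u := by
    intro u hu
    have h1 := Submodule.projectionOnto_apply_left hC₀ ⟨u, hu⟩
    show ((Submodule.projectionOnto U C₀ hC₀ u : U) : V) = u
    have h2 : ((Submodule.projectionOnto U C₀ hC₀ ((⟨u, hu⟩ : U) : V) : U) : V) = u := by
      rw [h1]
    exact h2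
  -- the averaged projection
  set S : Module.End F V := ∑ m ∈ Finset.range r, x ^ m * π * y ^ m with hS
  have hcommS : x * S = S * x := h63_avg_comm x y π r hxr hyr hyx
  have hSapp : ∀ v, S v = ∑ m ∈ Finset.range r, (x ^ m) (π ((y ^ m) v)) := by
    intro v
    rw [hS, LinearMap.sum_apply]
    rfl
  set P : Module.End F V := (r : F)⁻¹ • S with hP
  have hPU : ∀ v, P v ∈ U := by
    intro v
    rw [hP, LinearMap.smul_apply, hSapp]
    exact U.smul_mem _ (U.sum_mem fun m _ => hUxm m _ (hπU _))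
  have hPid : ∀ u ∈ U, P u = u := by
    intro u hu
    rw [hP, LinearMap.smul_apply, hSapp]
    have h1 : ∀ m ∈ Finset.range r, (x ^ m) (π ((y ^ m) u)) = u := by
      intro m _
      rw [hπid _ (hUym m u hu), ← Module.End.mul_apply]
      have hc : Commute x y := by
        show x * y = y * x
        rw [hxy, hyx]
      rw [← hc.mul_pow, hxy, one_pow]
      rfl
    rw [Finset.sum_congr rfl h1, Finset.sum_const, Finset.card_range,
      ← Nat.cast_smul_eq_nsmul F, smul_smul, inv_mul_cancel₀ hr0, one_smul]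
  have hcommP : x * P = P * x := by
    rw [hP, mul_smul_comm, smul_mul_assoc, hcommS]
  refine ⟨R ⊓ LinearMap.ker P, inf_le_left, ?_, ?_, ?_⟩
  · rintro _ ⟨c, ⟨hcR, hcK⟩, rfl⟩
    refine ⟨hRx ⟨c, hcR, rfl⟩, ?_⟩
    have hcK' : P c = 0 := hcK
    show P (x c) = 0
    have h1 : P (x c) = x (P c) := by
      rw [← Module.End.mul_apply, ← hcommP, Module.End.mul_apply]
    rw [h1, hcK', map_zero]
  · rw [eq_bot_iff]
    rintro u ⟨hu, -, huK⟩
    rw [Submodule.mem_bot, ← hPid u hu]
    exact huK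
  · apply le_antisymm (sup_le hUR inf_le_left)
    intro w hw
    rw [Submodule.mem_sup]
    refine ⟨P w, hPU w, w - P w, ⟨R.sub_mem hw (hUR (hPU w)), ?_⟩, by abel⟩
    show P (w - P w) = 0
    rw [map_sub, hPid _ (hPU w), sub_self]

end Cfsg.Agent.Helper63.SPI
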