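import Mathlib

set_option autoImplicit false

namespace Cfsg.Agent.Helper63

variable {S : Type*} [Group S]

/-- In a finite `p`-group a subgroup of index `p` is normal. -/
theorem normal_of_index_eq_prime [Finite S] {p : ℕ} [Fact p.Prime] (hS : IsPGroup p S)
    (Q : Subgroup S) (hQi : Q.index = p) : Q.Normal := by
  have hp : p.Prime := Fact.out
  apply Subgroup.normal_of_index_eq_minFac_card
  obtain ⟨n, hn⟩ := hS.exists_card_eq
  have hn0 : n ≠ 0 := by
    rintro rfl
    have h1 : Nat.card S = 1 := by simpa using hn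
    have h2 : Q.index ∣ Nat.card S := Subgroup.index_dvd_card Q
    rw [h1, hQi] at h2
    exact hp.one_lt.ne' (Nat.dvd_one.mp h2)
  rw [hQi, hn, hp.pow_minFac hn0]

/-- A normal subgroup of prime order `p` in a finite `p`-group is central. -/
theorem normal_card_prime_le_center [Finite S] {p : ℕ} [Fact p.Prime] (hS : IsPGroup p S)
    (Z : Subgroup S) [hZn : Z.Normal] (hZ : Nat.card Z = p) : Z ≤ Subgroup.center S := by
  classical
  let _ : MulAction S Z := MulAction.compHom Z (MulAut.conjNormal (H := Z))
  have hsmul : ∀ (g : S) (z : Z), ((g • z : Z) : S) = g * z * g⁻¹ := by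
    intro g z
    rfl
  have h1 : (1 : Z) ∈ MulAction.fixedPoints S Z := by
    intro g
    apply Subtype.ext
    rw [hsmul]
    simp
  obtain ⟨b, hb, hb1⟩ := hS.exists_fixed_point_of_prime_dvd_card_of_fixed_point (α := Z)
    (by rw [hZ]) h1
  have hbc : (b : S) ∈ Subgroup.center S := by
    rw [Subgroup.mem_center_iff]
    intro g
    have := congrArg (fun z : Z => (z : S)) (hb g)
    simp only [hsmul] at this
    calc g * b = g * b * g⁻¹ * g := by group
      _ = b * g := by rw [this]
  have htop : Subgroup.zpowers b = ⊤ := zpowers_eq_top_of_prime_card hZ (Ne.symm hb1)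
  intro z hz
  have : (⟨z, hz⟩ : Z) ∈ Subgroup.zpowers b := by rw [htop]; trivial
  obtain ⟨k, hk⟩ := Subgroup.mem_zpowers_iff.mp this
  have hz' : z = (b : S) ^ k := by
    have := congrArg (fun z : Z => (z : S)) hk
    simpa using this.symm
  rw [hz']
  exact Subgroup.zpow_mem _ hbc k

/-- A subgroup of prime index is maximal: anything strictly above is everything. -/
theorem eq_top_of_index_prime_of_not_le {p : ℕ} [Fact p.Prime] [Finite S]
    (Q K : Subgroup S) (hQi : Q.index = p) (hQK : Q ≤ K) (hne : ¬ K ≤ Q) : K = ⊤ := by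
  have hp : p.Prime := Fact.out
  have h1 : K.index ∣ Q.index := Subgroup.index_dvd_of_le hQK
  rw [hQi] at h1
  rcases (Nat.dvd_prime hp).mp h1 with h | h
  · exact Subgroup.index_eq_one.mp h
  · exfalso
    have h2 : Q.relIndex K * K.index = Q.index := Subgroup.relIndex_mul_index hQK
    rw [h, hQi] at h2
    have h3 : Q.relIndex K = 1 := by
      have hp0 : 0 < p := hp.pos
      exact Nat.eq_of_mul_eq_mul_right hp0 (by rw [h2, one_mul])
    exact hne (Subgroup.relIndex_eq_one.mp h3)

end Cfsg.Agent.Helper63
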