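import Mathlib
import Cfsg.Agent.Lib.Helper14.SPIDefs

/-!
# SPI piece (CNT) `order_dvd_finrank` for helper14's server (S5961)
-/

set_option autoImplicit false

namespace Cfsg.Agent.Helper63.SPI

open Module Polynomial Cfsg.Agent.Helper14.SPI

/-- (CNT) counting: `⟨x⟩` acts freely on `W \ {0}`, so `r ∣ q ^ dim W - 1`. -/
theorem order_dvd_finrank {F V : Type*} [Field F] [Fintype F] [AddCommGroup V] [Module F V]
    [FiniteDimensional F V] (x : V →ₗ[F] V) (r : ℕ) [Fact r.Prime]
    (hrq : ¬ r ∣ Fintype.card F) (hxr : x ^ r = 1)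
    (W : Submodule F V) (hWx : W.map x ≤ W) (hfpf : ∀ v ∈ W, x v = v → v = 0) :
    orderOf ((Fintype.card F : ℕ) : ZMod r) ∣ finrank F W := by
  classical
  have : Finite V := Module.finite_of_finite F
  letI : Fintype W := Fintype.ofFinite W
  -- the restriction of `x` to `W`
  set f : Function.End W := fun w => ⟨x w, hWx ⟨w, w.2, rfl⟩⟩ with hf
  have hfm : ∀ (m : ℕ) (w : W), (((f ^ m) w : W) : V) = (x ^ m) w := by
    intro m
    induction m with
    | zero =>
      intro w
      rw [pow_zero, pow_zero]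
      rfl
    | succ m ih =>
      intro w
      rw [pow_succ', pow_succ']
      show x (((f ^ m) w : W) : V) = (x * x ^ m) w
      rw [ih w, Module.End.mul_apply]
  have hfr : f ^ r ^ 1 = 1 := by
    rw [pow_one]
    funext w
    apply Subtype.ext
    rw [hfm r w, hxr]
    rfl
  have hmod := Equiv.Perm.card_fixedPoints_modEq (f := f) (p := r) (n := 1) hfr
  -- the only fixed point is `0`
  have hfix : Fintype.card (Function.fixedPoints f) = 1 := by
    rw [Fintype.card_eq_one_iff]
    refine ⟨⟨0, ?_⟩, ?_⟩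
    · show f 0 = 0
      apply Subtype.ext
      show x ((0 : W) : V) = ((0 : W) : V)
      simp
    · rintro ⟨w, hw⟩
      apply Subtype.ext
      have h1 : f w = w := hw
      have h2 : x (w : V) = (w : V) := congrArg Subtype.val h1
      have h3 : (w : V) = 0 := hfpf _ w.2 h2
      show w = 0
      exact Subtype.ext h3
  rw [hfix, Module.card_eq_pow_finrank (K := F) (V := W)] at hmod
  have h1 : (((Fintype.card F ^ finrank F W : ℕ)) : ZMod r) = ((1 : ℕ) : ZMod r) :=
    (ZMod.natCast_eq_natCast_iff _ _ _).2 hmod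
  rw [Nat.cast_pow, Nat.cast_one] at h1
  exact orderOf_dvd_of_pow_eq_one h1

end Cfsg.Agent.Helper63.SPI
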