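import Mathlib
import Cfsg.Agent.Lib.Helper14.GLIDefs
import Cfsg.Agent.Lib.Helper63.GLIGFIX
import Cfsg.Agent.Lib.Helper63.SPICNT

/-!
# GLI piece (GCDVD) `gl_order_dvd_moved` for helper14's server (S5958)
-/

set_option autoImplicit false

namespace Cfsg.Agent.Helper63.GLI

open Module Polynomial Cfsg.Agent.Helper14.GLI

/-- (GCDVD) from (GFIX) + SPI (CNT) on `W.map (x-1)`. -/
theorem gl_order_dvd_moved {F V : Type*} [Field F] [Fintype F] [AddCommGroup V] [Module F V]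
    [FiniteDimensional F V] (x : V →ₗ[F] V) (r : ℕ) [Fact r.Prime] (hr0 : (r : F) ≠ 0)
    (hrq : ¬ r ∣ Fintype.card F) (hxr : x ^ r = 1)
    (W : Submodule F V) (hWx : W.map x ≤ W) :
    orderOf ((Fintype.card F : ℕ) : ZMod r) ∣ finrank F (W.map (x - 1)) := by
  obtain ⟨-, -, h3, h4⟩ := gl_fix_decomp x r hr0 hxr W hWx
  exact Cfsg.Agent.Helper63.SPI.order_dvd_finrank x r hrq hxr (W.map (x - 1)) h3 h4

end Cfsg.Agent.Helper63.GLI
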