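import Mathlib
import Cfsg.Prelude.Def_Transfer

set_option autoImplicit false

namespace Cfsg.Agent.Helper63

open scoped commutatorElement

variable {G : Type*} [Group G]

/-- the centre of a subgroup, as a subgroup of the ambient group -/
def zOf (P : Subgroup G) : Subgroup G := P ⊓ Subgroup.centralizer (P : Set G)

lemma mem_zOf {P : Subgroup G} {c : G} : c ∈ zOf P ↔ c ∈ P ∧ ∀ g ∈ P, g * c = c * g := by
  unfold zOf
  rw [Subgroup.mem_inf, Subgroup.mem_centralizer_iff]
  rfl

lemma comm_mem_zOf {P : Subgroup G} (hPc : ⁅P, P⁆ ≤ zOf P) {a b : G} (ha : a ∈ P) (hb : b ∈ P) :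
    ⁅a, b⁆ ∈ zOf P := hPc (Subgroup.commutator_mem_commutator ha hb)

/-- bilinearity in the second variable when commutators are central -/
lemma comm_mul_right {P : Subgroup G} (hPc : ⁅P, P⁆ ≤ zOf P) {a b c : G} (ha : a ∈ P) (hb : b ∈ P)
    (hc : c ∈ P) : ⁅a, b * c⁆ = ⁅a, b⁆ * ⁅a, c⁆ := by
  have h1 := (mem_zOf.mp (comm_mem_zOf hPc ha hc)).2 b hb
  -- b * ⁅a,c⁆ = ⁅a,c⁆ * b
  have h2 : ⁅a, b * c⁆ = a * b * a⁻¹ * ⁅a, c⁆ * b⁻¹ := by
    simp only [commutatorElement_def]; group
  rw [h2]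
  have h3 : a * b * a⁻¹ * ⁅a, c⁆ * b⁻¹ = a * b * a⁻¹ * (⁅a, c⁆ * b⁻¹) := by group
  have h4 : ⁅a, c⁆ * b⁻¹ = b⁻¹ * ⁅a, c⁆ := by
    have : b⁻¹ * (b * ⁅a, c⁆) * b⁻¹ = b⁻¹ * (⁅a, c⁆ * b) * b⁻¹ := by rw [h1]
    have e1 : b⁻¹ * (b * ⁅a, c⁆) * b⁻¹ = ⁅a, c⁆ * b⁻¹ := by group
    have e2 : b⁻¹ * (⁅a, c⁆ * b) * b⁻¹ = b⁻¹ * ⁅a, c⁆ := by group
    rw [e1, e2] at this
    exact this
  rw [h3, h4]
  simp only [commutatorElement_def]; group

/-- The main counting theorem: a finite group whose centre has prime order `p` and whose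
commutator subgroup is central has order `p ^ (2 n + 1)`; stated for subgroups of an ambient group. -/
theorem card_of_center_prime [Finite G] {p : ℕ} [hp : Fact p.Prime] :
    ∀ (m : ℕ) (P : Subgroup G), Nat.card P = m → Nat.card (zOf P) = p → ⁅P, P⁆ ≤ zOf P →
      ∃ n : ℕ, Nat.card P = p ^ (2 * n + 1) := by
  intro m
  induction m using Nat.strong_induction_on with
  | _ m ih =>
  intro P hPm hZ hPc
  by_cases hab : P ≤ zOf P
  · -- abelian case
    refine ⟨0, ?_⟩
    have : zOf P = P := le_antisymm inf_le_left hab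
    rw [this] at hZ
    simpa using hZ
  · -- non-abelian
    have hex : ∃ x ∈ P, x ∉ zOf P := by
      by_contra hcon
      push Not at hcon
      exact hab hcon
    obtain ⟨x, hxP, hxZ⟩ := hex
    have hey : ∃ y ∈ P, ⁅x, y⁆ ≠ 1 := by
      by_contra hcon
      push Not at hcon
      apply hxZ
      rw [mem_zOf]
      refine ⟨hxP, fun g hg => ?_⟩
      have := hcon g hg
      rw [commutatorElement_eq_one_iff_mul_comm] at this
      exact this.symm
    obtain ⟨y, hyP, hxy⟩ := hey
    set z : G := ⁅x, y⁆ with hz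
    have hzZ : z ∈ zOf P := comm_mem_zOf hPc hxP hyP
    set Z : Subgroup G := zOf P with hZdef
    have hZP : Z ≤ P := inf_le_left
    -- Z is generated by z
    have hZgen : ∀ u : Z, ∃ k : ℤ, u = (⟨z, hzZ⟩ : Z) ^ k := by
      intro u
      have hne : (⟨z, hzZ⟩ : Z) ≠ 1 := by
        intro h; apply hxy; exact congrArg Subtype.val h
      have htop := zpowers_eq_top_of_prime_card hZ hne
      have : u ∈ Subgroup.zpowers (⟨z, hzZ⟩ : Z) := by rw [htop]; trivial
      obtain ⟨k, hk⟩ := Subgroup.mem_zpowers_iff.mp this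
      exact ⟨k, hk.symm⟩
    -- Z is commutative
    have hZcomm : ∀ u v : Z, u * v = v * u := by
      intro u v
      apply Subtype.ext
      exact ((mem_zOf.mp v.2).2 u (hZP u.2))
    -- the hom
    let φ : ↥P →* (↥Z × ↥Z) :=
      { toFun := fun g => (⟨⁅x, (g : G)⁆, comm_mem_zOf hPc hxP g.2⟩, ⟨⁅y, (g : G)⁆, comm_mem_zOf hPc hyP g.2⟩)
        map_one' := by
          apply Prod.ext <;> apply Subtype.ext <;> simp
        map_mul' := by
          intro g h
          apply Prod.ext <;> apply Subtype.ext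
          · exact comm_mul_right hPc hxP g.2 h.2
          · exact comm_mul_right hPc hyP g.2 h.2 }
    have hφx : φ ⟨x, hxP⟩ = (1, (⟨z, hzZ⟩ : Z)⁻¹) := by
      apply Prod.ext <;> apply Subtype.ext
      · simp [φ]
      · simp only [φ, MonoidHom.coe_mk, OneHom.coe_mk, Subgroup.coe_inv]
        rw [hz, commutatorElement_inv]
    have hφy : φ ⟨y, hyP⟩ = ((⟨z, hzZ⟩ : Z), 1) := by
      apply Prod.ext <;> apply Subtype.ext
      · simp [φ, hz]
      · simp [φ]
    -- W = closure {x,y}
    set W : Subgroup G := Subgroup.closure {x, y} with hW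
    have hWP : W ≤ P := by
      rw [hW, Subgroup.closure_le]
      intro g hg
      rcases hg with rfl | rfl
      · exact hxP
      · exact hyP
    have hsurjW : ∀ t : ↥Z × ↥Z, ∃ w : ↥P, (w : G) ∈ W ∧ φ w = t := by
      intro t
      obtain ⟨i, hi⟩ := hZgen t.1
      obtain ⟨j, hj⟩ := hZgen t.2
      refine ⟨(⟨y, hyP⟩ : P) ^ i * (⟨x, hxP⟩ : P) ^ (-j), ?_, ?_⟩
      · have hxW : x ∈ W := Subgroup.subset_closure (by simp)
        have hyW : y ∈ W := Subgroup.subset_closure (by simp)
        simp only [Subgroup.coe_mul, Subgroup.coe_zpow]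
        exact W.mul_mem (W.zpow_mem hyW i) (W.zpow_mem hxW (-j))
      · rw [map_mul, map_zpow, map_zpow, hφx, hφy]
        apply Prod.ext
        · simp [hi]
        · simp [hj]
    have hsurj : Function.Surjective φ := fun t => by
      obtain ⟨w, _, hw⟩ := hsurjW t
      exact ⟨w, hw⟩
    -- C
    set C : Subgroup G := P ⊓ Subgroup.centralizer {x, y} with hC
    have hCP : C ≤ P := inf_le_left
    have hker : ∀ g : ↥P, g ∈ φ.ker ↔ (g : G) ∈ C := by
      intro g
      rw [MonoidHom.mem_ker, hC, Subgroup.mem_inf, Subgroup.mem_centralizer_iff]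
      constructor
      · intro h
        have h1 : ⁅x, (g : G)⁆ = 1 := congrArg (fun t : ↥Z × ↥Z => (t.1 : G)) h
        have h2 : ⁅y, (g : G)⁆ = 1 := congrArg (fun t : ↥Z × ↥Z => (t.2 : G)) h
        rw [commutatorElement_eq_one_iff_mul_comm] at h1 h2
        refine ⟨g.2, ?_⟩
        intro t ht
        rcases ht with rfl | rfl
        · exact h1
        · exact h2
      · rintro ⟨_, h⟩
        have h1 : ⁅x, (g : G)⁆ = 1 := by
          rw [commutatorElement_eq_one_iff_mul_comm]; exact h x (by simp)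
        have h2 : ⁅y, (g : G)⁆ = 1 := by
          rw [commutatorElement_eq_one_iff_mul_comm]; exact h y (by simp)
        apply Prod.ext <;> apply Subtype.ext
        · exact h1
        · exact h2
    have hkerC : φ.ker = C.subgroupOf P := by
      ext g
      rw [hker, Subgroup.mem_subgroupOf]
    -- cardinalities
    have hcardP : Nat.card P = Nat.card C * (p * p) := by
      have h1 : Nat.card φ.ker * φ.ker.index = Nat.card P := Subgroup.card_mul_index _
      have h2 : φ.ker.index = Nat.card φ.range := Subgroup.index_ker φ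
      have h3 : φ.range = ⊤ := MonoidHom.range_eq_top.mpr hsurj
      have h4 : Nat.card φ.range = p * p := by
        rw [h3, Subgroup.card_top, Nat.card_prod, hZ]
      have h5 : Nat.card φ.ker = Nat.card C := by
        rw [hkerC]
        exact Nat.card_congr (Subgroup.subgroupOfEquivOfLe hCP).toEquiv
      rw [← h1, h2, h4, h5]
    -- zOf C = Z
    have hZC : zOf C = Z := by
      apply le_antisymm
      · intro c hc
        obtain ⟨hcC, hcc⟩ := mem_zOf.mp hc
        have hcP : c ∈ P := hCP hcC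
        rw [hZdef, mem_zOf]
        refine ⟨hcP, ?_⟩
        intro g hg
        obtain ⟨w, hwW, hw⟩ := hsurjW (φ ⟨g, hg⟩)
        -- g * w⁻¹ ∈ C
        have h1 : (⟨g, hg⟩ : P) * w⁻¹ ∈ φ.ker := by
          rw [MonoidHom.mem_ker, map_mul, map_inv, hw, mul_inv_cancel]
        rw [hker] at h1
        have h2 : g * (w : G)⁻¹ ∈ C := h1
        -- c commutes with w
        have hcw : (w : G) * c = c * (w : G) := by
          have hc' : c ∈ Subgroup.centralizer (W : Set G) := by
            rw [hW, Subgroup.centralizer_closure]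
            exact hcC.2
          exact (Subgroup.mem_centralizer_iff.mp hc') w hwW
        have hcg := hcc _ h2
        have : g = (g * (w : G)⁻¹) * w := by group
        rw [this]
        calc g * (w : G)⁻¹ * w * c = g * (w : G)⁻¹ * (w * c) := by group
          _ = g * (w : G)⁻¹ * (c * w) := by rw [hcw]
          _ = (g * (w : G)⁻¹ * c) * w := by group
          _ = (c * (g * (w : G)⁻¹)) * w := by rw [hcg]
          _ = c * (g * (w : G)⁻¹ * w) := by group
      · intro c hc
        obtain ⟨hcP, hcc⟩ := mem_zOf.mp hc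
        rw [mem_zOf]
        refine ⟨?_, fun g hg => hcc g (hCP hg)⟩
        rw [hC, Subgroup.mem_inf, Subgroup.mem_centralizer_iff]
        refine ⟨hcP, ?_⟩
        intro t ht
        rcases ht with rfl | rfl
        · exact hcc _ hxP
        · exact hcc _ hyP
    have hCc : ⁅C, C⁆ ≤ zOf C := by
      rw [hZC]
      exact le_trans (Subgroup.commutator_mono hCP hCP) hPc
    have hpp : 1 < p * p := by
      have := hp.out.one_lt
      nlinarith
    have hlt : Nat.card C < m := by
      rw [← hPm, hcardP]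
      have : 0 < Nat.card C := Nat.card_pos
      nlinarith
    obtain ⟨n, hn⟩ := ih (Nat.card C) hlt C rfl (by rw [hZC]; exact hZ) hCc
    refine ⟨n + 1, ?_⟩
    rw [hcardP, hn]
    ring

/-- `x ^ p` is central when commutators are central of order `p`. -/
lemma pow_p_mem_zOf [Finite G] {p : ℕ} [hp : Fact p.Prime] (P : Subgroup G)
    (hZ : Nat.card (zOf P) = p) (hPc : ⁅P, P⁆ ≤ zOf P) {x : G} (hx : x ∈ P) : x ^ p ∈ zOf P := by
  rw [mem_zOf]
  refine ⟨P.pow_mem hx p, ?_⟩
  intro g hg
  -- ⁅g, x ^ n⁆ = ⁅g, x⁆ ^ n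
  have hpow : ∀ n : ℕ, ⁅g, x ^ n⁆ = ⁅g, x⁆ ^ n := by
    intro n
    induction n with
    | zero => simp
    | succ n ih =>
      rw [pow_succ, comm_mul_right hPc hg (P.pow_mem hx n) hx, ih, pow_succ]
  have h1 : ⁅g, x⁆ ^ p = 1 := by
    have hmem := comm_mem_zOf hPc hg hx
    have : (⟨⁅g, x⁆, hmem⟩ : zOf P) ^ p = 1 := by
      rw [← hZ]; exact pow_card_eq_one'
    exact congrArg Subtype.val this
  have h2 : ⁅g, x ^ p⁆ = 1 := by rw [hpow, h1]
  rw [commutatorElement_eq_one_iff_mul_comm] at h2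
  exact h2

lemma zOf_top : zOf (⊤ : Subgroup G) = Subgroup.center G := by
  unfold zOf
  rw [Subgroup.coe_top, Subgroup.centralizer_univ, top_inf_eq]

/-- Type-level hypotheses extracted from `Cfsg.IsExtraspecial`. -/
lemma extraspecial_hyps {Q : Type*} [Group Q] {p : ℕ} (h : Cfsg.IsExtraspecial p Q) :
    Nat.card (zOf (⊤ : Subgroup Q)) = p ∧ ⁅(⊤ : Subgroup Q), ⊤⁆ ≤ zOf (⊤ : Subgroup Q) := by
  rw [zOf_top]
  refine ⟨h.2, ?_⟩
  have := h.1.2.2
  rw [commutator_def] at this
  rw [this]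

/-- The order of an extraspecial `p`-group is `p ^ (2 n + 1)` with `n ≥ 1`. -/
theorem extraspecial_card {Q : Type*} [Group Q] [Finite Q] {p : ℕ} [hp : Fact p.Prime]
    (h : Cfsg.IsExtraspecial p Q) : ∃ n : ℕ, 1 ≤ n ∧ Nat.card Q = p ^ (2 * n + 1) := by
  obtain ⟨h1, h2⟩ := extraspecial_hyps h
  obtain ⟨n, hn⟩ := card_of_center_prime (Nat.card (⊤ : Subgroup Q)) ⊤ rfl h1 h2
  rw [Subgroup.card_top] at hn
  refine ⟨n, ?_, hn⟩
  by_contra hlt
  have hn0 : n = 0 := by omega
  subst hn0
  simp only [mul_zero, zero_add, pow_one] at hn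
  have : IsCyclic Q := isCyclic_of_prime_card hn
  have hcomm : commutator Q = ⊥ := by
    rw [commutator_def, Subgroup.commutator_eq_bot_iff_le_centralizer]
    intro x _
    rw [Subgroup.mem_centralizer_iff]
    intro y _
    obtain ⟨g, hg⟩ := IsCyclic.exists_zpow_surjective (G := Q)
    obtain ⟨a, rfl⟩ := hg x
    obtain ⟨b, rfl⟩ := hg y
    rw [← zpow_add, ← zpow_add, add_comm]
  have hc : Nat.card (Subgroup.center Q) = p := h.2
  rw [← h.1.2.2, hcomm] at hc
  simp at hc
  exact hp.out.one_lt.ne' hc.symm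

/-- In an extraspecial group `p`-th powers are central. -/
theorem extraspecial_pow_mem_center {Q : Type*} [Group Q] [Finite Q] {p : ℕ} [hp : Fact p.Prime]
    (h : Cfsg.IsExtraspecial p Q) (x : Q) : x ^ p ∈ Subgroup.center Q := by
  obtain ⟨h1, h2⟩ := extraspecial_hyps h
  have := pow_p_mem_zOf (⊤ : Subgroup Q) h1 h2 (Subgroup.mem_top x)
  rwa [zOf_top] at this

end Cfsg.Agent.Helper63
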