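import Mathlib
import Cfsg.Agent.Lib.Helper3.S4017DDefs

/-!
# (L5) `hcomm_of_caseD` of helper3's lemma server "S4017D" (S4017)

`{1, s, u, s u}` is a Sylow 2-subgroup, conjugate to `Q`; `v` centralises it, so lies in it by `cent_Q`.
-/

set_option autoImplicit false

namespace Cfsg.Agent.Helper63.S4017D

open Cfsg.Agent.Helper3.S4017
open scoped Pointwise

variable {G : Type*} [Group G] [Finite G]

/-- the four-group generated by two commuting involutions -/
def fourSub (s u : G) (hs2 : s * s = 1) (hu2 : u * u = 1) (hus : u * s = s * u) : Subgroup G where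
  carrier := {1, s, u, s * u}
  one_mem' := by simp
  mul_mem' := by
    have e1 : s * (s * u) = u := by rw [← mul_assoc, hs2, one_mul]
    have e2 : u * (s * u) = s := by rw [← mul_assoc, hus, mul_assoc, hu2, mul_one]
    have e3 : s * u * s = u := by rw [mul_assoc, hus, ← mul_assoc, hs2, one_mul]
    have e4 : s * u * u = s := by rw [mul_assoc, hu2, mul_one]
    have e5 : s * u * (s * u) = 1 := by rw [← mul_assoc, e3, hu2]
    rintro a b (rfl | rfl | rfl | rfl) (rfl | rfl | rfl | rfl) <;>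
      simp [hs2, hu2, hus, e1, e2, e3, e4, e5]
  inv_mem' := by
    have i1 : s⁻¹ = s := inv_eq_of_mul_eq_one_right hs2
    have i2 : u⁻¹ = u := inv_eq_of_mul_eq_one_right hu2
    have i3 : (s * u)⁻¹ = s * u := by rw [mul_inv_rev, i1, i2, hus]
    rintro a (rfl | rfl | rfl | rfl) <;> simp [i1, i2, i3]

omit [Finite G] in
theorem mem_fourSub {s u : G} (hs2 : s * s = 1) (hu2 : u * u = 1) (hus : u * s = s * u) (x : G) :
    x ∈ fourSub s u hs2 hu2 hus ↔ x = 1 ∨ x = s ∨ x = u ∨ x = s * u := Iff.rfl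

/-- (L5) -/
theorem hcomm_of_caseD {Q P : Subgroup G} {t : G} {w : ℕ}
    (h : CaseD G Q P t w) (s u : G) (hs : orderOf s = 2) (hu : orderOf u = 2) (hsu : s ≠ u)
    (hc : Commute s u) (v : G) (hv : orderOf v = 2) (hvs : Commute v s) (hvu : Commute v u) :
    v = s ∨ v = u ∨ v = s * u := by
  classical
  have hs2 : s * s = 1 := by rw [← sq, ← hs, pow_orderOf_eq_one]
  have hu2 : u * u = 1 := by rw [← sq, ← hu, pow_orderOf_eq_one]
  have hus : u * s = s * u := hc.eq.symm
  have hs1 : s ≠ 1 := by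
    intro e; rw [e, orderOf_one] at hs; omega
  have hu1 : u ≠ 1 := by
    intro e; rw [e, orderOf_one] at hu; omega
  have hv1 : v ≠ 1 := by
    intro e; rw [e, orderOf_one] at hv; omega
  have hsu1 : s * u ≠ 1 := by
    intro e
    apply hsu
    have : s = u⁻¹ := eq_inv_of_mul_eq_one_left e
    rw [this]; exact inv_eq_of_mul_eq_one_right hu2
  set K : Subgroup G := fourSub s u hs2 hu2 hus with hK
  have hKmem : ∀ x, x ∈ K ↔ x = 1 ∨ x = s ∨ x = u ∨ x = s * u := mem_fourSub hs2 hu2 hus
  have hK4 : Nat.card K = 4 := by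
    have e : ((K : Subgroup G) : Set G) = {1, s, u, s * u} := rfl
    rw [← SetLike.coe_sort_coe, Nat.card_coe_set_eq, e]
    rw [Set.ncard_insert_of_notMem, Set.ncard_insert_of_notMem, Set.ncard_insert_of_notMem,
      Set.ncard_singleton]
    · simp only [Set.mem_singleton_iff]
      intro e2
      apply hs1
      have : s * u = 1 * u := by rw [one_mul]; exact e2.symm
      exact mul_right_cancel this
    · simp only [Set.mem_insert_iff, Set.mem_singleton_iff, not_or]
      refine ⟨hsu, ?_⟩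
      intro e2
      apply hu1
      have : s * u = s * 1 := by rw [mul_one]; exact e2.symm
      exact mul_left_cancel this
    · simp only [Set.mem_insert_iff, Set.mem_singleton_iff, not_or]
      exact ⟨hs1.symm, hu1.symm, hsu1.symm⟩
  -- the 2-part of `|G|` is 4
  have hG0 : Nat.card G ≠ 0 := Nat.card_pos.ne'
  have h4 : 2 ^ 2 ∣ Nat.card G := by
    have := Subgroup.card_subgroup_dvd_card Q
    rw [h.card_Q] at this
    exact this
  have h8 : ¬ 2 ^ 3 ∣ Nat.card G := h.not8
  have hfac : (Nat.card G).factorization 2 = 2 := by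
    have a1 := (Nat.Prime.pow_dvd_iff_le_factorization Nat.prime_two hG0).mp h4
    have a2 : ¬ 3 ≤ (Nat.card G).factorization 2 := fun hle =>
      h8 ((Nat.Prime.pow_dvd_iff_le_factorization Nat.prime_two hG0).mpr hle)
    omega
  have : Fact (Nat.Prime 2) := ⟨Nat.prime_two⟩
  let SK : Sylow 2 G := Sylow.ofCard K (by rw [hK4, hfac]; norm_num)
  let SQ : Sylow 2 G := Sylow.ofCard Q (by rw [h.card_Q, hfac]; norm_num)
  obtain ⟨g, hg⟩ := MulAction.exists_smul_eq G SK SQ
  have hmem : ∀ x : G, x ∈ Q ↔ g⁻¹ * x * g ∈ K := by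
    intro x
    have e1 : x ∈ Q ↔ x ∈ ((g • SK : Sylow 2 G) : Subgroup G) := by rw [hg]; rfl
    rw [e1, Sylow.smul_def, Sylow.pointwise_smul_def, Subgroup.mem_pointwise_smul_iff_inv_smul_mem,
      MulAut.smul_def, MulAut.conj_inv_apply]
    rfl
  -- `v` centralises `K`
  have hvK : ∀ k ∈ K, v * k = k * v := by
    intro k hk
    rcases (hKmem k).mp hk with rfl | rfl | rfl | rfl
    · rw [mul_one, one_mul]
    · exact hvs.eq
    · exact hvu.eq
    · rw [← mul_assoc, hvs.eq, mul_assoc, hvu.eq, mul_assoc]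
  have hgv : g * v * g⁻¹ ∈ Q := by
    apply h.cent_Q
    intro x hx
    have hk := (hmem x).mp hx
    have e : x = g * (g⁻¹ * x * g) * g⁻¹ := by group
    rw [e]
    have hcomm := hvK _ hk
    calc g * v * g⁻¹ * (g * (g⁻¹ * x * g) * g⁻¹) = g * (v * (g⁻¹ * x * g)) * g⁻¹ := by group
      _ = g * ((g⁻¹ * x * g) * v) * g⁻¹ := by rw [hcomm]
      _ = g * (g⁻¹ * x * g) * g⁻¹ * (g * v * g⁻¹) := by group
  have hvK' : v ∈ K := by
    have := (hmem _).mp hgv
    have e : g⁻¹ * (g * v * g⁻¹) * g = v := by group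
    rwa [e] at this
  rcases (hKmem v).mp hvK' with e | e | e | e
  · exact absurd e hv1
  · exact Or.inl e
  · exact Or.inr (Or.inl e)
  · exact Or.inr (Or.inr e)

end Cfsg.Agent.Helper63.S4017D
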