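import Cfsg.Agent.Lib.Helper64.S4017Defs
import Cfsg.Agent.Lib.Helper3.S4017DDefs
import Cfsg.Agent.Lib.Helper17.S4017Defs

/-!
# (CQ) `mem_of_centralizes` of helper64's lemma server "S4017M" (S4017), plus small shared tools
-/

set_option autoImplicit false

namespace Cfsg.Agent.Helper63.S4017M

open Cfsg.Agent.Helper64.S4017

variable {G : Type*} [Group G] [Finite G] {a p : ℕ} {Q : Subgroup G} {x : G}

/-- `Q` is abelian (exponent 2) -/
theorem Q_comm (h : Setting a p Q x) {s₁ s₂ : G} (h₁ : s₁ ∈ Q) (h₂ : s₂ ∈ Q) :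
    s₁ * s₂ = s₂ * s₁ := by
  have e1 := h.elem s₁ h₁
  have e2 := h.elem s₂ h₂
  have e3 := h.elem (s₁ * s₂) (Q.mul_mem h₁ h₂)
  have i1 : s₁⁻¹ = s₁ := inv_eq_of_mul_eq_one_right e1
  have i2 : s₂⁻¹ = s₂ := inv_eq_of_mul_eq_one_right e2
  have i3 : (s₁ * s₂)⁻¹ = s₁ * s₂ := inv_eq_of_mul_eq_one_right e3
  rw [mul_inv_rev, i1, i2] at i3
  exact i3.symm

/-- `s⁻¹ = s` in `Q` -/
theorem Q_inv (h : Setting a p Q x) {s : G} (hs : s ∈ Q) : s⁻¹ = s :=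
  inv_eq_of_mul_eq_one_right (h.elem s hs)

/-- `p` is odd -/
theorem p_ne_two (h : Setting a p Q x) : p ≠ 2 := by
  intro e
  have h1 := h.p_eq
  have h2 := h.two_le
  rw [e] at h1
  have h3 : 2 ^ 2 ≤ 2 ^ a := Nat.pow_le_pow_right (by norm_num) h2
  have h4 : 4 ∣ 2 ^ a := by
    obtain ⟨k, rfl⟩ := Nat.exists_eq_add_of_le h2
    rw [pow_add]; exact Dvd.intro _ rfl
  omega

omit [Finite G] in
/-- a `p`-element (`p` odd) of square `1` is trivial -/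
theorem pel_sq_eq_one (hp : p.Prime) (hp2 : p ≠ 2) {z : G} (hz : IsPel p z) (hzz : z * z = 1) :
    z = 1 := by
  obtain ⟨j, hj⟩ := hz
  have hd : orderOf z ∣ 2 := orderOf_dvd_of_pow_eq_one (by rw [sq]; exact hzz)
  rw [hj] at hd
  by_cases hj0 : j = 0
  · rw [hj0, pow_zero] at hj
    exact orderOf_eq_one_iff.mp hj
  · exfalso
    have : p ∣ 2 := (dvd_pow_self p hj0).trans hd
    exact hp2 ((Nat.prime_dvd_prime_iff_eq hp Nat.prime_two).mp this)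

/-- there is a nontrivial element in `Q` -/
theorem exists_ne_one (h : Setting a p Q x) : ∃ t ∈ Q, t ≠ 1 := by
  have h1 : 1 < Nat.card Q := by
    rw [h.card_Q]
    exact Nat.one_lt_two_pow (by have := h.two_le; omega)
  have h2 : Q ≠ ⊥ := (Subgroup.one_lt_card_iff_ne_bot Q).mp h1
  obtain ⟨t, ht⟩ := (Subgroup.ne_bot_iff_exists_ne_one.mp h2)
  exact ⟨t, t.2, fun e => ht (Subtype.ext e)⟩

/-- (CQ) `C(Q) = Q` when `P₁ = 1`. -/
theorem mem_of_centralizes (h : Setting a p Q x) (T : Tools a p Q x) (hP1 : ¬ P1ne p Q)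
    {g : G} (hg : ∀ s ∈ Q, g * s = s * g) : g ∈ Q := by
  obtain ⟨t, ht, ht1⟩ := exists_ne_one h
  obtain ⟨z, s, hz, hzt, hs, hgz⟩ := T.ct1 t ht ht1 g (hg t ht)
  have hzs : z = g * s⁻¹ := by rw [hgz]; group
  have hzc : ∀ q ∈ Q, z * q = q * z := by
    intro q hq
    rw [hzs, mul_assoc, Q_comm h (Q.inv_mem hs) hq, ← mul_assoc, hg q hq, mul_assoc]
  have hz1 : z = 1 := by
    by_contra hne
    exact hP1 ⟨z, hne, hz, hzc⟩
  rw [hgz, hz1, one_mul]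
  exact hs

end Cfsg.Agent.Helper63.S4017M
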