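import Cfsg.Agent.Lib.Helper64.S4017Defs
import Cfsg.Agent.Lib.Helper3.S4017DDefs
import Cfsg.Agent.Lib.Helper17.S4017Defs
import Cfsg.Agent.Lib.Helper63.S4017CQ

/-!
# (D1) `D_inverts` of helper64's lemma server "S4017M" (S4017)
-/

set_option autoImplicit false

namespace Cfsg.Agent.Helper63.S4017M

open Cfsg.Agent.Helper64.S4017

variable {G : Type*} [Group G] [Finite G] {a p : ℕ} {Q : Subgroup G} {x : G}

omit [Finite G] in
/-- conjugates of `p`-elements are `p`-elements -/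
theorem isPel_conj {z : G} (hz : IsPel p z) (g : G) : IsPel p (g * z * g⁻¹) := by
  obtain ⟨j, hj⟩ := hz
  refine ⟨j, ?_⟩
  rw [← hj]
  exact MulEquiv.orderOf_eq (MulAut.conj g) z

/-- when `a = 2`: an element commuting with two distinct nontrivial elements of `Q` commutes with `Q` -/
theorem comm_Q_of_two (h : Setting a p Q x) (ha : a = 2) {t s w : G} (ht : t ∈ Q) (ht1 : t ≠ 1)
    (hs : s ∈ Q) (hs1 : s ≠ 1) (hst : s ≠ t) (hwt : w * t = t * w) (hws : w * s = s * w) :
    ∀ q ∈ Q, w * q = q * w := by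
  classical
  set C : Subgroup G := Q ⊓ Subgroup.centralizer {w} with hC
  have hCle : C ≤ Q := inf_le_left
  have hmemC : ∀ q ∈ Q, w * q = q * w → q ∈ C := by
    intro q hq hwq
    refine Subgroup.mem_inf.mpr ⟨hq, ?_⟩
    rw [Subgroup.mem_centralizer_iff]
    intro y hy
    rw [Set.mem_singleton_iff] at hy
    rw [hy]; exact hwq
  have h1C : (1 : G) ∈ C := C.one_mem
  have htC : t ∈ C := hmemC t ht hwt
  have hsC : s ∈ C := hmemC s hs hws
  have hcardQ : Nat.card Q = 4 := by rw [h.card_Q, ha]; norm_num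
  have hdvd : Nat.card C ∣ 4 := by
    rw [← hcardQ]; exact Subgroup.card_dvd_of_le hCle
  have h3 : 2 < Nat.card C := by
    have : Fintype C := Fintype.ofFinite C
    rw [Nat.card_eq_fintype_card, Fintype.two_lt_card_iff]
    refine ⟨⟨1, h1C⟩, ⟨t, htC⟩, ⟨s, hsC⟩, ?_, ?_, ?_⟩
    · intro e; exact ht1 (congrArg Subtype.val e).symm
    · intro e; exact hs1 (congrArg Subtype.val e).symm
    · intro e; exact hst (congrArg Subtype.val e).symm
  have hC4 : Nat.card C = 4 := by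
    have h4 := Nat.le_of_dvd (by norm_num) hdvd
    have h34 : Nat.card C = 3 ∨ Nat.card C = 4 := by omega
    rcases h34 with e | e
    · rw [e] at hdvd; norm_num at hdvd
    · exact e
  have hCQ : C = Q := Subgroup.eq_of_le_of_card_ge hCle (by rw [hC4, hcardQ])
  intro q hq
  have hqC : q ∈ C := by rw [hCQ]; exact hq
  exact (Subgroup.mem_centralizer_iff.mp (Subgroup.mem_inf.mp hqC).2) w rfl

/-- (D1) -/
theorem D_inverts (h : Setting a p Q x) (T : Tools a p Q x) (ha : a = 2) (hP1 : ¬ P1ne p Q)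
    {t s z : G} (ht : t ∈ Q) (ht1 : t ≠ 1) (hs : s ∈ Q) (hs1 : s ≠ 1) (hst : s ≠ t)
    (hz : IsPel p z) (hzt : z * t = t * z) : s * z * s⁻¹ = z⁻¹ := by
  obtain ⟨Z, hZmem, hZcomm⟩ := T.ct t ht ht1
  have hsi : s⁻¹ = s := Q_inv h hs
  have hss : s * s = 1 := h.elem s hs
  have hst' : s * t = t * s := Q_comm h hs ht
  have hz' : IsPel p (s * z * s⁻¹) := isPel_conj hz s
  have hz't : (s * z * s⁻¹) * t = t * (s * z * s⁻¹) := by
    rw [hsi]
    calc s * z * s * t = s * z * (s * t) := by group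
      _ = s * z * (t * s) := by rw [hst']
      _ = s * (z * t) * s := by group
      _ = s * (t * z) * s := by rw [hzt]
      _ = (s * t) * z * s := by group
      _ = (t * s) * z * s := by rw [hst']
      _ = t * (s * z * s) := by group
  have hzZ : z ∈ Z := (hZmem z).mpr ⟨hzt, hz⟩
  have hz'Z : s * z * s⁻¹ ∈ Z := (hZmem _).mpr ⟨hz't, hz'⟩
  have hwZ : z * (s * z * s⁻¹) ∈ Z := Z.mul_mem hzZ hz'Z
  obtain ⟨hwt, hwpel⟩ := (hZmem _).mp hwZ
  have hws : z * (s * z * s⁻¹) * s = s * (z * (s * z * s⁻¹)) := by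
    have e0 : s * (s * z * s⁻¹) * s⁻¹ = z := by
      have : s * (s * z * s⁻¹) * s⁻¹ = (s * s) * z * (s * s)⁻¹ := by group
      rw [this, hss, one_mul, inv_one, mul_one]
    have e1 : s * (z * (s * z * s⁻¹)) * s⁻¹ = z * (s * z * s⁻¹) := by
      have : s * (z * (s * z * s⁻¹)) * s⁻¹ = (s * z * s⁻¹) * (s * (s * z * s⁻¹) * s⁻¹) := by group
      rw [this, e0]
      exact hZcomm _ hz'Z _ hzZ
    exact (mul_inv_eq_iff_eq_mul.mp e1).symm
  have hwQ := comm_Q_of_two h ha ht ht1 hs hs1 hst hwt hws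
  have hw1 : z * (s * z * s⁻¹) = 1 := by
    by_contra hne
    exact hP1 ⟨_, hne, hwpel, hwQ⟩
  exact eq_inv_of_mul_eq_one_right hw1

end Cfsg.Agent.Helper63.S4017M
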