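import Cfsg.Agent.Lib.Helper64.S4017Defs
import Cfsg.Agent.Lib.Helper3.S4017DDefs
import Cfsg.Agent.Lib.Helper17.S4017Defs

/-!
# (INVC) `inv_conj` of helper64's lemma server "S4017M" (S4017): one class of involutions
-/

set_option autoImplicit false

namespace Cfsg.Agent.Helper63.S4017M

open Cfsg.Agent.Helper64.S4017
open scoped Pointwise

variable {G : Type*} [Group G] [Finite G] {a p : ℕ} {Q : Subgroup G} {x : G}

/-- the `2`-part of `|G|` is `2 ^ a` -/
theorem factorization_two (h : Setting a p Q x) : (Nat.card G).factorization 2 = a := by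
  have hG0 : Nat.card G ≠ 0 := Nat.card_pos.ne'
  have h4 : 2 ^ a ∣ Nat.card G := by
    have := Subgroup.card_subgroup_dvd_card Q
    rwa [h.card_Q] at this
  have a1 := (Nat.Prime.pow_dvd_iff_le_factorization Nat.prime_two hG0).mp h4
  have a2 : ¬ a + 1 ≤ (Nat.card G).factorization 2 := fun hle =>
    h.sylow ((Nat.Prime.pow_dvd_iff_le_factorization Nat.prime_two hG0).mpr hle)
  omega

/-- `Q` as a Sylow `2`-subgroup -/
noncomputable def sylowQ (h : Setting a p Q x) : Sylow 2 G :=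
  haveI : Fact (Nat.Prime 2) := ⟨Nat.prime_two⟩
  Sylow.ofCard Q (by rw [h.card_Q, factorization_two h])

theorem coe_sylowQ (h : Setting a p Q x) : ((sylowQ h : Sylow 2 G) : Subgroup G) = Q := rfl

/-- every `2`-subgroup is contained in a conjugate of `Q` -/
theorem exists_conj_le (h : Setting a p Q x) (K : Subgroup G) (hK : IsPGroup 2 K) :
    ∃ g : G, ∀ k ∈ K, g⁻¹ * k * g ∈ Q := by
  have : Fact (Nat.Prime 2) := ⟨Nat.prime_two⟩
  obtain ⟨S, hS⟩ := hK.exists_le_sylow
  obtain ⟨g, hg⟩ := MulAction.exists_smul_eq G (sylowQ h) S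
  refine ⟨g, fun k hk => ?_⟩
  have h1 : k ∈ ((g • sylowQ h : Sylow 2 G) : Subgroup G) := by rw [hg]; exact hS hk
  rw [Sylow.smul_def, Sylow.pointwise_smul_def, Subgroup.mem_pointwise_smul_iff_inv_smul_mem,
    MulAut.smul_def, MulAut.conj_inv_apply] at h1
  exact h1

/-- (INVC) one class of involutions. -/
theorem inv_conj (h : Setting a p Q x) {t : G} (ht : t ∈ Q) (ht1 : t ≠ 1) {u : G}
    (hu : IsInv u) : ∃ g : G, g * t * g⁻¹ = u := by
  have hou : orderOf u = 2 := orderOf_eq_prime (by rw [sq]; exact hu.2) hu.1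
  have hK : IsPGroup 2 (Subgroup.zpowers u) := by
    apply IsPGroup.of_card (n := 1)
    rw [Nat.card_zpowers, hou, pow_one]
  obtain ⟨g, hg⟩ := exists_conj_le h _ hK
  have hq := hg u (Subgroup.mem_zpowers u)
  have hq1 : g⁻¹ * u * g ≠ 1 := by
    intro e
    apply hu.1
    have : u = g * (g⁻¹ * u * g) * g⁻¹ := by group
    rw [this, e]; group
  obtain ⟨i, hi⟩ := h.x_trans t ht ht1 _ hq hq1
  refine ⟨g * x ^ i, ?_⟩
  calc g * x ^ i * t * (g * x ^ i)⁻¹ = g * (x ^ i * t * (x ^ i)⁻¹) * g⁻¹ := by group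
    _ = g * (g⁻¹ * u * g) * g⁻¹ := by rw [hi]
    _ = u := by group

end Cfsg.Agent.Helper63.S4017M
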