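import Mathlib

/-!
Piece (C) `card_dvd_of_semiregular` of helper49's sub-server "BG157-E2" (piece E2 of helper2's BG157 server, S1383).
`K` acts freely by conjugation on `P \ Z`, so `#K ∣ p ^ 3 - p = p * ((p - 1) * (p + 1))`, and `#K` is prime to `p`.
-/

set_option autoImplicit false

namespace Cfsg.Agent.Helper63.BG157

open Subgroup

/-- A free action of a finite group `K` on a finite type `X`: `#K ∣ #X`. -/
theorem helper63_card_dvd_of_free {K X : Type*} [Group K] [MulAction K X] [Finite K] [Finite X]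
    (hfree : ∀ x : X, MulAction.stabilizer K x = ⊥) : Nat.card K ∣ Nat.card X := by
  classical
  have e := MulAction.selfEquivSigmaOrbitsQuotientStabilizer K X
  have : Fintype (Quotient (MulAction.orbitRel K X)) := Fintype.ofFinite _
  rw [Nat.card_congr e, Nat.card_sigma]
  refine Finset.dvd_sum fun ω _ => ?_
  have h := Subgroup.card_eq_card_quotient_mul_card_subgroup (MulAction.stabilizer K ω.out)
  rw [hfree ω.out, Subgroup.card_bot, mul_one] at h
  rw [hfree ω.out, ← h]

variable {G : Type*} [Group G] [Finite G]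

theorem card_dvd_of_semiregular {p : ℕ} [Fact p.Prime] (P K Z : Subgroup G)
    (hPc : Nat.card P = p ^ 3) (hKP : K ≤ normalizer (P : Set G)) (hcop : (Nat.card K).Coprime p)
    (hZ : Nat.card Z = p) (hZP : Z ≤ P) (hZK : K ≤ centralizer (Z : Set G))
    (hfix : ∀ k ∈ K, k ≠ 1 → P ⊓ centralizer ({k} : Set G) = Z) :
    Nat.card K ∣ (p - 1) * (p + 1) := by
  classical
  have hp : p.Prime := Fact.out
  -- conjugation by `k ∈ K` preserves `P \ Z`
  have hmemP : ∀ k ∈ K, ∀ x : G, x ∈ P → k * x * k⁻¹ ∈ P := by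
    intro k hk x hx
    exact ((Subgroup.mem_normalizer_iff (H := P)).mp (hKP hk) x).mp hx
  have hconjZ : ∀ k ∈ K, ∀ z ∈ Z, k * z * k⁻¹ = z := by
    intro k hk z hz
    have h := (Subgroup.mem_centralizer_iff.mp (hZK hk)) z hz
    -- h : z * k = k * z
    rw [← h, mul_inv_cancel_right]
  have hmemZ : ∀ k ∈ K, ∀ x : G, x ∉ Z → k * x * k⁻¹ ∉ Z := by
    intro k hk x hx hxz
    apply hx
    have h := hconjZ k⁻¹ (K.inv_mem hk) _ hxz
    have h2 : k⁻¹ * (k * x * k⁻¹) * k⁻¹⁻¹ = x := by group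
    rw [h2] at h
    rw [h]
    exact hxz
  let X := {x : G // x ∈ P ∧ x ∉ Z}
  let _ : MulAction K X :=
    { smul := fun k x => ⟨(k : G) * x.1 * (k : G)⁻¹, hmemP k k.2 x.1 x.2.1, hmemZ k k.2 x.1 x.2.2⟩
      one_smul := fun x => Subtype.ext (by show ((1 : K) : G) * x.1 * ((1 : K) : G)⁻¹ = x.1; simp)
      mul_smul := fun a b x => Subtype.ext (by
        show ((a * b : K) : G) * x.1 * ((a * b : K) : G)⁻¹ = (a : G) * ((b : G) * x.1 * (b : G)⁻¹) * (a : G)⁻¹
        simp [mul_assoc]) }
  have hsmul : ∀ (k : K) (x : X), ((k • x : X) : G) = (k : G) * x.1 * (k : G)⁻¹ := fun _ _ => rfl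
  have hfree : ∀ x : X, MulAction.stabilizer K x = ⊥ := by
    intro x
    rw [eq_bot_iff]
    intro k hk
    rw [MulAction.mem_stabilizer_iff] at hk
    rw [Subgroup.mem_bot]
    by_contra hk1
    have hk1' : (k : G) ≠ 1 := fun h => hk1 (Subtype.ext h)
    have hxk : (k : G) * x.1 * (k : G)⁻¹ = x.1 := by
      rw [← hsmul, hk]
    have hxmem : x.1 ∈ P ⊓ centralizer ({(k : G)} : Set G) := by
      refine Subgroup.mem_inf.mpr ⟨x.2.1, Subgroup.mem_centralizer_iff.mpr ?_⟩
      intro g hg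
      rw [Set.mem_singleton_iff] at hg
      subst hg
      -- goal: k * x = x * k
      calc (k : G) * x.1 = ((k : G) * x.1 * (k : G)⁻¹) * (k : G) := by group
        _ = x.1 * (k : G) := by rw [hxk]
    rw [hfix k k.2 hk1'] at hxmem
    exact x.2.2 hxmem
  have : Finite X := Subtype.finite
  have hdvd : Nat.card K ∣ Nat.card X := helper63_card_dvd_of_free hfree
  -- count `X`
  have hXcard : Nat.card X + p = p ^ 3 := by
    have h1 : Nat.card X = Nat.card {x : P // (x : G) ∉ Z} := by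
      refine Nat.card_congr
        { toFun := fun x => ⟨⟨x.1, x.2.1⟩, x.2.2⟩
          invFun := fun x => ⟨x.1.1, x.1.2, x.2⟩
          left_inv := fun _ => rfl
          right_inv := fun _ => rfl }
    have h2 : Nat.card {x : P // (x : G) ∈ Z} = p := by
      rw [← hZ]
      refine Nat.card_congr
        { toFun := fun x => ⟨x.1.1, x.2⟩
          invFun := fun z => ⟨⟨z.1, hZP z.2⟩, z.2⟩
          left_inv := fun _ => rfl
          right_inv := fun _ => rfl }
    have h3 := Nat.card_congr (Equiv.sumCompl (fun x : P => (x : G) ∈ Z))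
    rw [Nat.card_sum, h2, hPc] at h3
    rw [h1]
    omega
  have hfact : p * ((p - 1) * (p + 1)) = Nat.card X := by
    have hp1 : 1 ≤ p := hp.one_lt.le
    obtain ⟨q, rfl⟩ : ∃ q, p = q + 1 := ⟨p - 1, by omega⟩
    have : (q + 1) * ((q + 1 - 1) * (q + 1 + 1)) + (q + 1) = (q + 1) ^ 3 := by
      rw [Nat.add_sub_cancel]; ring
    omega
  rw [← hfact] at hdvd
  exact hcop.dvd_of_dvd_mul_left hdvd

end Cfsg.Agent.Helper63.BG157
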