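import Cfsg.Agent.Lib.Helper63.SU3Local

/-!
# Involutions of `SU₃(q)`, `q` odd

Every involution of `SU₃(q)` is the reflection `x ↦ -x + 2 (B x u / B u u) u` attached to an
anisotropic point `⟨u⟩`; `SU₃(q)` is transitive on anisotropic points.
-/

set_option autoImplicit false
set_option linter.unusedSectionVars false
open Cfsg

namespace Cfsg.Agent.Helper63.SU3

open Matrix Module Cfsg.Agent.Lead Cfsg.Agent.Helper19

variable {K : Type*} [Field K] [Fintype K] {q : ℕ} (hK : Fintype.card K = q ^ 2)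

include hK in
/-- in odd characteristic `2 ≠ 0` -/
lemma two_ne_zero_of_odd (hq : Odd q) : (2 : K) ≠ 0 := by
  obtain ⟨p, hp, hc, j, rfl⟩ := herm_q_eq_pow hK
  intro h2
  have h3 : ((2 : ℕ) : K) = 0 := by exact_mod_cast h2
  rw [CharP.cast_eq_zero_iff K p 2] at h3
  have hp2 : p = 2 := (Nat.prime_dvd_prime_iff_eq hp.out Nat.prime_two).mp h3
  subst hp2
  have hj : j ≠ 0 := by
    rintro rfl
    have := herm_two_le hK
    omega
  exact (Nat.not_even_iff_odd.mpr hq) ((Nat.even_pow' hj).mpr even_two)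

/-- `M` acts as the reflection with axis `u`: it fixes `u` and negates the perp of `u` -/
def IsRefl (M : Matrix (Fin 3) (Fin 3) K) (u : Fin 3 → K) : Prop :=
  stdHerm hK 3 u u ≠ 0 ∧ M *ᵥ u = u ∧ ∀ w, stdHerm hK 3 w u = 0 → M *ᵥ w = -w

variable {hK}

/-- orthogonal decomposition with respect to an anisotropic vector -/
lemma perp_part {u : Fin 3 → K} (hu : stdHerm hK 3 u u ≠ 0) (x : Fin 3 → K) :
    stdHerm hK 3 (x - (stdHerm hK 3 x u / stdHerm hK 3 u u) • u) u = 0 := by
  set B := stdHerm hK 3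
  rw [B.sub_left, B.smul_left, div_mul_cancel₀ _ hu, sub_self]

lemma neg_right (hq : Odd q) (a b : Fin 3 → K) : stdHerm hK 3 a (-b) = - stdHerm hK 3 a b := by
  have h := (stdHerm hK 3).smul_right (-1) a b
  rw [neg_one_smul, hq.neg_one_pow, neg_one_mul] at h
  exact h

lemma IsRefl.unique {M M' : Matrix (Fin 3) (Fin 3) K} {u : Fin 3 → K} (h : IsRefl hK M u)
    (h' : IsRefl hK M' u) : M = M' := by
  have h0 : M - M' = 0 := by
    apply matrix_eq_zero_of_mulVec
    intro x
    have hx : x = (stdHerm hK 3 x u / stdHerm hK 3 u u) • u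
        + (x - (stdHerm hK 3 x u / stdHerm hK 3 u u) • u) := by abel
    have hw := perp_part h.1 x
    rw [hx, Matrix.sub_mulVec, Matrix.mulVec_add, Matrix.mulVec_add, Matrix.mulVec_smul,
      Matrix.mulVec_smul, h.2.1, h'.2.1, h.2.2 _ hw, h'.2.2 _ hw, sub_self]
  exact sub_eq_zero.mp h0

lemma IsRefl.smul {M : Matrix (Fin 3) (Fin 3) K} {u : Fin 3 → K} (h : IsRefl hK M u) {c : K}
    (hc : c ≠ 0) : IsRefl hK M (c • u) := by
  set B := stdHerm hK 3
  refine ⟨?_, ?_, ?_⟩
  · show B (c • u) (c • u) ≠ 0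
    rw [B.smul_left, B.smul_right]
    exact mul_ne_zero hc (mul_ne_zero (pow_ne_zero q hc) h.1)
  · rw [Matrix.mulVec_smul, h.2.1]
  · intro w hw
    apply h.2.2
    have hw' : B w (c • u) = 0 := hw
    rw [B.smul_right] at hw'
    exact (mul_eq_zero.mp hw').resolve_left (pow_ne_zero q hc)

lemma IsRefl.fixed (h2 : (2 : K) ≠ 0) {M : Matrix (Fin 3) (Fin 3) K} {u : Fin 3 → K}
    (h : IsRefl hK M u) {x : Fin 3 → K} (hx : M *ᵥ x = x) : ∃ c : K, x = c • u := by
  set c := stdHerm hK 3 x u / stdHerm hK 3 u u with hc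
  set w := x - c • u with hw
  have hwu : stdHerm hK 3 w u = 0 := perp_part h.1 x
  have hxe : x = c • u + w := by rw [hw]; abel
  have h1 : M *ᵥ x = c • u - w := by
    rw [hxe, Matrix.mulVec_add, Matrix.mulVec_smul, h.2.1, h.2.2 _ hwu, sub_eq_add_neg]
  rw [hx] at h1
  have h3 : (2 : K) • w = 0 := by
    have : w + w = 0 := by
      have h4 : c • u + w = c • u - w := by rw [← hxe]; exact h1
      have h5 : w = -w := by
        have := add_left_cancel (a := c • u) (b := w) (c := -w) (by rw [h4, sub_eq_add_neg])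
        exact this
      nth_rewrite 1 [h5]
      exact neg_add_cancel w
    rw [two_smul]; exact this
  have hw0 : w = 0 := (smul_eq_zero.mp h3).resolve_left h2
  exact ⟨c, by rw [hxe, hw0, add_zero]⟩

lemma IsRefl.perp_of_neg (h2 : (2 : K) ≠ 0) {M : Matrix (Fin 3) (Fin 3) K} {u : Fin 3 → K}
    (h : IsRefl hK M u) {x : Fin 3 → K} (hx : M *ᵥ x = -x) : stdHerm hK 3 x u = 0 := by
  set c := stdHerm hK 3 x u / stdHerm hK 3 u u with hc
  set w := x - c • u with hw
  have hwu : stdHerm hK 3 w u = 0 := perp_part h.1 x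
  have hxe : x = c • u + w := by rw [hw]; abel
  have h1 : M *ᵥ x = c • u - w := by
    rw [hxe, Matrix.mulVec_add, Matrix.mulVec_smul, h.2.1, h.2.2 _ hwu, sub_eq_add_neg]
  rw [hx] at h1
  have h3 : (2 * c) • u = 0 := by
    have h4 : -(c • u + w) = c • u - w := by rw [← hxe]; exact h1
    have h5 : c • u + c • u = 0 := by
      have : -(c • u) - w = c • u - w := by rw [← h4]; abel
      have h6 : -(c • u) = c • u := sub_left_injective this
      nth_rewrite 1 [← h6]
      exact neg_add_cancel _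
    rw [mul_smul, two_smul]; exact h5
  have hu0 : u ≠ 0 := by
    rintro rfl
    exact h.1 ((stdHerm hK 3).zero_left 0)
  have hc0 : c = 0 := by
    rcases smul_eq_zero.mp h3 with h7 | h7
    · exact (mul_eq_zero.mp h7).resolve_left h2
    · exact absurd h7 hu0
  have : stdHerm hK 3 x u = c * stdHerm hK 3 u u := by rw [hc, div_mul_cancel₀ _ h.1]
  rw [this, hc0, zero_mul]

lemma IsRefl.axis_unique (h2 : (2 : K) ≠ 0) {M : Matrix (Fin 3) (Fin 3) K} {u u' : Fin 3 → K}
    (h : IsRefl hK M u) (h' : IsRefl hK M u') : ∃ c : K, c ≠ 0 ∧ u' = c • u := by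
  obtain ⟨c, hc⟩ := h.fixed h2 h'.2.1
  refine ⟨c, ?_, hc⟩
  rintro rfl
  rw [zero_smul] at hc
  exact h'.1 (by rw [hc]; exact (stdHerm hK 3).zero_left 0)

lemma IsRefl.conj {t g : Cfsg.SU 3 K q} {u : Fin 3 → K} (h : IsRefl hK (mat t) u) :
    IsRefl hK (mat (g * t * g⁻¹)) (mat g *ᵥ u) := by
  refine ⟨by rw [std_mat]; exact h.1, ?_, ?_⟩
  · rw [mat_mul, mat_mul, ← Matrix.mulVec_mulVec, ← Matrix.mulVec_mulVec, inv_mulVec_mulVec, h.2.1]
  · intro w hw
    have h1 : stdHerm hK 3 (mat g⁻¹ *ᵥ w) u = 0 := by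
      rw [← std_mat hK g, mulVec_inv_mulVec]
      exact hw
    rw [mat_mul, mat_mul, ← Matrix.mulVec_mulVec, ← Matrix.mulVec_mulVec, h.2.2 _ h1,
      Matrix.mulVec_neg, mulVec_inv_mulVec]


/-- the eigenspaces of a unitary involution are perpendicular -/
lemma eig_perp (hq : Odd q) (h2 : (2 : K) ≠ 0) (t : Cfsg.SU 3 K q) {a b : Fin 3 → K}
    (ha : mat t *ᵥ a = a) (hb : mat t *ᵥ b = -b) : stdHerm hK 3 a b = 0 := by
  have h1 : stdHerm hK 3 (mat t *ᵥ a) (mat t *ᵥ b) = stdHerm hK 3 a b := std_mat hK t a b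
  rw [ha, hb, neg_right hq] at h1
  have h3 : (2 : K) * stdHerm hK 3 a b = 0 := by linear_combination -h1
  exact (mul_eq_zero.mp h3).resolve_left h2

/-- two fixed vectors of a nontrivial involution of `SU₃` are dependent -/
lemma fixed_dependent (h2 : (2 : K) ≠ 0) (t : Cfsg.SU 3 K q) {a b c : Fin 3 → K}
    (ha : mat t *ᵥ a = a) (hb : mat t *ᵥ b = b) (hc : mat t *ᵥ c = -c) (hc0 : c ≠ 0) :
    ∃ α β : K, (α ≠ 0 ∨ β ≠ 0) ∧ α • a + β • b = 0 := by
  classical
  set A : Matrix (Fin 3) (Fin 3) K := Matrix.of ![a, b, c] with hA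
  have hdet : (mat t).det = 1 := t.1.2
  have hrows : A * (mat t)ᵀ = Matrix.of ![a, b, -c] := by
    ext i j
    have key : ∀ x : Fin 3 → K, (∑ k, x k * (mat t) j k) = (mat t *ᵥ x) j := by
      intro x
      simp only [Matrix.mulVec, dotProduct]
      apply Finset.sum_congr rfl
      intro k _
      ring
    rw [Matrix.mul_apply]
    simp only [Matrix.transpose_apply]
    fin_cases i
    · show (∑ k, a k * (mat t) j k) = a j
      rw [key, ha]
    · show (∑ k, b k * (mat t) j k) = b j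
      rw [key, hb]
    · show (∑ k, c k * (mat t) j k) = (-c) j
      rw [key, hc]
  have hd1 : (A * (mat t)ᵀ).det = A.det := by
    rw [Matrix.det_mul, Matrix.det_transpose, hdet, mul_one]
  have hd2 : (Matrix.of ![a, b, -c]).det = - A.det := by
    rw [hA, Matrix.det_fin_three, Matrix.det_fin_three]
    simp
    ring
  have hd0 : A.det = 0 := by
    rw [hrows, hd2] at hd1
    have : (2 : K) * A.det = 0 := by linear_combination -hd1
    exact (mul_eq_zero.mp this).resolve_left h2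
  obtain ⟨v, hv0, hv⟩ := Matrix.exists_vecMul_eq_zero_iff.mpr hd0
  have hrel : v 0 • a + v 1 • b + v 2 • c = 0 := by
    funext j
    have := congrFun hv j
    simp only [Matrix.vecMul, dotProduct, Fin.sum_univ_three] at this
    simp only [Pi.add_apply, Pi.smul_apply, smul_eq_mul, Pi.zero_apply]
    have hz : (0 : Fin 3 → K) j = 0 := rfl
    rw [hz] at this
    rw [← this]
    simp [hA]
  have hrel2 : v 0 • a + v 1 • b - v 2 • c = 0 := by
    have := congrArg (fun x => mat t *ᵥ x) hrel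
    simp only [Matrix.mulVec_add, Matrix.mulVec_smul, ha, hb, hc, Matrix.mulVec_zero] at this
    rw [← this, smul_neg, sub_eq_add_neg]
  have hv2 : v 2 = 0 := by
    have h3 : (2 * v 2) • c = 0 := by
      have : (v 0 • a + v 1 • b + v 2 • c) - (v 0 • a + v 1 • b - v 2 • c) = 0 := by
        rw [hrel, hrel2, sub_self]
      rw [mul_smul, two_smul, ← this]
      abel
    rcases smul_eq_zero.mp h3 with h4 | h4
    · exact (mul_eq_zero.mp h4).resolve_left h2
    · exact absurd h4 hc0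
  refine ⟨v 0, v 1, ?_, ?_⟩
  · by_contra hcon
    push Not at hcon
    apply hv0
    funext i
    fin_cases i
    · exact hcon.1
    · exact hcon.2
    · exact hv2
  · rw [hv2, zero_smul, add_zero] at hrel
    exact hrel

/-- **Classification of involutions of `SU₃(q)`, `q` odd**: every involution is a reflection. -/
theorem exists_isRefl (hq : Odd q) (t : Cfsg.SU 3 K q) (ht : t ≠ 1) (ht2 : t * t = 1) :
    ∃ u : Fin 3 → K, IsRefl hK (mat t) u := by
  have h2 : (2 : K) ≠ 0 := two_ne_zero_of_odd hK hq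
  set B := stdHerm hK 3 with hB
  set T := mat t with hT
  have hTT : ∀ x, T *ᵥ (T *ᵥ x) = x := by
    intro x
    rw [Matrix.mulVec_mulVec, hT, ← mat_mul, ht2, mat_one, Matrix.one_mulVec]
  -- a nonzero vector negated by `t`
  obtain ⟨c, hc0, hc⟩ : ∃ c : Fin 3 → K, c ≠ 0 ∧ T *ᵥ c = -c := by
    have hne : T ≠ 1 := by
      intro h1
      apply ht
      apply mat_injective
      rw [mat_one]; exact h1
    have : ∃ x, T *ᵥ x ≠ x := by
      by_contra hcon
      push Not at hcon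
      apply hne
      have h0 : T - 1 = 0 := by
        apply matrix_eq_zero_of_mulVec
        intro x
        rw [Matrix.sub_mulVec, Matrix.one_mulVec, hcon, sub_self]
      exact sub_eq_zero.mp h0
    obtain ⟨x, hx⟩ := this
    refine ⟨x - T *ᵥ x, fun h => hx (sub_eq_zero.mp h).symm, ?_⟩
    rw [Matrix.mulVec_sub, hTT]
    abel
  -- a nonzero vector fixed by `t`
  obtain ⟨u, hu0, hu⟩ : ∃ u : Fin 3 → K, u ≠ 0 ∧ T *ᵥ u = u := by
    have hne : T ≠ -1 := by
      intro h1
      have hdet : T.det = 1 := t.1.2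
      rw [h1, Matrix.det_neg, Matrix.det_one] at hdet
      simp at hdet
      have : (2 : K) = 0 := by linear_combination -hdet
      exact h2 this
    have : ∃ x, T *ᵥ x ≠ -x := by
      by_contra hcon
      push Not at hcon
      apply hne
      have h0 : T + 1 = 0 := by
        apply matrix_eq_zero_of_mulVec
        intro x
        rw [Matrix.add_mulVec, Matrix.one_mulVec, hcon, neg_add_cancel]
      exact eq_neg_of_add_eq_zero_left h0
    obtain ⟨x, hx⟩ := this
    refine ⟨x + T *ᵥ x, fun h => hx (eq_neg_of_add_eq_zero_right h), ?_⟩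
    rw [Matrix.mulVec_add, hTT, add_comm]
  -- every fixed vector is a multiple of `u`
  have hline : ∀ a, T *ᵥ a = a → ∃ γ : K, a = γ • u := by
    intro a ha
    obtain ⟨α, β, hαβ, hrel⟩ := fixed_dependent h2 t ha hu hc hc0
    have hα : α ≠ 0 := by
      intro hα
      rw [hα, zero_smul, zero_add] at hrel
      rcases smul_eq_zero.mp hrel with h3 | h3
      · rcases hαβ with h4 | h4
        · exact h4 hα
        · exact h4 h3
      · exact hu0 h3
    refine ⟨-(β / α), ?_⟩
    have h3 : α • a = -(β • u) := eq_neg_of_add_eq_zero_left hrel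
    have h4 : a = α⁻¹ • (α • a) := by rw [smul_smul, inv_mul_cancel₀ hα, one_smul]
    rw [h4, h3, smul_neg, smul_smul, neg_smul]
    congr 2
    field_simp
  -- decomposition into eigenvectors
  have hsplit : ∀ x : Fin 3 → K, ∃ γ : K, ∃ b : Fin 3 → K, T *ᵥ b = -b ∧ x = γ • u + b := by
    intro x
    have hfix : T *ᵥ ((2 : K)⁻¹ • (x + T *ᵥ x)) = (2 : K)⁻¹ • (x + T *ᵥ x) := by
      rw [Matrix.mulVec_smul, Matrix.mulVec_add, hTT, add_comm]
    obtain ⟨γ, hγ⟩ := hline _ hfix
    refine ⟨γ, (2 : K)⁻¹ • (x - T *ᵥ x), ?_, ?_⟩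
    · rw [Matrix.mulVec_smul, Matrix.mulVec_sub, hTT, ← smul_neg]
      congr 1
      abel
    · rw [← hγ, ← smul_add]
      have : x + T *ᵥ x + (x - T *ᵥ x) = (2 : K) • x := by rw [two_smul]; abel
      rw [this, smul_smul, inv_mul_cancel₀ h2, one_smul]
  have hperp : ∀ b, T *ᵥ b = -b → B b u = 0 := by
    intro b hb
    exact B.eq_zero_symm (eig_perp hq h2 t hu hb) (q_ne_zero hK)
  -- `u` is anisotropic
  have huu : B u u ≠ 0 := by
    intro huu
    apply hu0
    apply stdHerm_nondeg hK 3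
    intro x
    obtain ⟨γ, b, hb, rfl⟩ := hsplit x
    show B (γ • u + b) u = 0
    rw [B.add_left, B.smul_left, huu, hperp b hb, mul_zero, add_zero]
  refine ⟨u, huu, hu, ?_⟩
  intro w hw
  obtain ⟨γ, b, hb, rfl⟩ := hsplit w
  have hw' : B (γ • u + b) u = 0 := hw
  rw [B.add_left, B.smul_left, hperp b hb, add_zero] at hw'
  have hγ : γ = 0 := (mul_eq_zero.mp hw').resolve_right huu
  rw [hγ, zero_smul, zero_add, hb]


/-- scaling an anisotropic vector to norm one -/
lemma exists_smul_norm_one {u : Fin 3 → K} (hu : stdHerm hK 3 u u ≠ 0) :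
    ∃ l : K, l ≠ 0 ∧ stdHerm hK 3 (l • u) (l • u) = 1 := by
  classical
  set B := stdHerm hK 3
  have hq2 := herm_two_le hK
  have htq : (B u u) ^ q = B u u := (B.conj u u).symm
  have hmem : (B u u)⁻¹ ∈ hermFixed K q := by
    rw [mem_hermFixed]
    exact ⟨inv_ne_zero hu, by rw [inv_pow, htq]⟩
  obtain ⟨-, hfib⟩ := herm_sandwich hK
  have hpos : 0 < (Finset.univ.filter (fun x : K => x ^ (q + 1) = (B u u)⁻¹)).card := by
    rw [hfib _ hmem]; omega
  obtain ⟨l, hl⟩ := Finset.card_pos.mp hpos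
  rw [Finset.mem_filter] at hl
  refine ⟨l, ?_, ?_⟩
  · rintro rfl
    rw [zero_pow (by omega)] at hl
    exact inv_ne_zero hu hl.2.symm
  · rw [B.smul_left, B.smul_right, ← mul_assoc, ← pow_succ', hl.2, inv_mul_cancel₀ hu]

/-- a vector of norm one is the head of an orthonormal basis -/
lemma exists_frame {u : Fin 3 → K} (hu : stdHerm hK 3 u u = 1) :
    ∃ x : Fin 3 → (Fin 3 → K), IsOrthoFam (stdHerm hK 3) 3 x ∧ x 0 = u := by
  have hq2 := herm_two_le hK
  have hq : q ≠ 0 := by omega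
  set B := stdHerm hK 3
  have hfr : finrank K (B.perp u) = 2 := by
    rw [HermForm.finrank_perp hu, Module.finrank_fin_fun]
  have hcard := card_orthoFam hK 2 (B.perp u) (B.restrict (B.perp u))
    (HermForm.nondeg_restrict_perp hK (stdHerm_nondeg hK 3) hu) hfr
  have hpos : 0 < ∏ i ∈ Finset.range 2, hermCount K q (i + 1) 1 := by
    apply Finset.prod_pos
    intro i hi
    rw [hermCount_one hK]
    have h1 : 0 < q ^ (i + 1 - 1) := Nat.pow_pos (by omega)
    have h3 : 2 ≤ q ^ (i + 1) := by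
      calc 2 ≤ q := hq2
        _ = q ^ 1 := (pow_one q).symm
        _ ≤ q ^ (i + 1) := Nat.pow_le_pow_right (by omega) (by omega)
    split_ifs
    · exact Nat.mul_pos h1 (by omega)
    · exact Nat.mul_pos h1 (by omega)
  rw [← hcard] at hpos
  have hne : Nonempty {y : Fin 2 → B.perp u // IsOrthoFam (B.restrict (B.perp u)) 2 y} :=
    (Nat.card_pos_iff.mp hpos).1
  obtain ⟨y⟩ := hne
  let x := (orthoFibreEquiv hq 2 (⟨u, hu⟩ : {w : Fin 3 → K // B w w = 1})).symm y
  refine ⟨x.1.1, x.1.2, ?_⟩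
  exact (orthoHead_eq x).symm

/-- the determinant of an orthonormal frame has norm one -/
lemma frame_det_pow {x : Fin 3 → (Fin 3 → K)} (hx : IsOrthoFam (stdHerm hK 3) 3 x) :
    (colMat x).det ^ (q + 1) = 1 := by
  let g : Matrix.GeneralLinearGroup (Fin 3) K := (colMat_isUnit hK x hx).unit
  have hg : (g : Matrix (Fin 3) (Fin 3) K) = colMat x := rfl
  have hmem : g ∈ Cfsg.GU 3 K q := by
    rw [mem_GU_iff, hg]
    exact colMat_preserves hK x hx
  have := GU_det_pow hK g hmem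
  rw [hg] at this
  exact this

/-- **`SU₃(q)` is transitive on anisotropic points** -/
theorem exists_SU_map {u u' : Fin 3 → K} (hu : stdHerm hK 3 u u ≠ 0)
    (hu' : stdHerm hK 3 u' u' ≠ 0) :
    ∃ g : Cfsg.SU 3 K q, ∃ c : K, c ≠ 0 ∧ mat g *ᵥ u = c • u' := by
  classical
  obtain ⟨l, hl0, hl⟩ := exists_smul_norm_one hu
  obtain ⟨l', hl'0, hl'⟩ := exists_smul_norm_one hu'
  obtain ⟨x, hx, hx0⟩ := exists_frame hl
  obtain ⟨x', hx', hx'0⟩ := exists_frame hl'
  set X := colMat x with hX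
  set X' := colMat x' with hX'
  have hXu : IsUnit X.det := (Matrix.isUnit_iff_isUnit_det _).mp (colMat_isUnit hK x hx)
  have hX'u : IsUnit X'.det := (Matrix.isUnit_iff_isUnit_det _).mp (colMat_isUnit hK x' hx')
  have hXd : X.det ≠ 0 := hXu.ne_zero
  have hX'd : X'.det ≠ 0 := hX'u.ne_zero
  set d : K := X.det / X'.det with hd
  have hd1 : d ^ (q + 1) = 1 := by
    rw [hd, div_pow, frame_det_pow hx, frame_det_pow hx', div_one]
  set D : Matrix (Fin 3) (Fin 3) K := Matrix.diagonal ![1, 1, d] with hD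
  have hDpres : ∀ a b : Fin 3 → K,
      Cfsg.hermForm 3 K q (D *ᵥ a) (D *ᵥ b) = Cfsg.hermForm 3 K q a b := by
    intro a b
    unfold Cfsg.hermForm
    apply Finset.sum_congr rfl
    intro i _
    rw [hD, Matrix.mulVec_diagonal, Matrix.mulVec_diagonal, mul_pow]
    have hi : (![1, 1, d] : Fin 3 → K) i ^ (q + 1) = 1 := by
      fin_cases i
      · simp
      · simp
      · simpa using hd1
    have : (![1, 1, d] : Fin 3 → K) i * a i * ((![1, 1, d] : Fin 3 → K) i ^ q * b i ^ q)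
        = (![1, 1, d] : Fin 3 → K) i ^ (q + 1) * (a i * b i ^ q) := by ring
    rw [this, hi, one_mul]
  set M : Matrix (Fin 3) (Fin 3) K := X' * D * X⁻¹ with hM
  have hMX : M * X = X' * D := by
    rw [hM, Matrix.mul_assoc, Matrix.nonsing_inv_mul _ hXu, Matrix.mul_one]
  have hdet : M.det = 1 := by
    have h1 : M.det * X.det = X'.det * d := by
      rw [← Matrix.det_mul, hMX, Matrix.det_mul, hD, Matrix.det_diagonal]
      simp [Fin.prod_univ_three]
    have h2 : X'.det * d = X.det := by rw [hd]; field_simp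
    rw [h2] at h1
    exact mul_right_cancel₀ hXd (by rw [h1, one_mul])
  have hpres : ∀ a b : Fin 3 → K,
      Cfsg.hermForm 3 K q (M *ᵥ a) (M *ᵥ b) = Cfsg.hermForm 3 K q a b := by
    intro a b
    have ha : a = X *ᵥ (X⁻¹ *ᵥ a) := by
      rw [Matrix.mulVec_mulVec, Matrix.mul_nonsing_inv _ hXu, Matrix.one_mulVec]
    have hb : b = X *ᵥ (X⁻¹ *ᵥ b) := by
      rw [Matrix.mulVec_mulVec, Matrix.mul_nonsing_inv _ hXu, Matrix.one_mulVec]
    have e1 : M *ᵥ a = X' *ᵥ (D *ᵥ (X⁻¹ *ᵥ a)) := by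
      rw [hM, Matrix.mulVec_mulVec, Matrix.mulVec_mulVec]
    have e2 : M *ᵥ b = X' *ᵥ (D *ᵥ (X⁻¹ *ᵥ b)) := by
      rw [hM, Matrix.mulVec_mulVec, Matrix.mulVec_mulVec]
    rw [e1, e2, hX', colMat_preserves hK x' hx', hDpres]
    conv_rhs => rw [ha, hb, hX, colMat_preserves hK x hx]
  let g : Cfsg.SU 3 K q := ⟨⟨M, hdet⟩, fun a b => hpres a b⟩
  have hgm : mat g = M := rfl
  have hx0' : X *ᵥ (Pi.single 0 1) = x 0 := by
    rw [hX, colMat_mulVec, Finset.sum_eq_single 0]
    · simp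
    · intro j _ hj
      simp [hj]
    · simp
  have hx'0' : X' *ᵥ (Pi.single 0 1) = x' 0 := by
    rw [hX', colMat_mulVec, Finset.sum_eq_single 0]
    · simp
    · intro j _ hj
      simp [hj]
    · simp
  have hDe : D *ᵥ (Pi.single 0 1 : Fin 3 → K) = Pi.single 0 1 := by
    funext i
    rw [hD, Matrix.mulVec_diagonal]
    fin_cases i <;> simp
  have hMu : M *ᵥ (l • u) = l' • u' := by
    rw [← hx0, ← hx'0, ← hx0', Matrix.mulVec_mulVec, hMX, ← Matrix.mulVec_mulVec, hDe, hx'0']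
  refine ⟨g, l' / l, div_ne_zero hl'0 hl0, ?_⟩
  rw [hgm]
  have : u = l⁻¹ • (l • u) := by rw [smul_smul, inv_mul_cancel₀ hl0, one_smul]
  rw [this, Matrix.mulVec_smul, hMu, smul_smul]
  congr 1
  field_simp


include hK in
/-- all involutions of `SU₃(q)`, `q` odd, are conjugate -/
theorem involutions_conj (hq : Odd q) (t x : Cfsg.SU 3 K q) (ht : t ≠ 1) (ht2 : t * t = 1)
    (hx : x ≠ 1) (hx2 : x * x = 1) : ∃ g : Cfsg.SU 3 K q, g * t * g⁻¹ = x := by
  obtain ⟨u, hu⟩ := exists_isRefl (hK := hK) hq t ht ht2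
  obtain ⟨u', hu'⟩ := exists_isRefl (hK := hK) hq x hx hx2
  obtain ⟨g, c, hc, hg⟩ := exists_SU_map hu.1 hu'.1
  refine ⟨g, ?_⟩
  apply mat_injective
  have h1 : IsRefl hK (mat (g * t * g⁻¹)) (c • u') := by
    rw [← hg]; exact hu.conj
  exact h1.unique (hu'.smul hc)

/-- every anisotropic vector is the axis of an involution (given that one involution exists) -/
theorem exists_involution_of_aniso (hq : Odd q) (t : Cfsg.SU 3 K q) (ht : t ≠ 1)
    (ht2 : t * t = 1) {u' : Fin 3 → K} (hu' : stdHerm hK 3 u' u' ≠ 0) :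
    ∃ x : Cfsg.SU 3 K q, x ≠ 1 ∧ x * x = 1 ∧ IsRefl hK (mat x) u' := by
  obtain ⟨u, hu⟩ := exists_isRefl (hK := hK) hq t ht ht2
  obtain ⟨g, c, hc, hg⟩ := exists_SU_map hu.1 hu'
  refine ⟨g * t * g⁻¹, ?_, ?_, ?_⟩
  · intro h
    apply ht
    have : t = g⁻¹ * (g * t * g⁻¹) * g := by group
    rw [this, h]; group
  · have : g * t * g⁻¹ * (g * t * g⁻¹) = g * (t * t) * g⁻¹ := by group
    rw [this, ht2]; group
  · have h1 : IsRefl hK (mat (g * t * g⁻¹)) (c • u') := by
      rw [← hg]; exact hu.conj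
    have h2 := h1.smul (inv_ne_zero hc)
    rwa [smul_smul, inv_mul_cancel₀ hc, one_smul] at h2

/-- distinct commuting involutions have perpendicular axes -/
theorem perp_of_commute (hq : Odd q) {t x : Cfsg.SU 3 K q} {u u' : Fin 3 → K}
    (hu : IsRefl hK (mat t) u) (hu' : IsRefl hK (mat x) u') (hx2 : x * x = 1) (hne : t ≠ x)
    (hc : Commute t x) : stdHerm hK 3 u u' = 0 := by
  have h2 : (2 : K) ≠ 0 := two_ne_zero_of_odd hK hq
  have h1 : mat t *ᵥ (mat x *ᵥ u) = mat x *ᵥ u := by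
    rw [Matrix.mulVec_mulVec, ← mat_mul, hc.eq, mat_mul, ← Matrix.mulVec_mulVec, hu.2.1]
  obtain ⟨α, hα⟩ := hu.fixed h2 h1
  have hu0 : u ≠ 0 := by
    rintro rfl
    exact hu.1 ((stdHerm hK 3).zero_left 0)
  have hα2 : α * α = 1 := by
    have h3 : mat x *ᵥ (mat x *ᵥ u) = u := by
      rw [Matrix.mulVec_mulVec, ← mat_mul, hx2, mat_one, Matrix.one_mulVec]
    rw [hα, Matrix.mulVec_smul, hα, smul_smul] at h3
    have h4 : (α * α - 1) • u = 0 := by rw [sub_smul, h3, one_smul, sub_self]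
    exact sub_eq_zero.mp ((smul_eq_zero.mp h4).resolve_right hu0)
  have hα' : α = 1 ∨ α = -1 := by
    have : (α - 1) * (α + 1) = 0 := by linear_combination hα2
    rcases mul_eq_zero.mp this with h5 | h5
    · left; exact sub_eq_zero.mp h5
    · right; exact eq_neg_of_add_eq_zero_left h5
  rcases hα' with rfl | rfl
  · exfalso
    rw [one_smul] at hα
    obtain ⟨c, hc'⟩ := hu'.fixed h2 hα
    have hc0 : c ≠ 0 := by
      rintro rfl
      rw [zero_smul] at hc'
      exact hu0 hc'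
    apply hne
    apply mat_injective
    have h6 : IsRefl hK (mat x) u := by rw [hc']; exact hu'.smul hc0
    exact hu.unique h6
  · rw [neg_one_smul] at hα
    exact hu'.perp_of_neg h2 hα

/-- involutions with perpendicular axes commute -/
theorem commute_of_perp {t x : Cfsg.SU 3 K q} {u u' : Fin 3 → K}
    (hu : IsRefl hK (mat t) u) (hu' : IsRefl hK (mat x) u') (hperp : stdHerm hK 3 u u' = 0) :
    Commute t x := by
  set B := stdHerm hK 3
  have hq0 := q_ne_zero hK
  have hperp' : B u' u = 0 := B.eq_zero_symm hperp hq0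
  apply mat_injective
  rw [mat_mul, mat_mul]
  have h0 : mat t * mat x - mat x * mat t = 0 := by
    apply matrix_eq_zero_of_mulVec
    intro y
    -- decompose `y`
    set a := B y u / B u u with ha
    set b := B y u' / B u' u' with hb
    set w := y - a • u - b • u' with hw
    have hwu : B w u = 0 := by
      rw [hw, B.sub_left, B.sub_left, B.smul_left, B.smul_left, hperp', ha,
        div_mul_cancel₀ _ hu.1]
      ring
    have hwu' : B w u' = 0 := by
      rw [hw, B.sub_left, B.sub_left, B.smul_left, B.smul_left, hperp, hb,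
        div_mul_cancel₀ _ hu'.1]
      ring
    have hy : y = a • u + b • u' + w := by rw [hw]; abel
    have e1 : mat t *ᵥ u' = -u' := hu.2.2 _ hperp'
    have e2 : mat x *ᵥ u = -u := hu'.2.2 _ hperp
    have e3 : mat t *ᵥ w = -w := hu.2.2 _ hwu
    have e4 : mat x *ᵥ w = -w := hu'.2.2 _ hwu'
    rw [Matrix.sub_mulVec, ← Matrix.mulVec_mulVec, ← Matrix.mulVec_mulVec, hy]
    simp only [Matrix.mulVec_add, Matrix.mulVec_smul, Matrix.mulVec_neg, hu.2.1, hu'.2.1, e1, e2,
      e3, e4, smul_neg, neg_neg]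
    abel
  exact sub_eq_zero.mp h0

/-- there are no four pairwise perpendicular anisotropic vectors -/
theorem no_four_ortho (x : Fin 4 → (Fin 3 → K)) (h1 : ∀ i, stdHerm hK 3 (x i) (x i) ≠ 0)
    (h2 : ∀ i j, i ≠ j → stdHerm hK 3 (x i) (x j) = 0) : False := by
  have hli : LinearIndependent K x := by
    rw [Fintype.linearIndependent_iff]
    intro g hg j
    have h3 : stdHerm hK 3 (∑ i, g i • x i) (x j) = 0 := by
      rw [hg]; exact (stdHerm hK 3).zero_left _
    rw [HermForm.sum_left, Finset.sum_eq_single j] at h3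
    · exact (mul_eq_zero.mp h3).resolve_right (h1 j)
    · intro i _ hij
      rw [h2 i j hij, mul_zero]
    · simp
  have := hli.fintype_card_le_finrank
  rw [Module.finrank_fin_fun] at this
  simp at this


variable (hK)

/-- the number of isotropic vectors of the `3`-dimensional unitary space -/
theorem card_iso : Nat.card {u : Fin 3 → K // stdHerm hK 3 u u = 0} + q ^ 3 = q ^ 5 + q ^ 2 := by
  have h1 : Nat.card {u : Fin 3 → K // stdHerm hK 3 u u = 0} = hermCount K q 3 0 :=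
    card_norm hK 3 (Fin 3 → K) (stdHerm hK 3) (stdHerm_nondeg hK 3) (Module.finrank_fin_fun K) 0
  rw [h1]
  have h2 := (hermCount_formula hK 3).1
  have hq0 : (q : ℤ) ≠ 0 := by
    have := q_ne_zero hK
    exact_mod_cast this
  have h3 : (hermCount K q 3 0 : ℤ) + (q : ℤ) ^ 3 = (q : ℤ) ^ 5 + (q : ℤ) ^ 2 := by
    apply mul_left_cancel₀ hq0
    rw [mul_add, h2]
    ring
  exact_mod_cast h3

/-- the number of anisotropic vectors -/
theorem card_aniso :
    Nat.card {u : Fin 3 → K // stdHerm hK 3 u u ≠ 0} + q ^ 5 + q ^ 2 = q ^ 6 + q ^ 3 := by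
  classical
  have h1 := Nat.card_congr (Equiv.sumCompl (fun u : Fin 3 → K => stdHerm hK 3 u u = 0))
  rw [Nat.card_sum] at h1
  have h2 : Nat.card (Fin 3 → K) = q ^ 6 := by
    rw [Nat.card_eq_fintype_card, Fintype.card_fun, Fintype.card_fin, hK]
    ring
  rw [h2] at h1
  have h3 := card_iso hK
  have h4 : Nat.card {u : Fin 3 → K // stdHerm hK 3 u u ≠ 0}
      = Nat.card {u : Fin 3 → K // ¬ stdHerm hK 3 u u = 0} := rfl
  omega

include hK in
/-- the order of `SU₃(q)` -/
theorem card_SU3 : Nat.card (Cfsg.SU 3 K q) = q ^ 3 * (q ^ 2 - 1) * (q ^ 3 + 1) := by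
  have h1 := card_SU_mul (n := 3) hK (by norm_num)
  rw [card_GU hK 3] at h1
  have h2 : ∏ i ∈ Finset.range 3, (if Even i then q ^ (i + 1) + 1 else q ^ (i + 1) - 1)
      = (q + 1) * (q ^ 2 - 1) * (q ^ 3 + 1) := by
    simp [Finset.prod_range_succ]
  rw [h2] at h1
  have h3 : (q + 1) * Nat.card (Cfsg.SU 3 K q) = (q + 1) * (q ^ 3 * (q ^ 2 - 1) * (q ^ 3 + 1)) := by
    rw [h1]
    norm_num
    ring
  exact Nat.eq_of_mul_eq_mul_left (by omega) h3

variable {hK}

/-- counting involutions against anisotropic vectors -/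
theorem card_involutions_mul (hq : Odd q) (t : Cfsg.SU 3 K q) (ht : t ≠ 1) (ht2 : t * t = 1) :
    Nat.card {x : Cfsg.SU 3 K q // x ≠ 1 ∧ x * x = 1} * (q ^ 2 - 1)
      = Nat.card {u : Fin 3 → K // stdHerm hK 3 u u ≠ 0} := by
  classical
  have h2 : (2 : K) ≠ 0 := two_ne_zero_of_odd hK hq
  have hex : ∀ u : {u : Fin 3 → K // stdHerm hK 3 u u ≠ 0},
      ∃ x : {x : Cfsg.SU 3 K q // x ≠ 1 ∧ x * x = 1}, IsRefl hK (mat x.1) u.1 := by
    intro u
    obtain ⟨x, h1, h2, h3⟩ := exists_involution_of_aniso hq t ht ht2 u.2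
    exact ⟨⟨x, h1, h2⟩, h3⟩
  choose f hf using hex
  rw [← Nat.card_congr (Equiv.sigmaFiberEquiv f), Nat.card_sigma]
  have hfib : ∀ x : {x : Cfsg.SU 3 K q // x ≠ 1 ∧ x * x = 1},
      Nat.card {u : {u : Fin 3 → K // stdHerm hK 3 u u ≠ 0} // f u = x} = q ^ 2 - 1 := by
    intro x
    obtain ⟨u₀, hu₀⟩ := exists_isRefl (hK := hK) hq x.1 x.2.1 x.2.2
    have hu00 : u₀ ≠ 0 := by
      rintro rfl
      exact hu₀.1 ((stdHerm hK 3).zero_left 0)
    let φ : Kˣ → {u : {u : Fin 3 → K // stdHerm hK 3 u u ≠ 0} // f u = x} := fun c =>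
      ⟨⟨(c : K) • u₀, (hu₀.smul c.ne_zero).1⟩, by
        apply Subtype.ext
        apply mat_injective
        exact (hf _).unique (hu₀.smul c.ne_zero)⟩
    have hφ : Function.Bijective φ := by
      constructor
      · intro c c' hcc
        have h3 : (c : K) • u₀ = (c' : K) • u₀ :=
          congrArg (fun z : {u : {u : Fin 3 → K // stdHerm hK 3 u u ≠ 0} // f u = x} => z.1.1) hcc
        have h4 : ((c : K) - (c' : K)) • u₀ = 0 := by rw [sub_smul, h3, sub_self]
        apply Units.ext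
        exact sub_eq_zero.mp ((smul_eq_zero.mp h4).resolve_right hu00)
      · intro u
        have h3 : IsRefl hK (mat x.1) u.1.1 := by
          have := hf u.1
          rwa [u.2] at this
        obtain ⟨c, hc0, hc⟩ := hu₀.axis_unique h2 h3
        refine ⟨Units.mk0 c hc0, ?_⟩
        apply Subtype.ext
        apply Subtype.ext
        exact hc.symm
    rw [← Nat.card_eq_of_bijective φ hφ, Nat.card_units, Nat.card_eq_fintype_card, hK]
  simp only [hfib, Finset.sum_const, Finset.card_univ, smul_eq_mul]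
  rw [Nat.card_eq_fintype_card]

include hK in
/-- the number of involutions of `SU₃(q)`, `q` odd -/
theorem card_involutions (hq : Odd q) (t : Cfsg.SU 3 K q) (ht : t ≠ 1) (ht2 : t * t = 1) :
    Nat.card {x : Cfsg.SU 3 K q // x ≠ 1 ∧ x * x = 1} = q ^ 2 * (q ^ 2 - q + 1) := by
  have h1 := card_involutions_mul (hK := hK) hq t ht ht2
  have h2 := card_aniso hK
  have hq2 := herm_two_le hK
  have hqq : q ≤ q ^ 2 := by nlinarith
  have h1q : 1 ≤ q ^ 2 := by nlinarith
  set N := Nat.card {x : Cfsg.SU 3 K q // x ≠ 1 ∧ x * x = 1}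
  rw [← h1] at h2
  have h3 : (N : ℤ) * ((q : ℤ) ^ 2 - 1) = (q : ℤ) ^ 2 * ((q : ℤ) ^ 2 - q + 1) * ((q : ℤ) ^ 2 - 1) := by
    have h4 : ((N * (q ^ 2 - 1) + q ^ 5 + q ^ 2 : ℕ) : ℤ) = ((q ^ 6 + q ^ 3 : ℕ) : ℤ) := by
      rw [h2]
    push_cast [Nat.cast_sub h1q] at h4
    linear_combination h4
  have h5 : ((q : ℤ) ^ 2 - 1) ≠ 0 := by
    have : (2 : ℤ) ≤ q := by exact_mod_cast hq2
    nlinarith
  have h6 := mul_right_cancel₀ h5 h3
  have h7 : ((q ^ 2 * (q ^ 2 - q + 1) : ℕ) : ℤ) = (q : ℤ) ^ 2 * ((q : ℤ) ^ 2 - q + 1) := by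
    push_cast [Nat.cast_sub hqq]
    ring
  rw [← h7] at h6
  exact_mod_cast h6


include hK in
/-- the order of the centralizer of an involution of `SU₃(q)`, `q` odd -/
theorem card_centralizer_involution (hq : Odd q) (t : Cfsg.SU 3 K q) (ht : t ≠ 1)
    (ht2 : t * t = 1) :
    Nat.card (Subgroup.centralizer ({t} : Set (Cfsg.SU 3 K q))) = q * (q + 1) * (q ^ 2 - 1) := by
  classical
  have hconjinv : ∀ g : Cfsg.SU 3 K q, g * t * g⁻¹ ≠ 1 ∧ (g * t * g⁻¹) * (g * t * g⁻¹) = 1 := by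
    intro g
    constructor
    · intro h
      apply ht
      have : t = g⁻¹ * (g * t * g⁻¹) * g := by group
      rw [this, h]; group
    · have : g * t * g⁻¹ * (g * t * g⁻¹) = g * (t * t) * g⁻¹ := by group
      rw [this, ht2]; group
  let f : Cfsg.SU 3 K q → {x : Cfsg.SU 3 K q // x ≠ 1 ∧ x * x = 1} :=
    fun g => ⟨g * t * g⁻¹, hconjinv g⟩
  have hcard : Nat.card (Cfsg.SU 3 K q)
      = Nat.card {x : Cfsg.SU 3 K q // x ≠ 1 ∧ x * x = 1}
        * Nat.card (Subgroup.centralizer ({t} : Set (Cfsg.SU 3 K q))) := by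
    rw [← Nat.card_congr (Equiv.sigmaFiberEquiv f), Nat.card_sigma]
    have hfib : ∀ x : {x : Cfsg.SU 3 K q // x ≠ 1 ∧ x * x = 1},
        Nat.card {g : Cfsg.SU 3 K q // f g = x}
          = Nat.card (Subgroup.centralizer ({t} : Set (Cfsg.SU 3 K q))) := by
      intro x
      obtain ⟨g₀, hg₀⟩ := involutions_conj (hK := hK) hq t x.1 ht ht2 x.2.1 x.2.2
      let ψ : Subgroup.centralizer ({t} : Set (Cfsg.SU 3 K q)) → {g : Cfsg.SU 3 K q // f g = x} :=
        fun z => ⟨g₀ * z.1, by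
          apply Subtype.ext
          show g₀ * z.1 * t * (g₀ * z.1)⁻¹ = x.1
          have hz : t * z.1 = z.1 * t := (Subgroup.mem_centralizer_iff.mp z.2) t rfl
          have : g₀ * z.1 * t * (g₀ * z.1)⁻¹ = g₀ * (z.1 * t) * z.1⁻¹ * g₀⁻¹ := by group
          rw [this, ← hz, ← hg₀]; group⟩
      have hψ : Function.Bijective ψ := by
        constructor
        · intro z z' hzz
          have h3 : g₀ * z.1 = g₀ * z'.1 :=
            congrArg (fun w : {g : Cfsg.SU 3 K q // f g = x} => w.1) hzz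
          exact Subtype.ext (mul_left_cancel h3)
        · intro g
          have hg : g.1 * t * g.1⁻¹ = x.1 := congrArg Subtype.val g.2
          refine ⟨⟨g₀⁻¹ * g.1, ?_⟩, ?_⟩
          · rw [Subgroup.mem_centralizer_iff]
            intro h hh
            rw [Set.mem_singleton_iff] at hh
            subst hh
            have h4 : g.1 * h * g.1⁻¹ = g₀ * h * g₀⁻¹ := by rw [hg, hg₀]
            have h5 : g₀⁻¹ * (g.1 * h * g.1⁻¹) * g.1 = g₀⁻¹ * (g₀ * h * g₀⁻¹) * g.1 := by rw [h4]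
            have h6 : g₀⁻¹ * g.1 * h = h * (g₀⁻¹ * g.1) := by
              have e1 : g₀⁻¹ * (g.1 * h * g.1⁻¹) * g.1 = g₀⁻¹ * g.1 * h := by group
              have e2 : g₀⁻¹ * (g₀ * h * g₀⁻¹) * g.1 = h * (g₀⁻¹ * g.1) := by group
              rw [← e1, ← e2, h5]
            exact h6.symm
          · apply Subtype.ext
            show g₀ * (g₀⁻¹ * g.1) = g.1
            group
      exact (Nat.card_eq_of_bijective ψ hψ).symm
    simp only [hfib, Finset.sum_const, Finset.card_univ, smul_eq_mul, Nat.card_eq_fintype_card]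
  rw [card_SU3 hK, card_involutions (hK := hK) hq t ht ht2] at hcard
  have hq2 := herm_two_le hK
  have hqq : q ≤ q ^ 2 := by nlinarith
  have h1q : 1 ≤ q ^ 2 := by nlinarith
  set C := Nat.card (Subgroup.centralizer ({t} : Set (Cfsg.SU 3 K q)))
  have hpos : 0 < q ^ 2 * (q ^ 2 - q + 1) := by positivity
  have hfact : q ^ 3 * (q ^ 2 - 1) * (q ^ 3 + 1)
      = q ^ 2 * (q ^ 2 - q + 1) * (q * (q + 1) * (q ^ 2 - 1)) := by
    zify [hqq, h1q]
    ring
  rw [hfact] at hcard
  exact (Nat.eq_of_mul_eq_mul_left hpos hcard).symm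

end Cfsg.Agent.Helper63.SU3
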