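import Mathlib
import Cfsg.Agent.Lib.Helper7.M11UDefs

/-!
# (G4) `not_both` of helper7's lemma server "M11U" (S0420)

If both `ha` and `hb` hold, every closed neighbourhood of the graph `Adj` on the 55 Sylow 3-subgroups is a clique of size 19,
so "equal or adjacent" is an equivalence relation with classes of size 19; but `19 ∤ 55`.
-/

set_option autoImplicit false

namespace Cfsg.Agent.Helper63.M11U

open Subgroup Cfsg.Agent.Helper7.M11U
open scoped Pointwise

section Gr

variable {G : Type*} [Group G] [Finite G] {t : G} {R R2 R3 : Sylow 3 G}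

omit [Finite G] in
theorem g4_mem_smul {g x : G} {P : Sylow 3 G} :
    x ∈ ((g • P : Sylow 3 G) : Subgroup G) ↔ g⁻¹ * x * g ∈ (P : Subgroup G) := by
  rw [Sylow.smul_def, Sylow.pointwise_smul_def, Subgroup.mem_pointwise_smul_iff_inv_smul_mem,
    MulAut.smul_def, MulAut.conj_inv_apply]

omit [Finite G] in
theorem g4_inverts_smul {g t : G} {P : Sylow 3 G} (h : Inverts t (P : Subgroup G)) :
    Inverts (g * t * g⁻¹) ((g • P : Sylow 3 G) : Subgroup G) := by
  intro x hx
  rw [g4_mem_smul] at hx
  have h1 := h _ hx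
  have e : g * t * g⁻¹ * x * (g * t * g⁻¹)⁻¹ = g * (t * (g⁻¹ * x * g) * t⁻¹) * g⁻¹ := by group
  rw [e, h1]
  group

theorem g4_adj_smul (g : G) {X Y : Sylow 3 G} (h : Adj X Y) : Adj (g • X) (g • Y) := by
  obtain ⟨hne, t, ht, h1, h2⟩ := h
  refine ⟨fun e => hne (MulAction.injective g e), g * t * g⁻¹, ?_, g4_inverts_smul h1,
    g4_inverts_smul h2⟩
  rw [← ht]
  exact MulEquiv.orderOf_eq (MulAut.conj g) t

theorem g4_adj_smul_iff (g : G) {X Y : Sylow 3 G} : Adj (g • X) (g • Y) ↔ Adj X Y := by
  refine ⟨fun h => ?_, g4_adj_smul g⟩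
  have := g4_adj_smul g⁻¹ h
  rwa [inv_smul_smul, inv_smul_smul] at this

omit [Finite G] in
theorem g4_adj_symm {X Y : Sylow 3 G} (h : Adj X Y) : Adj Y X := by
  obtain ⟨hne, t, ht, h1, h2⟩ := h
  exact ⟨hne.symm, t, ht, h2, h1⟩

omit [Finite G] in
theorem g4_smul_self {r : G} {P : Sylow 3 G} (hr : r ∈ (P : Subgroup G)) : r • P = P :=
  Sylow.smul_eq_iff_mem_normalizer.mpr (Subgroup.le_normalizer hr)

/-- (G4) not both. -/
theorem not_both (B : Base G) (L : Loc G) (T : Tri t R R2 R3) (Cf : Conf t R R2 R3)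
    (hadj : ∀ (t' : G) (P P2 P3 : Sylow 3 G), Tri t' P P2 P3 →
      (∀ X : Sylow 3 G, Adj P X ↔ ∃ r ∈ (P : Subgroup G), X = r • P2 ∨ X = r • P3) ∧
      (∀ r ∈ (P : Subgroup G), ∀ r' ∈ (P : Subgroup G), r • P2 ≠ r' • P3) ∧
      (∀ r ∈ (P : Subgroup G), ∀ r' ∈ (P : Subgroup G), r • P2 = r' • P2 → r = r'))
    (ha : ∀ r ∈ (R : Subgroup G), r ≠ 1 → Adj R2 (r • R2))
    (hb : ∀ r ∈ (R : Subgroup G), r ≠ 1 → Adj R2 (r • R3)) : False := by
  classical
  obtain ⟨hN, hd23, hd22⟩ := hadj t R R2 R3 T
  have T' : Tri t R R3 R2 := ⟨T.ht, T.i1, T.i3, T.i2, T.ne13, T.ne12, T.ne23.symm⟩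
  obtain ⟨-, -, hd33⟩ := hadj t R R3 R2 T'
  obtain ⟨s, hsN, -, hs23, hs32⟩ := Cf.sw23
  have h23 : Adj R2 R3 := ⟨T.ne23, t, T.ht, T.i2, T.i3⟩
  -- `ha` for `R3`
  have ha3 : ∀ r ∈ (R : Subgroup G), r ≠ 1 → Adj R3 (r • R3) := by
    intro r hr hr1
    have hr' : s⁻¹ * r * s ∈ (R : Subgroup G) := by
      have := (Subgroup.mem_normalizer_iff.mp (Subgroup.inv_mem _ hsN) r).mp hr
      rwa [inv_inv] at this
    have hr1' : s⁻¹ * r * s ≠ 1 := by
      intro h
      apply hr1
      have e : r = s * (s⁻¹ * r * s) * s⁻¹ := by group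
      rw [e, h]
      group
    have h1 := g4_adj_smul s (ha _ hr' hr1')
    rw [hs23, smul_smul] at h1
    have e : s * (s⁻¹ * r * s) = r * s := by group
    rw [e, mul_smul, hs23] at h1
    exact h1
  -- two distinct neighbours of `R` are adjacent
  have hclique : ∀ X Y : Sylow 3 G, Adj R X → Adj R Y → X ≠ Y → Adj X Y := by
    -- the three basic cases
    have c22 : ∀ r ∈ (R : Subgroup G), ∀ r' ∈ (R : Subgroup G), r • R2 ≠ r' • R2 →
        Adj (r • R2) (r' • R2) := by
      intro r hr r' hr' hne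
      have h1 : r⁻¹ * r' ≠ 1 := by
        intro h
        apply hne
        rw [inv_mul_eq_one] at h
        rw [h]
      have h2 := g4_adj_smul r (ha _ (Subgroup.mul_mem _ (Subgroup.inv_mem _ hr) hr') h1)
      rwa [smul_smul, mul_inv_cancel_left] at h2
    have c33 : ∀ r ∈ (R : Subgroup G), ∀ r' ∈ (R : Subgroup G), r • R3 ≠ r' • R3 →
        Adj (r • R3) (r' • R3) := by
      intro r hr r' hr' hne
      have h1 : r⁻¹ * r' ≠ 1 := by
        intro h
        apply hne
        rw [inv_mul_eq_one] at h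
        rw [h]
      have h2 := g4_adj_smul r (ha3 _ (Subgroup.mul_mem _ (Subgroup.inv_mem _ hr) hr') h1)
      rwa [smul_smul, mul_inv_cancel_left] at h2
    have c23 : ∀ r ∈ (R : Subgroup G), ∀ r' ∈ (R : Subgroup G), Adj (r • R2) (r' • R3) := by
      intro r hr r' hr'
      by_cases h1 : r⁻¹ * r' = 1
      · rw [inv_mul_eq_one] at h1
        rw [← h1]
        exact g4_adj_smul r h23
      · have h2 := g4_adj_smul r (hb _ (Subgroup.mul_mem _ (Subgroup.inv_mem _ hr) hr') h1)
        rwa [smul_smul, mul_inv_cancel_left] at h2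
    intro X Y hX hY hXY
    obtain ⟨r, hr, hX'⟩ := (hN X).mp hX
    obtain ⟨r', hr', hY'⟩ := (hN Y).mp hY
    rcases hX' with rfl | rfl <;> rcases hY' with rfl | rfl
    · exact c22 r hr r' hr' hXY
    · exact c23 r hr r' hr'
    · exact g4_adj_symm (c23 r' hr' r hr)
    · exact c33 r hr r' hr' hXY
  -- closed neighbourhoods are cliques
  have hcl0 : ∀ X Y : Sylow 3 G, (X = R ∨ Adj R X) → (Y = R ∨ Adj R Y) → X = Y ∨ Adj X Y := by
    intro X Y hX hY
    rcases hX with rfl | hX <;> rcases hY with rfl | hY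
    · exact Or.inl rfl
    · exact Or.inr hY
    · exact Or.inr (g4_adj_symm hX)
    · by_cases h : X = Y
      · exact Or.inl h
      · exact Or.inr (hclique X Y hX hY h)
  have htrans : ∀ Z : Sylow 3 G, ∃ g : G, g • R = Z := fun Z => MulAction.exists_smul_eq G R Z
  have hcl : ∀ Z X Y : Sylow 3 G, (X = Z ∨ Adj Z X) → (Y = Z ∨ Adj Z Y) → X = Y ∨ Adj X Y := by
    intro Z X Y hX hY
    obtain ⟨g, rfl⟩ := htrans Z
    have hX' : g⁻¹ • X = R ∨ Adj R (g⁻¹ • X) := by
      rcases hX with rfl | hX
      · left; rw [inv_smul_smul]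
      · right
        have := g4_adj_smul g⁻¹ hX
        rwa [inv_smul_smul] at this
    have hY' : g⁻¹ • Y = R ∨ Adj R (g⁻¹ • Y) := by
      rcases hY with rfl | hY
      · left; rw [inv_smul_smul]
      · right
        have := g4_adj_smul g⁻¹ hY
        rwa [inv_smul_smul] at this
    rcases hcl0 _ _ hX' hY' with h | h
    · left; exact MulAction.injective g⁻¹ h
    · right; exact (g4_adj_smul_iff g⁻¹).mp h
  -- the count for `R`
  have : Fintype (Sylow 3 G) := Fintype.ofFinite _
  have : Fintype ↥(R : Subgroup G) := Fintype.ofFinite _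
  have hR9 : Fintype.card ↥(R : Subgroup G) = 9 := by
    rw [← Nat.card_eq_fintype_card]; exact L.card3 R
  have hcountR : (Finset.univ.filter (fun Y : Sylow 3 G => Y = R ∨ Adj Y R)).card = 19 := by
    set N2 : Finset (Sylow 3 G) :=
      (Finset.univ : Finset ↥(R : Subgroup G)).image (fun r : ↥(R : Subgroup G) => (r : G) • R2) with hN2
    set N3 : Finset (Sylow 3 G) :=
      (Finset.univ : Finset ↥(R : Subgroup G)).image (fun r : ↥(R : Subgroup G) => (r : G) • R3) with hN3
    have hc2 : N2.card = 9 := by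
      rw [hN2, Finset.card_image_of_injective, Finset.card_univ, hR9]
      intro r r' h
      exact Subtype.ext (hd22 r r.2 r' r'.2 h)
    have hc3 : N3.card = 9 := by
      rw [hN3, Finset.card_image_of_injective, Finset.card_univ, hR9]
      intro r r' h
      exact Subtype.ext (hd33 r r.2 r' r'.2 h)
    have hdisj : Disjoint N2 N3 := by
      rw [Finset.disjoint_left]
      intro X h2 h3
      obtain ⟨r, -, rfl⟩ := Finset.mem_image.mp h2
      obtain ⟨r', -, h⟩ := Finset.mem_image.mp h3
      exact hd23 r r.2 r' r'.2 h.symm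
    have hRn : R ∉ N2 ∪ N3 := by
      intro h
      rcases Finset.mem_union.mp h with h | h
      · obtain ⟨r, -, h⟩ := Finset.mem_image.mp h
        exact ((hN _).mpr ⟨r, r.2, Or.inl rfl⟩).1 h.symm
      · obtain ⟨r, -, h⟩ := Finset.mem_image.mp h
        exact ((hN _).mpr ⟨r, r.2, Or.inr rfl⟩).1 h.symm
    have heq : Finset.univ.filter (fun Y : Sylow 3 G => Y = R ∨ Adj Y R) = insert R (N2 ∪ N3) := by
      ext Y
      simp only [Finset.mem_filter, Finset.mem_univ, true_and, Finset.mem_insert, Finset.mem_union]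
      constructor
      · rintro (h | h)
        · exact Or.inl h
        · right
          obtain ⟨r, hr, h⟩ := (hN Y).mp (g4_adj_symm h)
          rcases h with rfl | rfl
          · exact Or.inl (Finset.mem_image.mpr ⟨⟨r, hr⟩, Finset.mem_univ _, rfl⟩)
          · exact Or.inr (Finset.mem_image.mpr ⟨⟨r, hr⟩, Finset.mem_univ _, rfl⟩)
      · rintro (h | h | h)
        · exact Or.inl h
        · obtain ⟨r, -, rfl⟩ := Finset.mem_image.mp h
          exact Or.inr (g4_adj_symm ((hN _).mpr ⟨r, r.2, Or.inl rfl⟩))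
        · obtain ⟨r, -, rfl⟩ := Finset.mem_image.mp h
          exact Or.inr (g4_adj_symm ((hN _).mpr ⟨r, r.2, Or.inr rfl⟩))
    rw [heq, Finset.card_insert_of_notMem hRn, Finset.card_union_of_disjoint hdisj, hc2, hc3]
  have hcount : ∀ X : Sylow 3 G,
      (Finset.univ.filter (fun Y : Sylow 3 G => Y = X ∨ Adj Y X)).card = 19 := by
    intro X
    obtain ⟨g, rfl⟩ := htrans X
    rw [← hcountR]
    symm
    apply Finset.card_bij (fun Y _ => g • Y)
    · intro Y hY
      simp only [Finset.mem_filter, Finset.mem_univ, true_and] at hY ⊢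
      rcases hY with rfl | hY
      · exact Or.inl rfl
      · exact Or.inr (g4_adj_smul g hY)
    · intro Y _ Y' _ h
      exact MulAction.injective g h
    · intro Z hZ
      simp only [Finset.mem_filter, Finset.mem_univ, true_and] at hZ
      refine ⟨g⁻¹ • Z, ?_, smul_inv_smul g Z⟩
      simp only [Finset.mem_filter, Finset.mem_univ, true_and]
      rcases hZ with rfl | hZ
      · left; rw [inv_smul_smul]
      · right
        have := g4_adj_smul g⁻¹ hZ
        rwa [inv_smul_smul] at this
  -- the equivalence relation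
  let rel : Setoid (Sylow 3 G) :=
    { r := fun X Y => X = Y ∨ Adj X Y
      iseqv :=
        { refl := fun X => Or.inl rfl
          symm := fun {X Y} h => h.elim (fun h => Or.inl h.symm) (fun h => Or.inr (g4_adj_symm h))
          trans := fun {X Y Z} h1 h2 =>
            hcl Y X Z (h1.elim (fun h => Or.inl h) (fun h => Or.inr (g4_adj_symm h)))
              (h2.elim (fun h => Or.inl h.symm) (fun h => Or.inr h)) } }
  have key : (Finset.univ : Finset (Sylow 3 G)).card =
      ∑ q : Quotient rel, (Finset.univ.filter (fun X : Sylow 3 G => Quotient.mk rel X = q)).card :=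
    Finset.card_eq_sum_card_fiberwise (fun _ _ => Finset.mem_univ _)
  have hfib : ∀ q : Quotient rel,
      (Finset.univ.filter (fun X : Sylow 3 G => Quotient.mk rel X = q)).card = 19 := by
    intro q
    induction q using Quotient.inductionOn with
    | h X =>
      rw [← hcount X]
      congr 1
      ext Y
      simp only [Finset.mem_filter, Finset.mem_univ, true_and]
      rw [Quotient.eq]
      rfl
  rw [Finset.sum_congr rfl (fun q _ => hfib q), Finset.sum_const, Finset.card_univ, Finset.card_univ,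
    ← Nat.card_eq_fintype_card, L.n55, smul_eq_mul] at key
  omega

end Gr

end Cfsg.Agent.Helper63.M11U
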