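import Mathlib
import Cfsg.Agent.S1017

/-!
# N5400 (CNT) card_normalizer_eq  (helper25 sub-server of O6232, S0983; piece by helper63)
-/

set_option autoImplicit false

namespace Cfsg.Agent.Helper63.N5400

open Cfsg MulAction

universe u

section NoSimple

variable {G : Type u} [Group G] [Finite G]

/-- the Sylow `p`-subgroups of `G` contained in `H` are counted by the Sylow number of `H`. -/
theorem h63_card_sylow_subtype {p : ℕ} [Fact p.Prime]
    (H : Subgroup G) (P : Sylow p G) (hP : (P : Subgroup G) ≤ H) :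
    Nat.card {Q : Sylow p G // (Q : Subgroup G) ≤ H} = Nat.card (Sylow p ↥H) := by
  apply Nat.card_congr
  refine Equiv.ofBijective (fun Q => Q.1.subtype Q.2) ⟨?_, ?_⟩
  · intro Q Q' h
    exact Subtype.ext (Sylow.subtype_injective h)
  · intro R
    obtain ⟨h, hh⟩ := MulAction.exists_smul_eq ↥H (P.subtype hP) R
    rw [Sylow.smul_subtype] at hh
    exact ⟨⟨h • P, Sylow.smul_le hP h⟩, hh⟩

theorem card_normalizer_eq
    (hNF : ∀ Q : Sylow 5 G, ∀ F : Subgroup G, Nat.card F = 5 →
      ((Q : Subgroup G) ≤ Subgroup.normalizer (F : Set G) ↔ F ≤ (Q : Subgroup G)))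
    (P : Sylow 5 G) (F : Subgroup G) (hF : Nat.card F = 5) (hFP : F ≤ (P : Subgroup G)) :
    Nat.card ↥(Subgroup.normalizer (F : Set G)) =
      Nat.card {Q : Sylow 5 G // F ≤ (Q : Subgroup G)} *
        Nat.card ↥(Subgroup.normalizer ((P : Subgroup G) : Set G) ⊓ Subgroup.normalizer (F : Set G)) ∧
    Nat.card {Q : Sylow 5 G // F ≤ (Q : Subgroup G)} % 5 = 1 := by
  have : Fact (Nat.Prime 5) := ⟨by norm_num⟩
  have hPM : (P : Subgroup G) ≤ Subgroup.normalizer (F : Set G) := (hNF P F hF).2 hFP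
  have hcard := Cfsg.Agent.S1017.card_eq_card_mul (Subgroup.normalizer (F : Set G)) P hPM
  have hcongr : Nat.card {Q : Sylow 5 G // (Q : Subgroup G) ≤ Subgroup.normalizer (F : Set G)} =
      Nat.card {Q : Sylow 5 G // F ≤ (Q : Subgroup G)} :=
    Nat.card_congr (Equiv.subtypeEquivRight fun Q => hNF Q F hF)
  rw [hcongr] at hcard
  refine ⟨hcard, ?_⟩
  rw [← hcongr, h63_card_sylow_subtype _ P hPM]
  have h1 := card_sylow_modEq_one 5 ↥(Subgroup.normalizer (F : Set G))
  unfold Nat.ModEq at h1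
  omega

end NoSimple

end Cfsg.Agent.Helper63.N5400
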