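import Mathlib

/-!
# N5400 (NF) le_normalizer_iff  (helper25 sub-server of O6232, S0983; piece by helper63)
-/

set_option autoImplicit false

namespace Cfsg.Agent.Helper63.N5400

open Cfsg MulAction

universe u

section NoSimple

variable {G : Type u} [Group G] [Finite G]

theorem le_normalizer_iff (Q : Sylow 5 G) (hQ : Nat.card (Q : Subgroup G) = 25) (F : Subgroup G)
    (hF : Nat.card F = 5) :
    (Q : Subgroup G) ≤ Subgroup.normalizer (F : Set G) ↔ F ≤ (Q : Subgroup G) := by
  have : Fact (Nat.Prime 5) := ⟨by norm_num⟩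
  constructor
  · intro h
    have hFp : IsPGroup 5 F := IsPGroup.of_card (n := 1) (by rw [hF, pow_one])
    have hsup : IsPGroup 5 ((Q : Subgroup G) ⊔ F : Subgroup G) :=
      IsPGroup.to_sup_of_normal_right' Q.isPGroup' hFp h
    have heq : (Q : Subgroup G) ⊔ F = (Q : Subgroup G) := Q.is_maximal' hsup le_sup_left
    rw [← heq]
    exact le_sup_right
  · intro h x hx
    have hcomm : IsMulCommutative ↥(Q : Subgroup G) :=
      IsPGroup.isMulCommutative_of_card_eq_prime_sq (p := 5) (by rw [hQ]; norm_num)
    apply Subgroup.centralizer_le_normalizer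
    rw [Subgroup.mem_centralizer_iff]
    intro y hy
    have h1 := hcomm.is_comm.comm (⟨y, h hy⟩ : ↥(Q : Subgroup G)) ⟨x, hx⟩
    exact congrArg Subtype.val h1

end NoSimple

end Cfsg.Agent.Helper63.N5400
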