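import Mathlib

set_option autoImplicit false

namespace Cfsg.Agent.Helper63.LinPGroup

open Module
open scoped commutatorElement

section Basic

variable {F : Type*} [Field F] {V : Type*} [AddCommGroup V] [Module F V]
variable {Q : Type*} [Group Q]

/-- Restriction of a linear action to an invariant subspace. -/
def restrictHom (ρ : Q →* Module.End F V) (U : Submodule F V)
    (hU : ∀ g, ∀ v ∈ U, ρ g v ∈ U) : Q →* Module.End F U where
  toFun g := (ρ g).restrict (hU g)
  map_one' := by
    ext v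
    simp
  map_mul' g h := by
    ext v
    simp

@[simp] lemma restrictHom_apply (ρ : Q →* Module.End F V) (U : Submodule F V)
    (hU : ∀ g, ∀ v ∈ U, ρ g v ∈ U) (g : Q) (v : U) :
    ((restrictHom ρ U hU g) v : V) = ρ g v := rfl

/-- The induced action on the quotient by an invariant subspace. -/
def quotHom (ρ : Q →* Module.End F V) (U : Submodule F V)
    (hU : ∀ g, ∀ v ∈ U, ρ g v ∈ U) : Q →* Module.End F (V ⧸ U) where
  toFun g := U.mapQ U (ρ g) (fun v hv => hU g v hv)
  map_one' := by
    ext v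
    simp
  map_mul' g h := by
    ext v
    simp

@[simp] lemma quotHom_apply (ρ : Q →* Module.End F V) (U : Submodule F V)
    (hU : ∀ g, ∀ v ∈ U, ρ g v ∈ U) (g : Q) (v : V) :
    (quotHom ρ U hU g) (Submodule.Quotient.mk v) = Submodule.Quotient.mk (ρ g v) := rfl

lemma rho_inv_apply (ρ : Q →* Module.End F V) (g : Q) (v : V) : ρ g⁻¹ (ρ g v) = v := by
  have : ρ g⁻¹ * ρ g = 1 := by rw [← map_mul, inv_mul_cancel, map_one]
  calc ρ g⁻¹ (ρ g v) = (ρ g⁻¹ * ρ g) v := rfl
    _ = v := by rw [this]; rfl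

lemma rho_apply_inv (ρ : Q →* Module.End F V) (g : Q) (v : V) : ρ g (ρ g⁻¹ v) = v := by
  have := rho_inv_apply ρ g⁻¹ v
  rwa [inv_inv] at this

lemma rho_mul_apply (ρ : Q →* Module.End F V) (g h : Q) (v : V) : ρ (g * h) v = ρ g (ρ h v) := by
  rw [map_mul]; rfl

lemma rho_injective (ρ : Q →* Module.End F V) (g : Q) : Function.Injective (ρ g) := by
  intro v w h
  have := congrArg (ρ g⁻¹) h
  rwa [rho_inv_apply, rho_inv_apply] at this

end Basic


section Derived

variable {Q : Type*} [Group Q]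

/-- If the derived series of `Q ⧸ ker f` vanishes at `k`, the `k`-th derived subgroup of `Q`
lies in `ker f`. -/
lemma derivedSeries_le_ker {M : Type*} [Monoid M] (f : Q →* M) (k : ℕ)
    (h : derivedSeries (Q ⧸ f.ker) k = ⊥) : derivedSeries Q k ≤ f.ker := by
  have h1 := map_derivedSeries_eq (f := QuotientGroup.mk' f.ker)
    (QuotientGroup.mk'_surjective f.ker) k
  rw [h] at h1
  have h2 := (Subgroup.map_eq_bot_iff _).mp h1
  rwa [QuotientGroup.ker_mk'] at h2

/-- The induced injective map on `Q ⧸ ker f`. -/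
def kerLiftM {M : Type*} [Monoid M] (f : Q →* M) : Q ⧸ f.ker →* M :=
  QuotientGroup.lift f.ker f (fun _ h => h)

lemma kerLiftM_mk {M : Type*} [Monoid M] (f : Q →* M) (g : Q) :
    kerLiftM f (QuotientGroup.mk g) = f g := rfl

lemma kerLiftM_injective {M : Type*} [Monoid M] (f : Q →* M) :
    Function.Injective (kerLiftM f) := by
  rw [injective_iff_map_eq_one]
  intro a ha
  induction a using QuotientGroup.induction_on with
  | H g =>
    rw [kerLiftM_mk] at ha
    exact (QuotientGroup.eq_one_iff g).mpr ha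

/-- If `M` contains all commutators, then `Q^(k+1) ≤ M^(k)`. -/
lemma derivedSeries_succ_le_map (M : Subgroup Q) (hM : commutator Q ≤ M) (k : ℕ) :
    derivedSeries Q (k + 1) ≤ (derivedSeries M k).map M.subtype := by
  induction k with
  | zero =>
    rw [derivedSeries_one, derivedSeries_zero, ← MonoidHom.range_eq_map, Subgroup.range_subtype]
    exact hM
  | succ k ih =>
    rw [derivedSeries_succ, derivedSeries_succ (G := M), Subgroup.map_commutator]
    exact Subgroup.commutator_mono ih ih

lemma derivedSeries_eq_bot_of_sub (M : Subgroup Q) (hM : commutator Q ≤ M) (k : ℕ)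
    (h : derivedSeries M k = ⊥) : derivedSeries Q (k + 1) = ⊥ := by
  have := derivedSeries_succ_le_map M hM k
  rw [h, Subgroup.map_bot] at this
  exact le_bot_iff.mp this

lemma derivedSeries_eq_bot_mono {k l : ℕ} (hkl : k ≤ l) (h : derivedSeries Q k = ⊥) :
    derivedSeries Q l = ⊥ := by
  have := derivedSeries_antitone (G := Q) hkl
  rw [h] at this
  exact le_bot_iff.mp this

/-- The homomorphism `g ↦ x⁻¹ g⁻¹ x g` for `x` central modulo the centre. -/
def commHom (x : Q) (hx : ∀ g, x⁻¹ * g⁻¹ * x * g ∈ Subgroup.center Q) :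
    Q →* Subgroup.center Q where
  toFun g := ⟨x⁻¹ * g⁻¹ * x * g, hx g⟩
  map_one' := by
    apply Subtype.ext
    simp
  map_mul' := by
    intro g h
    apply Subtype.ext
    show x⁻¹ * (g * h)⁻¹ * x * (g * h) = (x⁻¹ * g⁻¹ * x * g) * (x⁻¹ * h⁻¹ * x * h)
    have hcg := Subgroup.mem_center_iff.mp (hx g)
    have e1 : x⁻¹ * (g * h)⁻¹ * x * (g * h)
        = (x⁻¹ * h⁻¹ * x) * (x⁻¹ * g⁻¹ * x * g) * h := by group
    rw [e1, hcg (x⁻¹ * h⁻¹ * x)]
    group

lemma mem_commHom_ker (x : Q) (hx : ∀ g, x⁻¹ * g⁻¹ * x * g ∈ Subgroup.center Q) (m : Q) :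
    m ∈ (commHom x hx).ker ↔ x * m = m * x := by
  rw [MonoidHom.mem_ker]
  constructor
  · intro h
    have h1 : x⁻¹ * m⁻¹ * x * m = 1 := congrArg Subtype.val h
    have h2 : x * m = m * x * (x⁻¹ * m⁻¹ * x * m) := by group
    rw [h2, h1, mul_one]
  · intro h
    apply Subtype.ext
    show x⁻¹ * m⁻¹ * x * m = 1
    have h2 : x⁻¹ * m⁻¹ * x * m = x⁻¹ * m⁻¹ * (x * m) := by group
    rw [h2, h]; group

lemma commutator_le_commHom_ker (x : Q) (hx : ∀ g, x⁻¹ * g⁻¹ * x * g ∈ Subgroup.center Q) :
    commutator Q ≤ (commHom x hx).ker := by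
  rw [commutator_def, Subgroup.commutator_le]
  intro g _ h _
  rw [MonoidHom.mem_ker, map_commutatorElement, commutatorElement_eq_one_iff_mul_comm]
  apply Subtype.ext
  rw [Subgroup.coe_mul, Subgroup.coe_mul]
  exact (Subgroup.mem_center_iff.mp ((commHom x hx) g).2 _).symm

end Derived


section CharP

variable {F : Type*} [Field F] {V : Type*} [AddCommGroup V] [Module F V]
variable {Q : Type*} [Group Q] {p : ℕ} [Fact p.Prime]

/-- A finite `p`-group acting linearly on a nonzero space in characteristic `p` fixes a nonzero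
vector. -/
theorem exists_fixed [Finite Q] (hp0 : (p : F) = 0) (hQ : IsPGroup p Q) [Nontrivial V]
    (σ : Q →* Module.End F V) : ∃ w : V, w ≠ 0 ∧ ∀ g, σ g w = w := by
  obtain ⟨w₀, hw₀⟩ := exists_ne (0 : V)
  set S : Set V := Set.range (fun g => σ g w₀) with hS
  set X : AddSubgroup V := AddSubgroup.closure S with hX
  have hXinv : ∀ g, ∀ v ∈ X, σ g v ∈ X := by
    intro g v hv
    induction hv using AddSubgroup.closure_induction with
    | mem x hx =>
      obtain ⟨h, rfl⟩ := hx
      apply AddSubgroup.subset_closure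
      exact ⟨g * h, by simp only [rho_mul_apply]⟩
    | zero => rw [map_zero]; exact X.zero_mem
    | add x y _ _ hx hy => rw [map_add]; exact X.add_mem hx hy
    | neg x _ hx => rw [map_neg]; exact X.neg_mem hx
  have hpsmul : ∀ v : V, p • v = 0 := by
    intro v
    rw [← Nat.cast_smul_eq_nsmul F p v, hp0, zero_smul]
  have : Finite S := Set.finite_range _
  have hfg : AddGroup.FG X := AddGroup.closure_finite_fg S
  have hfin : Finite X := by
    apply AddCommGroup.finite_of_fg_isAddTorsion
    intro x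
    rw [isOfFinAddOrder_iff_nsmul_eq_zero]
    refine ⟨p, (Fact.out : p.Prime).pos, ?_⟩
    apply Subtype.ext
    simpa using hpsmul (x : V)
  let _ : MulAction Q X :=
    { smul := fun g x => ⟨σ g x, hXinv g x x.2⟩
      one_smul := fun x => Subtype.ext (by
        show σ 1 (x : V) = x
        rw [map_one]; rfl)
      mul_smul := fun g h x => Subtype.ext (by
        show σ (g * h) (x : V) = σ g (σ h x)
        rw [rho_mul_apply]) }
  have hsmul : ∀ (g : Q) (x : X), ((g • x : X) : V) = σ g x := fun _ _ => rfl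
  have hw₀X : w₀ ∈ X := by
    apply AddSubgroup.subset_closure
    exact ⟨1, by simp⟩
  have hdvd : p ∣ Nat.card X := by
    have h1 : addOrderOf (⟨w₀, hw₀X⟩ : X) = p := by
      apply addOrderOf_eq_prime
      · apply Subtype.ext
        simpa using hpsmul w₀
      · intro h
        exact hw₀ (congrArg Subtype.val h)
    rw [← h1]
    exact addOrderOf_dvd_natCard _
  have h0 : (0 : X) ∈ MulAction.fixedPoints Q X := by
    intro g
    apply Subtype.ext
    rw [hsmul]
    simp
  obtain ⟨b, hb, hb0⟩ := hQ.exists_fixed_point_of_prime_dvd_card_of_fixed_point X hdvd h0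
  refine ⟨b, fun h => hb0 (Subtype.ext h.symm), fun g => ?_⟩
  have := hb g
  rw [← hsmul, this]

/-- The fixed-point filtration. -/
def Vs (ρ : Q →* Module.End F V) : ℕ → Submodule F V
  | 0 => ⊥
  | (i + 1) => ⨅ g : Q, (Vs ρ i).comap (ρ g - 1)

lemma mem_Vs_succ (ρ : Q →* Module.End F V) (i : ℕ) (v : V) :
    v ∈ Vs ρ (i + 1) ↔ ∀ g, ρ g v - v ∈ Vs ρ i := by
  simp [Vs, Submodule.mem_iInf]

lemma Vs_zero (ρ : Q →* Module.End F V) : Vs ρ 0 = ⊥ := rfl

lemma Vs_le_succ (ρ : Q →* Module.End F V) (i : ℕ) : Vs ρ i ≤ Vs ρ (i + 1) := by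
  induction i with
  | zero => rw [Vs_zero]; exact bot_le
  | succ i ih =>
    intro v hv
    rw [mem_Vs_succ] at hv ⊢
    intro g
    exact ih (hv g)

lemma Vs_mono (ρ : Q →* Module.End F V) : Monotone (Vs ρ) :=
  monotone_nat_of_le_succ (Vs_le_succ ρ)

lemma Vs_inv (ρ : Q →* Module.End F V) (i : ℕ) (g : Q) {v : V} (hv : v ∈ Vs ρ i) :
    ρ g v ∈ Vs ρ i := by
  cases i with
  | zero =>
    rw [Vs_zero, Submodule.mem_bot] at hv ⊢
    rw [hv, map_zero]
  | succ i =>
    have h1 : ρ g v = v + (ρ g v - v) := by abel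
    rw [h1]
    exact (Vs ρ (i + 1)).add_mem hv (Vs_le_succ ρ i ((mem_Vs_succ ρ i v).mp hv g))

lemma Vs_lt_succ [Finite Q] (hp0 : (p : F) = 0) (hQ : IsPGroup p Q) (ρ : Q →* Module.End F V)
    (i : ℕ) (hi : Vs ρ i ≠ ⊤) : Vs ρ i < Vs ρ (i + 1) := by
  have : Nontrivial (V ⧸ Vs ρ i) := Submodule.Quotient.nontrivial_iff.mpr hi
  obtain ⟨w', hw', hfix⟩ := exists_fixed hp0 hQ
    (quotHom ρ (Vs ρ i) (fun g v hv => Vs_inv ρ i g hv))
  obtain ⟨w, rfl⟩ := Submodule.Quotient.mk_surjective _ w'
  have hw1 : w ∉ Vs ρ i := by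
    intro h
    exact hw' ((Submodule.Quotient.mk_eq_zero _).mpr h)
  have hw2 : w ∈ Vs ρ (i + 1) := by
    rw [mem_Vs_succ]
    intro g
    have := hfix g
    rw [quotHom_apply] at this
    exact (Submodule.Quotient.eq _).mp this
  exact lt_of_le_of_ne (Vs_le_succ ρ i) (fun h => hw1 (h ▸ hw2))

lemma finrank_Vs [Finite Q] [FiniteDimensional F V] (hp0 : (p : F) = 0) (hQ : IsPGroup p Q)
    (ρ : Q →* Module.End F V) (i : ℕ) : min i (finrank F V) ≤ finrank F (Vs ρ i) := by
  induction i with
  | zero => simp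
  | succ i ih =>
    by_cases hi : Vs ρ i = ⊤
    · have : Vs ρ (i + 1) = ⊤ := top_le_iff.mp (hi ▸ Vs_le_succ ρ i)
      rw [this, finrank_top]
      exact min_le_right _ _
    · have h1 := Submodule.finrank_lt_finrank_of_lt (Vs_lt_succ hp0 hQ ρ i hi)
      have h2 : min (i + 1) (finrank F V) ≤ min i (finrank F V) + 1 := by
        rcases le_total i (finrank F V) with h | h
        · rw [min_eq_left h]; exact min_le_left _ _
        · rw [min_eq_right h]; exact (min_le_right _ _).trans (Nat.le_succ _)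
      omega

lemma Vs_eq_top [Finite Q] [FiniteDimensional F V] (hp0 : (p : F) = 0) (hQ : IsPGroup p Q)
    (ρ : Q →* Module.End F V) {m : ℕ} (hm : finrank F V ≤ m) : Vs ρ m = ⊤ := by
  apply Submodule.eq_top_of_finrank_eq
  have h1 := finrank_Vs hp0 hQ ρ m
  rw [min_eq_right hm] at h1
  exact le_antisymm (Submodule.finrank_le _) h1

/-- Elements lowering the filtration by `a` steps. -/
def D (ρ : Q →* Module.End F V) (a : ℕ) : Subgroup Q where
  carrier := {g | ∀ i, ∀ v ∈ Vs ρ (i + a), ρ g v - v ∈ Vs ρ i}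
  one_mem' := by
    intro i v _
    rw [map_one]
    simp
  mul_mem' := by
    intro g h hg hh i v hv
    have h1 : ρ (g * h) v - v = ρ g (ρ h v - v) + (ρ g v - v) := by
      rw [rho_mul_apply, map_sub]; abel
    rw [h1]
    exact (Vs ρ i).add_mem (Vs_inv ρ i g (hh i v hv)) (hg i v hv)
  inv_mem' := by
    intro g hg i v hv
    have h1 : ρ g⁻¹ v - v = - ρ g⁻¹ (ρ g v - v) := by
      rw [map_sub, rho_inv_apply]; abel
    rw [h1]
    exact (Vs ρ i).neg_mem (Vs_inv ρ i g⁻¹ (hg i v hv))

lemma mem_D (ρ : Q →* Module.End F V) (a : ℕ) (g : Q) :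
    g ∈ D ρ a ↔ ∀ i, ∀ v ∈ Vs ρ (i + a), ρ g v - v ∈ Vs ρ i := Iff.rfl

lemma D_one (ρ : Q →* Module.End F V) : D ρ 1 = ⊤ := by
  rw [eq_top_iff]
  intro g _
  rw [mem_D]
  intro i v hv
  exact (mem_Vs_succ ρ i v).mp hv g

lemma commutator_mem_D (ρ : Q →* Module.End F V) {a b : ℕ} {g h : Q} (hg : g ∈ D ρ a)
    (hh : h ∈ D ρ b) : ⁅g, h⁆ ∈ D ρ (a + b) := by
  rw [mem_D]
  intro i v hv
  set u := ρ (g⁻¹ * h⁻¹) v with hu
  have hu1 : u ∈ Vs ρ (i + (a + b)) := Vs_inv ρ _ _ hv
  have hv1 : v = ρ (h * g) u := by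
    rw [hu, ← rho_mul_apply]
    have : h * g * (g⁻¹ * h⁻¹) = 1 := by group
    rw [this, map_one]; rfl
  have h2 : ρ ⁅g, h⁆ v = ρ (g * h) u := by
    rw [hu, ← rho_mul_apply]
    congr 2
    rw [commutatorElement_def]; group
  have h3 : ρ ⁅g, h⁆ v - v =
      (ρ g (ρ h u - u) - (ρ h u - u)) - (ρ h (ρ g u - u) - (ρ g u - u)) := by
    rw [h2]
    conv_lhs => rw [hv1]
    rw [rho_mul_apply, rho_mul_apply, map_sub, map_sub]
    abel
  rw [h3]
  refine (Vs ρ i).sub_mem ?_ ?_
  · apply hg i
    apply hh (i + a)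
    rwa [add_assoc]
  · apply hh i
    apply hg (i + b)
    rwa [add_assoc, add_comm b a]

lemma derivedSeries_le_D (ρ : Q →* Module.End F V) (k : ℕ) :
    derivedSeries Q k ≤ D ρ (2 ^ k) := by
  induction k with
  | zero => rw [pow_zero, D_one]; exact le_top
  | succ k ih =>
    rw [derivedSeries_succ, Subgroup.commutator_le]
    intro g hg h hh
    have := commutator_mem_D ρ (ih hg) (ih hh)
    rwa [← two_mul, ← pow_succ'] at this

lemma D_eq_bot [Finite Q] [FiniteDimensional F V] (hp0 : (p : F) = 0) (hQ : IsPGroup p Q)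
    (ρ : Q →* Module.End F V) (hρ : Function.Injective ρ) {m : ℕ} (hm : finrank F V ≤ m) :
    D ρ m = ⊥ := by
  rw [eq_bot_iff]
  intro g hg
  rw [Subgroup.mem_bot]
  apply hρ
  rw [map_one]
  ext v
  have h1 := (mem_D ρ m g).mp hg 0 v (by rw [zero_add, Vs_eq_top hp0 hQ ρ hm]; trivial)
  rw [Vs_zero, Submodule.mem_bot, sub_eq_zero] at h1
  rw [h1]; rfl

/-- The characteristic `p` case: a finite `p`-group of linear maps in characteristic `p`. -/
theorem charp_case [Finite Q] [FiniteDimensional F V] (hp0 : (p : F) = 0) (hQ : IsPGroup p Q)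
    (ρ : Q →* Module.End F V) (hρ : Function.Injective ρ) :
    derivedSeries Q (Nat.log 2 (finrank F V) + 1) = ⊥ := by
  have h1 := derivedSeries_le_D ρ (Nat.log 2 (finrank F V) + 1)
  rw [D_eq_bot hp0 hQ ρ hρ (Nat.lt_pow_succ_log_self (by norm_num) _).le] at h1
  exact le_bot_iff.mp h1

end CharP


section CharNeP

universe u

variable {F : Type u} [Field F] {p : ℕ} [Fact p.Prime]

omit [Fact p.Prime] in
/-- An element of a finite `p`-group (with `p` invertible) acting trivially on an invariant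
subspace and on the quotient is trivial. -/
lemma eq_one_of_trivial_sub_quot {V : Type*} [AddCommGroup V] [Module F V] {Q : Type*} [Group Q]
    (hp : (p : F) ≠ 0) (hQ : IsPGroup p Q) (ρ : Q →* Module.End F V)
    (hρ : Function.Injective ρ) (W : Submodule F V) (g : Q) (h1 : ∀ w ∈ W, ρ g w = w)
    (h2 : ∀ v, ρ g v - v ∈ W) : g = 1 := by
  set N : Module.End F V := ρ g - 1 with hN
  have hNN : N * N = 0 := by
    ext v
    have : N v ∈ W := by
      have := h2 v
      simpa [hN] using this
    show N (N v) = 0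
    have h3 := h1 _ this
    rw [hN] at h3 ⊢
    simp only [LinearMap.sub_apply, Module.End.one_apply] at h3 ⊢
    rw [h3, sub_self]
  have hg : ρ g = 1 + N := by rw [hN]; abel
  have hpow : ∀ m : ℕ, (ρ g) ^ m = 1 + m • N := by
    intro m
    induction m with
    | zero => simp
    | succ m ih =>
      rw [pow_succ, ih, hg, add_mul, mul_add, mul_add, one_mul, mul_one, smul_mul_assoc, hNN,
        smul_zero, add_zero, succ_nsmul, one_mul]
      abel
  obtain ⟨k, hk⟩ := hQ g
  have h3 : (1 : Module.End F V) = 1 + (p ^ k) • N := by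
    rw [← hpow, ← map_pow, hk, map_one]
  have h4 : (p ^ k) • N = 0 := by
    have := h3.symm
    rwa [add_eq_left] at this
  have h5 : N = 0 := by
    rw [← Nat.cast_smul_eq_nsmul F, smul_eq_zero] at h4
    rcases h4 with h4 | h4
    · exfalso
      rw [Nat.cast_pow] at h4
      exact hp (pow_eq_zero_iff (by
        intro hk0
        rw [hk0, pow_zero] at h4
        exact one_ne_zero h4) |>.mp h4)
    · exact h4
  apply hρ
  rw [map_one, hg, h5, add_zero]

/-- The statement to be proved by induction on the dimension. -/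
def Bound (F : Type u) [Field F] (p : ℕ) (n : ℕ) : Prop :=
  ∀ (V : Type u) [AddCommGroup V] [Module F V] [FiniteDimensional F V] (Q : Type u) [Group Q]
    [Finite Q], IsPGroup p Q → ∀ ρ : Q →* Module.End F V, Function.Injective ρ →
    finrank F V = n → derivedSeries Q (Nat.log 2 n + 1) = ⊥

omit [Fact p.Prime] in
lemma ih_apply {d : ℕ} (hB : Bound F p d) {U : Type u} [AddCommGroup U] [Module F U]
    [FiniteDimensional F U] (hd : finrank F U = d) {Q : Type u} [Group Q] [Finite Q]
    (hQ : IsPGroup p Q) (f : Q →* Module.End F U) :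
    derivedSeries Q (Nat.log 2 d + 1) ≤ f.ker := by
  apply derivedSeries_le_ker
  exact hB U (Q ⧸ f.ker) (hQ.to_quotient f.ker) (kerLiftM f) (kerLiftM_injective f) hd

omit [Fact p.Prime] in
lemma reducible_step {n : ℕ} (hp : (p : F) ≠ 0) (ih : ∀ m < n, Bound F p m)
    (V : Type u) [AddCommGroup V] [Module F V] [FiniteDimensional F V] (Q : Type u) [Group Q]
    [Finite Q] (hQ : IsPGroup p Q) (ρ : Q →* Module.End F V) (hρ : Function.Injective ρ)
    (hn : finrank F V = n) (W : Submodule F V) (hW : ∀ g, ∀ v ∈ W, ρ g v ∈ W)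
    (hW0 : W ≠ ⊥) (hW1 : W ≠ ⊤) : derivedSeries Q (Nat.log 2 n + 1) = ⊥ := by
  have ha1 : finrank F W < n := hn ▸ Submodule.finrank_lt hW1
  have ha0 : 0 < finrank F W := by
    rw [Nat.pos_iff_ne_zero]
    intro h
    exact hW0 (Submodule.finrank_eq_zero.mp h)
  have hb := Submodule.finrank_quotient_add_finrank W
  rw [hn] at hb
  have hb1 : finrank F (V ⧸ W) < n := by omega
  have k1 := ih_apply (ih _ ha1) rfl hQ (restrictHom ρ W hW)
  have k2 := ih_apply (ih _ hb1) rfl hQ (quotHom ρ W hW)
  have m1 : derivedSeries Q (Nat.log 2 n + 1) ≤ derivedSeries Q (Nat.log 2 (finrank F W) + 1) :=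
    derivedSeries_antitone Q (Nat.succ_le_succ (Nat.log_mono_right ha1.le))
  have m2 : derivedSeries Q (Nat.log 2 n + 1) ≤
      derivedSeries Q (Nat.log 2 (finrank F (V ⧸ W)) + 1) :=
    derivedSeries_antitone Q (Nat.succ_le_succ (Nat.log_mono_right hb1.le))
  rw [eq_bot_iff]
  intro g hg
  rw [Subgroup.mem_bot]
  have g1 := k1 (m1 hg)
  have g2 := k2 (m2 hg)
  rw [MonoidHom.mem_ker] at g1 g2
  apply eq_one_of_trivial_sub_quot hp hQ ρ hρ W g
  · intro w hw
    have := congrArg (fun f : Module.End F W => ((f ⟨w, hw⟩ : W) : V)) g1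
    simpa using this
  · intro v
    have := congrArg (fun f : Module.End F (V ⧸ W) => f (Submodule.Quotient.mk v)) g2
    simp only [quotHom_apply, Module.End.one_apply] at this
    exact (Submodule.Quotient.eq _).mp this

lemma central_scalar [IsAlgClosed F] {V : Type*} [AddCommGroup V] [Module F V]
    [FiniteDimensional F V] [Nontrivial V] {Q : Type*} [Group Q] (ρ : Q →* Module.End F V)
    (hirr : ∀ W : Submodule F V, (∀ g, ∀ v ∈ W, ρ g v ∈ W) → W = ⊥ ∨ W = ⊤)
    (c : Q) (hc : c ∈ Subgroup.center Q) : ∃ ζ : F, ∀ v, ρ c v = ζ • v := by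
  obtain ⟨ζ, hζ⟩ := Module.End.exists_eigenvalue (ρ c)
  refine ⟨ζ, ?_⟩
  have hinv : ∀ g, ∀ v ∈ Module.End.eigenspace (ρ c) ζ, ρ g v ∈ Module.End.eigenspace (ρ c) ζ := by
    intro g v hv
    rw [Module.End.mem_eigenspace_iff] at hv ⊢
    rw [← rho_mul_apply, ← (Subgroup.mem_center_iff.mp hc g), rho_mul_apply, hv, map_smul]
  rcases hirr _ hinv with h | h
  · exact absurd h hζ
  · intro v
    have : v ∈ Module.End.eigenspace (ρ c) ζ := by rw [h]; trivial
    exact Module.End.mem_eigenspace_iff.mp this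


lemma irreducible_step [IsAlgClosed F] {n : ℕ} (ih : ∀ m < n, Bound F p m)
    (V : Type u) [AddCommGroup V] [Module F V] [FiniteDimensional F V] (Q : Type u) [Group Q]
    [Finite Q] (hQ : IsPGroup p Q) (ρ : Q →* Module.End F V) (hρ : Function.Injective ρ)
    (hn : finrank F V = n) (hn0 : 0 < n)
    (hirr : ∀ W : Submodule F V, (∀ g, ∀ v ∈ W, ρ g v ∈ W) → W = ⊥ ∨ W = ⊤) :
    derivedSeries Q (Nat.log 2 n + 1) = ⊥ := by
  classical
  have hnt : Nontrivial V := Module.finrank_pos_iff.mp (hn ▸ hn0)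
  by_cases hab : ∀ g h : Q, g * h = h * g
  · have h1 : derivedSeries Q 1 = ⊥ := by
      rw [derivedSeries_one, commutator_eq_bot_iff_center_eq_top, eq_top_iff]
      intro z _
      rw [Subgroup.mem_center_iff]
      intro g
      exact hab g z
    exact derivedSeries_eq_bot_mono (by omega) h1
  · -- the nonabelian case
    have hZtop : Subgroup.center Q ≠ ⊤ := by
      intro h
      apply hab
      intro g k
      have : k ∈ Subgroup.center Q := by rw [h]; trivial
      exact Subgroup.mem_center_iff.mp this g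
    obtain ⟨y, hy⟩ : ∃ y, y ∉ Subgroup.center Q := by
      by_contra hcon
      push Not at hcon
      exact hZtop (eq_top_iff.mpr fun g _ => hcon g)
    have hntQ : Nontrivial (Q ⧸ Subgroup.center Q) :=
      ⟨⟨(QuotientGroup.mk y : Q ⧸ Subgroup.center Q), 1, fun h => hy ((QuotientGroup.eq_one_iff y).mp h)⟩⟩
    have hQZ : IsPGroup p (Q ⧸ Subgroup.center Q) := hQ.to_quotient (Subgroup.center Q)
    have hcn : Nontrivial (Subgroup.center (Q ⧸ Subgroup.center Q)) := hQZ.center_nontrivial
    obtain ⟨c, hc⟩ := exists_ne (1 : Subgroup.center (Q ⧸ Subgroup.center Q))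
    obtain ⟨x, hx⟩ := QuotientGroup.mk_surjective (c : Q ⧸ Subgroup.center Q)
    have hx1 : x ∉ Subgroup.center Q := by
      intro h
      apply hc
      apply Subtype.ext
      rw [← hx]
      exact (QuotientGroup.eq_one_iff x).mpr h
    have hx2 : ∀ g, x⁻¹ * g⁻¹ * x * g ∈ Subgroup.center Q := by
      intro g
      rw [← QuotientGroup.eq_one_iff]
      have h1 := Subgroup.mem_center_iff.mp c.2 ((QuotientGroup.mk g : Q ⧸ Subgroup.center Q))
      rw [← hx] at h1
      simp only [QuotientGroup.mk_mul, QuotientGroup.mk_inv]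
      calc ((x : Q ⧸ Subgroup.center Q))⁻¹ * (g : Q ⧸ Subgroup.center Q)⁻¹ * x * g
          = ((x : Q ⧸ Subgroup.center Q))⁻¹ * (g : Q ⧸ Subgroup.center Q)⁻¹ * ((x : Q ⧸ Subgroup.center Q) * g) := by group
        _ = ((x : Q ⧸ Subgroup.center Q))⁻¹ * (g : Q ⧸ Subgroup.center Q)⁻¹ * ((g : Q ⧸ Subgroup.center Q) * x) := by rw [h1]
        _ = 1 := by group
    set M : Subgroup Q := (commHom x hx2).ker with hMdef
    have hMcomm : commutator Q ≤ M := commutator_le_commHom_ker x hx2
    have hMmem : ∀ m, m ∈ M ↔ x * m = m * x := mem_commHom_ker x hx2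
    have hMn : M.Normal := MonoidHom.normal_ker _
    -- scalars
    have hsc : ∀ g, ∃ ζ : F, ∀ v, ρ (x⁻¹ * g⁻¹ * x * g) v = ζ • v :=
      fun g => central_scalar ρ hirr _ (hx2 g)
    choose ζ hζ using hsc
    obtain ⟨lam, hlam⟩ := Module.End.exists_eigenvalue (ρ x)
    set E := Module.End.eigenspace (ρ x) lam with hE
    have hE0 : E ≠ ⊥ := hlam
    have hEtop : E ≠ ⊤ := by
      intro h
      apply hx1
      rw [Subgroup.mem_center_iff]
      intro g
      apply hρ
      ext v
      have h1 : ∀ w, ρ x w = lam • w := by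
        intro w
        have : w ∈ E := by rw [h]; trivial
        exact Module.End.mem_eigenspace_iff.mp this
      rw [rho_mul_apply, rho_mul_apply, h1, h1, map_smul]
    have key : ∀ g, ∀ v ∈ E, ρ x (ρ g v) = (ζ g * lam) • ρ g v := by
      intro g v hv
      have hv' : ρ x v = lam • v := Module.End.mem_eigenspace_iff.mp hv
      have e1 : x * g = g * (x * (x⁻¹ * g⁻¹ * x * g)) := by group
      rw [← rho_mul_apply, e1, rho_mul_apply, rho_mul_apply, hζ, map_smul, hv', smul_smul,
        map_smul]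
    have hUeig : ∀ g, E.map (ρ g) ≤ Module.End.eigenspace (ρ x) (ζ g * lam) := by
      intro g u hu
      obtain ⟨v, hv, rfl⟩ := hu
      exact Module.End.mem_eigenspace_iff.mpr (key g v hv)
    have hEM : ∀ m ∈ M, ∀ v ∈ E, ρ m v ∈ E := by
      intro m hm v hv
      have hv' : ρ x v = lam • v := Module.End.mem_eigenspace_iff.mp hv
      rw [hE, Module.End.mem_eigenspace_iff, ← rho_mul_apply, (hMmem m).mp hm, rho_mul_apply,
        hv', map_smul]
    have hUM : ∀ g, ∀ m ∈ M, ∀ u ∈ E.map (ρ g), ρ m u ∈ E.map (ρ g) := by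
      intro g m hm u hu
      obtain ⟨v, hv, rfl⟩ := hu
      have hm' : g⁻¹ * m * g ∈ M := by
        have := hMn.conj_mem m hm g⁻¹
        rwa [inv_inv] at this
      refine ⟨ρ (g⁻¹ * m * g) v, hEM _ hm' v hv, ?_⟩
      rw [← rho_mul_apply, ← rho_mul_apply]
      congr 2
      group
    have hUdim : ∀ g, finrank F (E.map (ρ g)) = finrank F E := fun g =>
      (LinearEquiv.finrank_eq (Submodule.equivMapOfInjective (ρ g) (rho_injective ρ g) E)).symm
    have hU1 : E.map (ρ 1) = E := by
      rw [map_one]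
      exact Submodule.map_id E
    have hUsup : ⨆ g, E.map (ρ g) = ⊤ := by
      have hinv : ∀ h, ∀ v ∈ ⨆ g, E.map (ρ g), ρ h v ∈ ⨆ g, E.map (ρ g) := by
        intro h v hv
        induction hv using Submodule.iSup_induction' with
        | mem g u hu =>
          obtain ⟨w, hw, rfl⟩ := hu
          apply Submodule.mem_iSup_of_mem (h * g)
          exact ⟨w, hw, by rw [rho_mul_apply]⟩
        | zero => rw [map_zero]; exact Submodule.zero_mem _
        | add a b _ _ ha hb => rw [map_add]; exact Submodule.add_mem _ ha hb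
      rcases hirr _ hinv with h | h
      · exfalso
        apply hE0
        have h5 : E ≤ ⨆ g, E.map (ρ g) := by
          calc E = E.map (ρ 1) := hU1.symm
            _ ≤ _ := le_iSup (fun g => E.map (ρ g)) 1
        rw [h] at h5
        exact le_bot_iff.mp h5
      · exact h
    -- a translate disjoint from E
    have hnotinv : ¬ ∀ g, ∀ v ∈ E, ρ g v ∈ E := by
      intro h
      rcases hirr E h with h | h
      · exact hE0 h
      · exact hEtop h
    push Not at hnotinv
    obtain ⟨g₀, v₀, hv₀, hgv₀⟩ := hnotinv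
    have hne : ζ g₀ * lam ≠ lam := by
      intro h
      apply hgv₀
      have := hUeig g₀ ⟨v₀, hv₀, rfl⟩
      rwa [h] at this
    have hdisj : E.map (ρ g₀) ⊓ E = ⊥ := by
      rw [eq_bot_iff]
      intro w hw
      obtain ⟨hw1, hw2⟩ := hw
      have h1 := Module.End.mem_eigenspace_iff.mp (hUeig g₀ hw1)
      have h2 : ρ x w = lam • w := Module.End.mem_eigenspace_iff.mp hw2
      rw [h2] at h1
      have h3 : (ζ g₀ * lam - lam) • w = 0 := by rw [sub_smul, ← h1, sub_self]
      rcases smul_eq_zero.mp h3 with h4 | h4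
      · exact absurd (sub_eq_zero.mp h4) hne
      · exact (Submodule.mem_bot F).mpr h4
    set d := finrank F E with hd
    have hd0 : 0 < d := by
      rw [Nat.pos_iff_ne_zero]
      intro h
      exact hE0 (Submodule.finrank_eq_zero.mp h)
    have h2d : d * 2 ≤ n := by
      have h1 := Submodule.finrank_sup_add_finrank_inf_eq (E.map (ρ g₀)) E
      rw [hdisj, finrank_bot, hUdim g₀] at h1
      have h2 := Submodule.finrank_le (E.map (ρ g₀) ⊔ E)
      rw [hn] at h2
      omega
    have hdn : d < n := by omega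
    have hMQ : IsPGroup p M := hQ.to_subgroup M
    -- the restricted actions
    have hker : ∀ g, derivedSeries M (Nat.log 2 d + 1) ≤
        (restrictHom (ρ.comp M.subtype) (E.map (ρ g))
          (fun m u hu => hUM g m m.2 u hu)).ker :=
      fun g => ih_apply (ih d hdn) (hUdim g) hMQ _
    have hMbot : derivedSeries M (Nat.log 2 d + 1) = ⊥ := by
      rw [eq_bot_iff]
      intro m hm
      rw [Subgroup.mem_bot]
      have h1 : ∀ g, ∀ u ∈ E.map (ρ g), ρ m u = u := by
        intro g u hu
        have h2 := hker g hm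
        rw [MonoidHom.mem_ker] at h2
        have := congrArg (fun f : Module.End F (E.map (ρ g)) => ((f ⟨u, hu⟩ : E.map (ρ g)) : V)) h2
        exact this
      have h3 : (⊤ : Submodule F V) ≤ LinearMap.eqLocus (ρ (m : Q)) (1 : Module.End F V) := by
        rw [← hUsup]
        apply iSup_le
        intro g u hu
        rw [LinearMap.mem_eqLocus]
        exact h1 g u hu
      apply Subtype.ext
      apply hρ
      rw [Subgroup.coe_one, map_one]
      ext v
      have := h3 (Submodule.mem_top : v ∈ ⊤)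
      rwa [LinearMap.mem_eqLocus] at this
    have hlog : Nat.log 2 d + 1 ≤ Nat.log 2 n := by
      rw [← Nat.log_mul_base (by norm_num) hd0.ne']
      exact Nat.log_mono_right h2d
    exact derivedSeries_eq_bot_of_sub M hMcomm _ (derivedSeries_eq_bot_mono hlog hMbot)

/-- The coprime characteristic case over an algebraically closed field. -/
theorem bound_all [IsAlgClosed F] (hp : (p : F) ≠ 0) : ∀ n, Bound F p n := by
  intro n
  induction n using Nat.strong_induction_on with
  | _ n ih =>
    intro V _ _ _ Q _ _ hQ ρ hρ hn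
    rcases Nat.eq_zero_or_pos n with h0 | hpos
    · subst h0
      have hsV : Subsingleton V := Module.finrank_zero_iff.mp hn
      have hsQ : Subsingleton Q :=
        ⟨fun a b => hρ (LinearMap.ext fun v => Subsingleton.elim _ _)⟩
      exact Subsingleton.elim _ _
    · by_cases hred : ∃ W : Submodule F V, (∀ g, ∀ v ∈ W, ρ g v ∈ W) ∧ W ≠ ⊥ ∧ W ≠ ⊤
      · obtain ⟨W, hW, hW0, hW1⟩ := hred
        exact reducible_step hp ih V Q hQ ρ hρ hn W hW hW0 hW1
      · push Not at hred
        refine irreducible_step ih V Q hQ ρ hρ hn hpos (fun W hW => ?_)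
        by_contra h
        push Not at h
        exact h.2 (hred W hW h.1)

end CharNeP


section Main

/-- A finite `p`-group of linear maps on an `n`-dimensional space over any field has derived
length at most `⌊log₂ n⌋ + 1`. -/
theorem derivedSeries_eq_bot_of_linear {P : Type*} [Group P] [Finite P] (p : ℕ) [Fact p.Prime]
    (hP : IsPGroup p P) (F : Type*) [Field F] (n : ℕ)
    (ρ : P →* Matrix.GeneralLinearGroup (Fin n) F) (hρ : Function.Injective ρ) :
    derivedSeries P (Nat.log 2 n + 1) = ⊥ := by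
  classical
  let K := AlgebraicClosure F
  let ρ₀ : P →* Matrix (Fin n) (Fin n) K :=
    (Units.coeHom _).comp ((Matrix.GeneralLinearGroup.map (algebraMap F K)).comp ρ)
  have hρ₀ : Function.Injective ρ₀ := by
    intro a b hab
    apply hρ
    apply Matrix.GeneralLinearGroup.ext
    intro i j
    have h1 := congrFun (congrFun hab i) j
    have h2 : ∀ c : P, ρ₀ c i j = algebraMap F K ((ρ c : Matrix (Fin n) (Fin n) F) i j) := by
      intro c
      rfl
    rw [h2, h2] at h1
    exact (algebraMap F K).injective h1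
  let ρ₁ : P →* Module.End K (Fin n → K) :=
    (MonoidHomClass.toMonoidHom (Matrix.toLinAlgEquiv' (R := K) (n := Fin n))).comp ρ₀
  have hρ₁ : Function.Injective ρ₁ := by
    intro a b hab
    apply hρ₀
    exact (Matrix.toLinAlgEquiv' (R := K) (n := Fin n)).injective hab
  have hu : Function.Injective ρ₁.toHomUnits := by
    intro a b hab
    apply hρ₁
    have := congrArg Units.val hab
    simpa using this
  let Q : Subgroup (Module.End K (Fin n → K))ˣ := ρ₁.toHomUnits.range
  let e : P ≃* Q := MonoidHom.ofInjective hu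
  have hfin : Finite Q := Finite.of_equiv P e.toEquiv
  have hQ : IsPGroup p Q := hP.of_equiv e
  let ρQ : Q →* Module.End K (Fin n → K) := (Units.coeHom _).comp Q.subtype
  have hρQ : Function.Injective ρQ := by
    intro a b hab
    apply Subtype.ext
    apply Units.ext
    exact hab
  have hfr : finrank K (Fin n → K) = n := Module.finrank_fin_fun K
  have key : derivedSeries Q (Nat.log 2 n + 1) = ⊥ := by
    by_cases hp0 : (p : K) = 0
    · have := charp_case hp0 hQ ρQ hρQ
      rwa [hfr] at this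
    · exact bound_all hp0 n (Fin n → K) Q hQ ρQ hρQ hfr
  have h1 := map_derivedSeries_eq (f := e.symm.toMonoidHom) e.symm.surjective (Nat.log 2 n + 1)
  rw [key, Subgroup.map_bot] at h1
  exact h1.symm

end Main

end Cfsg.Agent.Helper63.LinPGroup
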