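import Mathlib
import Cfsg.Agent.Lib.Helper63.LinPGroup
import Cfsg.Agent.Lib.Helper10.Nilp

set_option autoImplicit false

namespace Cfsg.Agent.Helper63.ImprimP

open Module Finset

section Lin

variable {F : Type*} [Field F] {V : Type*} [AddCommGroup V] [Module F V]
variable {G : Type*} [Group G]

/-- The fixed space of `g`. -/
def fixSp (ρ : G →* (V ≃ₗ[F] V)) (g : G) : Submodule F V :=
  LinearMap.ker ((ρ g : V →ₗ[F] V) - 1)

lemma mem_fixSp (ρ : G →* (V ≃ₗ[F] V)) (g : G) (v : V) : v ∈ fixSp ρ g ↔ ρ g v = v := by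
  simp [fixSp, sub_eq_zero]

lemma rho_mul (ρ : G →* (V ≃ₗ[F] V)) (g h : G) (v : V) : ρ (g * h) v = ρ g (ρ h v) := by
  rw [map_mul]; rfl

lemma rho_one (ρ : G →* (V ≃ₗ[F] V)) (v : V) : ρ 1 v = v := by
  rw [map_one]; rfl

lemma rho_inv_cancel (ρ : G →* (V ≃ₗ[F] V)) (g : G) (v : V) : ρ g⁻¹ (ρ g v) = v := by
  rw [← rho_mul, inv_mul_cancel, rho_one]

lemma rho_cancel_inv (ρ : G →* (V ≃ₗ[F] V)) (g : G) (v : V) : ρ g (ρ g⁻¹ v) = v := by
  rw [← rho_mul, mul_inv_cancel, rho_one]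

lemma rho_pow_fixed (ρ : G →* (V ≃ₗ[F] V)) (g : G) (v : V) (h : ρ g v = v) (i : ℕ) :
    ρ (g ^ i) v = v := by
  induction i with
  | zero => rw [pow_zero, rho_one]
  | succ i ih => rw [pow_succ, rho_mul, h, ih]

lemma map_fixSp (ρ : G →* (V ≃ₗ[F] V)) (g a : G) :
    (fixSp ρ a).map (ρ g : V →ₗ[F] V) = fixSp ρ (g * a * g⁻¹) := by
  ext v
  rw [Submodule.mem_map, mem_fixSp]
  constructor
  · rintro ⟨w, hw, rfl⟩
    rw [mem_fixSp] at hw
    show ρ (g * a * g⁻¹) (ρ g w) = ρ g w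
    rw [← rho_mul, inv_mul_cancel_right, rho_mul, hw]
  · intro hv
    refine ⟨ρ g⁻¹ v, ?_, rho_cancel_inv ρ g v⟩
    rw [mem_fixSp, ← rho_mul]
    have : a * g⁻¹ = g⁻¹ * (g * a * g⁻¹) := by group
    rw [this, rho_mul, hv]

/-- Trace-like sum over the first `p` powers of `g`, as a linear map. -/
def trL (ρ : G →* (V ≃ₗ[F] V)) (p : ℕ) (g : G) : V →ₗ[F] V :=
  ∑ i ∈ range p, ((ρ (g ^ i) : V ≃ₗ[F] V) : V →ₗ[F] V)

lemma trL_apply (ρ : G →* (V ≃ₗ[F] V)) (p : ℕ) (g : G) (v : V) :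
    trL ρ p g v = ∑ i ∈ range p, ρ (g ^ i) v := by
  unfold trL
  rw [LinearMap.sum_apply]
  rfl

lemma tr_fixed (ρ : G →* (V ≃ₗ[F] V)) (p : ℕ) (g : G) (hg : g ^ p = 1) (v : V) :
    ρ g (trL ρ p g v) = trL ρ p g v := by
  rw [trL_apply, map_sum]
  have h1 : ∀ i ∈ range p, ρ g (ρ (g ^ i) v) = ρ (g ^ (i + 1)) v := by
    intro i _
    rw [← rho_mul, ← pow_succ']
  rw [sum_congr rfl h1]
  have h2 := sum_range_succ (fun i => ρ (g ^ i) v) p
  have h3 := sum_range_succ' (fun i => ρ (g ^ i) v) p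
  simp only [hg, pow_zero] at h2 h3
  rw [h2] at h3
  exact (add_right_cancel h3).symm

lemma tr_of_fixed (ρ : G →* (V ≃ₗ[F] V)) (p : ℕ) (g : G) (v : V) (h : ρ g v = v) :
    trL ρ p g v = (p : F) • v := by
  rw [trL_apply, sum_congr rfl (fun i _ => rho_pow_fixed ρ g v h i), sum_const, card_range,
    Nat.cast_smul_eq_nsmul]

/-- A central element `z ≠ 1` has trivial fixed space in an irreducible faithful action. -/
lemma fixSp_central_eq_bot [Nontrivial V] (ρ : G →* (V ≃ₗ[F] V)) (hρ : Function.Injective ρ)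
    (hirr : ∀ W : Submodule F V, (∀ g : G, ∀ w ∈ W, ρ g w ∈ W) → W = ⊥ ∨ W = ⊤)
    (z : G) (hz : z ∈ Subgroup.center G) (hz1 : z ≠ 1) : fixSp ρ z = ⊥ := by
  have hinv : ∀ g : G, ∀ w ∈ fixSp ρ z, ρ g w ∈ fixSp ρ z := by
    intro g w hw
    rw [mem_fixSp] at hw ⊢
    rw [← rho_mul, ← Subgroup.mem_center_iff.mp hz g, rho_mul, hw]
  rcases hirr _ hinv with h | h
  · exact h
  · exfalso
    apply hz1
    apply hρ
    rw [map_one]
    ext v
    have : v ∈ fixSp ρ z := by rw [h]; trivial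
    exact (mem_fixSp ρ z v).mp this

lemma tr_central_eq_zero [Nontrivial V] (ρ : G →* (V ≃ₗ[F] V)) (hρ : Function.Injective ρ)
    (hirr : ∀ W : Submodule F V, (∀ g : G, ∀ w ∈ W, ρ g w ∈ W) → W = ⊥ ∨ W = ⊤)
    (p : ℕ) (z : G) (hz : z ∈ Subgroup.center G) (hz1 : z ≠ 1) (hzp : z ^ p = 1) (v : V) :
    trL ρ p z v = 0 := by
  have h1 : trL ρ p z v ∈ fixSp ρ z := (mem_fixSp ρ z _).mpr (tr_fixed ρ p z hzp v)
  rw [fixSp_central_eq_bot ρ hρ hirr z hz hz1] at h1
  exact (Submodule.mem_bot F).mp h1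

end Lin


section Decomp

variable {F : Type*} [Field F] {V : Type*} [AddCommGroup V] [Module F V] [Nontrivial V]
variable {G : Type*} [Group G]

lemma coe_pow_card_eq_one (N : Subgroup G) [Fintype N] (n : N) :
    ((n : G)) ^ Fintype.card N = 1 := by
  rw [← Subgroup.coe_pow, pow_card_eq_one, Subgroup.coe_one]

lemma yn_pow (p : ℕ) (N : Subgroup G) [Fintype N] (hNc : N ≤ Subgroup.center G)
    (hNp : Fintype.card N = p) (y : G) (hyp : y ^ p = 1) (n : N) : (y * (n : G)) ^ p = 1 := by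
  have hc : Commute y (n : G) := Subgroup.mem_center_iff.mp (hNc n.2) y
  rw [hc.mul_pow, hyp, ← hNp, coe_pow_card_eq_one, one_mul]

lemma tr_other (ρ : G →* (V ≃ₗ[F] V)) (hρ : Function.Injective ρ)
    (hirr : ∀ W : Submodule F V, (∀ g : G, ∀ w ∈ W, ρ g w ∈ W) → W = ⊥ ∨ W = ⊤)
    (p : ℕ) (N : Subgroup G) [Fintype N] (hNc : N ≤ Subgroup.center G)
    (hNp : Fintype.card N = p) (y : G) (n m : N) (hnm : m ≠ n) (v : V)
    (hv : v ∈ fixSp ρ (y * (m : G))) : trL ρ p (y * (n : G)) v = 0 := by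
  set z : G := (m : G)⁻¹ * (n : G) with hz
  have hzc : z ∈ Subgroup.center G := hNc (N.mul_mem (N.inv_mem m.2) n.2)
  have hz1 : z ≠ 1 := by
    intro h
    apply hnm
    apply Subtype.ext
    rw [hz, inv_mul_eq_one] at h
    exact h
  have hzp : z ^ p = 1 := by
    have := coe_pow_card_eq_one N (m⁻¹ * n)
    rw [hNp] at this
    simpa [hz] using this
  have hcomm : Commute z (y * (m : G)) := (Subgroup.mem_center_iff.mp hzc _).symm
  have hyn : y * (n : G) = z * (y * (m : G)) := by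
    rw [hz]
    have hn := Subgroup.mem_center_iff.mp (hNc n.2)
    have hm := Subgroup.mem_center_iff.mp (hNc m.2)
    symm
    calc (m : G)⁻¹ * (n : G) * (y * (m : G)) = (m : G)⁻¹ * ((n : G) * y) * (m : G) := by group
      _ = (m : G)⁻¹ * (y * (n : G)) * (m : G) := by rw [← hn y]
      _ = (m : G)⁻¹ * y * ((n : G) * (m : G)) := by group
      _ = (m : G)⁻¹ * y * ((m : G) * (n : G)) := by rw [← hn (m : G)]
      _ = (m : G)⁻¹ * (y * (m : G)) * (n : G) := by group
      _ = (m : G)⁻¹ * ((m : G) * y) * (n : G) := by rw [hm y]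
      _ = y * (n : G) := by group
  rw [mem_fixSp] at hv
  have h2 : trL ρ p (y * (n : G)) v = trL ρ p z v := by
    rw [trL_apply, trL_apply]
    apply sum_congr rfl
    intro i _
    rw [hyn, hcomm.mul_pow, rho_mul, rho_pow_fixed ρ _ v hv]
  rw [h2]
  exact tr_central_eq_zero ρ hρ hirr p z hzc hz1 hzp v

lemma sum_N_eq_zero (ρ : G →* (V ≃ₗ[F] V)) (hρ : Function.Injective ρ)
    (hirr : ∀ W : Submodule F V, (∀ g : G, ∀ w ∈ W, ρ g w ∈ W) → W = ⊥ ∨ W = ⊤)
    (p : ℕ) [Fact p.Prime] (N : Subgroup G) [Fintype N] (hNc : N ≤ Subgroup.center G)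
    (hNp : Fintype.card N = p) (v : V) : ∑ n : N, ρ (n : G) v = 0 := by
  have hnt : Nontrivial N := by
    rw [← Fintype.one_lt_card_iff_nontrivial, hNp]
    exact (Fact.out : p.Prime).one_lt
  obtain ⟨z, hz⟩ := exists_ne (1 : N)
  have hz1 : (z : G) ≠ 1 := fun h => hz (Subtype.ext h)
  have h1 : ρ (z : G) (∑ n : N, ρ (n : G) v) = ∑ n : N, ρ (n : G) v := by
    rw [map_sum]
    have : ∀ n : N, ρ (z : G) (ρ (n : G) v) = ρ (((Equiv.mulLeft z) n : N) : G) v := by
      intro n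
      rw [← rho_mul]
      rfl
    rw [Fintype.sum_congr _ _ this]
    exact Equiv.sum_comp (Equiv.mulLeft z) (fun n : N => ρ (n : G) v)
  have h2 : (∑ n : N, ρ (n : G) v) ∈ fixSp ρ (z : G) := (mem_fixSp ρ _ _).mpr h1
  rw [fixSp_central_eq_bot ρ hρ hirr _ (hNc z.2) hz1] at h2
  exact (Submodule.mem_bot F).mp h2

lemma sum_tr (ρ : G →* (V ≃ₗ[F] V)) (hρ : Function.Injective ρ)
    (hirr : ∀ W : Submodule F V, (∀ g : G, ∀ w ∈ W, ρ g w ∈ W) → W = ⊥ ∨ W = ⊤)
    (p : ℕ) [Fact p.Prime] (N : Subgroup G) [Fintype N] (hNc : N ≤ Subgroup.center G)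
    (hNp : Fintype.card N = p) (y : G) (v : V) :
    ∑ n : N, trL ρ p (y * (n : G)) v = (p : F) • v := by
  have hpp : p.Prime := Fact.out
  simp only [trL_apply]
  rw [sum_comm]
  have hterm : ∀ i ∈ range p, ∑ n : N, ρ ((y * (n : G)) ^ i) v
      = ρ (y ^ i) (∑ n : N, ρ ((n : G) ^ i) v) := by
    intro i _
    rw [map_sum]
    apply Fintype.sum_congr
    intro n
    have hc : Commute y (n : G) := Subgroup.mem_center_iff.mp (hNc n.2) y
    rw [hc.mul_pow, rho_mul]
  rw [sum_congr rfl hterm, sum_eq_single 0]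
  · simp only [pow_zero, rho_one, sum_const, card_univ, hNp, Nat.cast_smul_eq_nsmul]
  · intro i hi hi0
    have hip : i < p := mem_range.mp hi
    have hcop : (Nat.card N).Coprime i := by
      rw [Nat.card_eq_fintype_card, hNp]
      exact (Nat.Prime.coprime_iff_not_dvd hpp).mpr (Nat.not_dvd_of_pos_of_lt (Nat.pos_of_ne_zero hi0) hip)
    have h1 : ∑ n : N, ρ ((n : G) ^ i) v = ∑ n : N, ρ (n : G) v := by
      have : ∀ n : N, ρ ((n : G) ^ i) v = ρ (((powCoprime hcop) n : N) : G) v := by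
        intro n
        rfl
      rw [Fintype.sum_congr _ _ this]
      exact Equiv.sum_comp (powCoprime hcop) (fun n : N => ρ (n : G) v)
    rw [h1, sum_N_eq_zero ρ hρ hirr p N hNc hNp, map_zero]
  · intro h
    exact absurd (mem_range.mpr hpp.pos) h

end Decomp


section Main

variable {F : Type*} [Field F] {V : Type*} [AddCommGroup V] [Module F V] [Nontrivial V]
variable {G : Type*} [Group G]

theorem decomp (ρ : G →* (V ≃ₗ[F] V)) (hρ : Function.Injective ρ)
    (hirr : ∀ W : Submodule F V, (∀ g : G, ∀ w ∈ W, ρ g w ∈ W) → W = ⊥ ∨ W = ⊤)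
    (p : ℕ) [Fact p.Prime] (hpF : (p : F) ≠ 0) (N : Subgroup G) [Fintype N]
    (hNc : N ≤ Subgroup.center G) (hNp : Fintype.card N = p) (y : G) (hyp : y ^ p = 1) :
    (⨆ n : N, fixSp ρ (y * (n : G))) = ⊤ ∧ iSupIndep (fun n : N => fixSp ρ (y * (n : G))) := by
  constructor
  · rw [eq_top_iff]
    intro v _
    have hv : v = (p : F)⁻¹ • ∑ n : N, trL ρ p (y * (n : G)) v := by
      rw [sum_tr ρ hρ hirr p N hNc hNp, smul_smul, inv_mul_cancel₀ hpF, one_smul]
    rw [hv]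
    apply Submodule.smul_mem
    apply Submodule.sum_mem
    intro n _
    apply Submodule.mem_iSup_of_mem n
    exact (mem_fixSp ρ _ _).mpr (tr_fixed ρ p _ (yn_pow p N hNc hNp y hyp n) v)
  · intro n
    rw [Submodule.disjoint_def]
    intro x hx1 hx2
    have h1 : trL ρ p (y * (n : G)) x = (p : F) • x :=
      tr_of_fixed ρ p _ x ((mem_fixSp ρ _ _).mp hx1)
    have hle : (⨆ (m : N) (_ : m ≠ n), fixSp ρ (y * (m : G))) ≤
        LinearMap.ker (trL ρ p (y * (n : G))) := by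
      apply iSup_le
      intro m
      apply iSup_le
      intro hm w hw
      exact LinearMap.mem_ker.mpr (tr_other ρ hρ hirr p N hNc hNp y n m hm w hw)
    have h2 : trL ρ p (y * (n : G)) x = 0 := LinearMap.mem_ker.mp (hle hx2)
    rw [h1] at h2
    rcases smul_eq_zero.mp h2 with h | h
    · exact absurd h hpF
    · exact h

theorem exists_N_y [Finite G] (p : ℕ) [Fact p.Prime] (hG : IsPGroup p G) (A : Subgroup G)
    [hAn : A.Normal] (hexp : ∀ a ∈ A, a ^ p = 1) (hcard : Nat.card A = p ^ 2) :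
    ∃ (N : Subgroup G) (y : G), N ≤ Subgroup.center G ∧ Nat.card N = p ∧ y ∉ N ∧ y ^ p = 1 ∧
      ∀ g : G, y⁻¹ * g * y * g⁻¹ ∈ N := by
  have hpp : p.Prime := Fact.out
  have : Group.IsNilpotent G := hG.isNilpotent
  have hA0 : A ≠ ⊥ := by
    intro h
    rw [h, Subgroup.card_bot] at hcard
    have := hpp.one_lt
    nlinarith
  have h1 := Cfsg.Agent.Helper10.normal_inf_center_ne_bot A hA0
  obtain ⟨x, hx1⟩ := (Subgroup.ne_bot_iff_exists_ne_one).mp h1
  have hxA : (x : G) ∈ A := (Subgroup.mem_inf.mp x.2).1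
  have hxc : (x : G) ∈ Subgroup.center G := (Subgroup.mem_inf.mp x.2).2
  have hxne : (x : G) ≠ 1 := fun h => hx1 (Subtype.ext h)
  set N : Subgroup G := Subgroup.zpowers (x : G) with hN
  have hNc : N ≤ Subgroup.center G := by
    rw [hN, Subgroup.zpowers_le]
    exact hxc
  have hNcard : Nat.card N = p := by
    rw [hN, Nat.card_zpowers]
    exact orderOf_eq_prime (hexp _ hxA) hxne
  haveI hNn : N.Normal := by
    constructor
    intro n hn g
    have := Subgroup.mem_center_iff.mp (hNc hn) g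
    rw [this, mul_inv_cancel_right]
    exact hn
  have hAbar : (A.map (QuotientGroup.mk' N)) ≠ ⊥ := by
    intro h
    have h2 : A ≤ N := by
      have := (Subgroup.map_eq_bot_iff _).mp h
      rwa [QuotientGroup.ker_mk'] at this
    have h3 := Subgroup.card_le_of_le h2
    rw [hcard, hNcard] at h3
    have := hpp.one_lt
    nlinarith
  haveI : (A.map (QuotientGroup.mk' N)).Normal :=
    Subgroup.Normal.map hAn _ (QuotientGroup.mk'_surjective N)
  haveI : Group.IsNilpotent (G ⧸ N) := (hG.to_quotient N).isNilpotent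
  have h2 := Cfsg.Agent.Helper10.normal_inf_center_ne_bot (A.map (QuotientGroup.mk' N)) hAbar
  obtain ⟨yb, hyb1⟩ := (Subgroup.ne_bot_iff_exists_ne_one).mp h2
  have hybA : (yb : G ⧸ N) ∈ A.map (QuotientGroup.mk' N) := (Subgroup.mem_inf.mp yb.2).1
  have hybc : (yb : G ⧸ N) ∈ Subgroup.center (G ⧸ N) := (Subgroup.mem_inf.mp yb.2).2
  obtain ⟨y, hyA, hy⟩ := Subgroup.mem_map.mp hybA
  refine ⟨N, y, hNc, hNcard, ?_, hexp y hyA, ?_⟩
  · intro hyN
    apply hyb1
    apply Subtype.ext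
    rw [← hy]
    exact (QuotientGroup.eq_one_iff y).mpr hyN
  · intro g
    rw [← QuotientGroup.eq_one_iff]
    have hc := Subgroup.mem_center_iff.mp hybc (QuotientGroup.mk g)
    rw [← hy] at hc
    simp only [QuotientGroup.mk'_apply] at hc
    simp only [QuotientGroup.mk_mul, QuotientGroup.mk_inv]
    calc ((y : G ⧸ N))⁻¹ * (g : G ⧸ N) * (y : G ⧸ N) * (g : G ⧸ N)⁻¹
        = ((y : G ⧸ N))⁻¹ * ((g : G ⧸ N) * (y : G ⧸ N)) * (g : G ⧸ N)⁻¹ := by group
      _ = ((y : G ⧸ N))⁻¹ * ((y : G ⧸ N) * (g : G ⧸ N)) * (g : G ⧸ N)⁻¹ := by rw [hc]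
      _ = 1 := by group

theorem imprimitive [Finite G] (p : ℕ) [Fact p.Prime] (hG : IsPGroup p G) (hpF : (p : F) ≠ 0)
    (ρ : G →* (V ≃ₗ[F] V)) (hρ : Function.Injective ρ)
    (hirr : ∀ W : Submodule F V, (∀ g : G, ∀ w ∈ W, ρ g w ∈ W) → W = ⊥ ∨ W = ⊤)
    (A : Subgroup G) [hAn : A.Normal] (hexp : ∀ a ∈ A, a ^ p = 1) (hcard : Nat.card A = p ^ 2) :
    ∃ (H : Subgroup G) (W : Fin p → Submodule F V), H.index = p ∧
      iSup W = ⊤ ∧ iSupIndep W ∧
      (∀ h ∈ H, ∀ i, ∀ w ∈ W i, ρ h w ∈ W i) ∧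
      (∀ i, ∃ h ∈ H, h ≠ 1 ∧ ∀ w ∈ W i, ρ h w = w) ∧
      ∀ g : G, g ∉ H → ∃ σ : Equiv.Perm (Fin p), orderOf σ = p ∧
        ∀ i, (W i).map (ρ g : V →ₗ[F] V) = W (σ i) := by
  classical
  have hpp : p.Prime := Fact.out
  obtain ⟨N, y, hNc, hNp0, hyN, hyp, hcomm⟩ := exists_N_y p hG A hexp hcard
  let _ : Fintype N := Fintype.ofFinite N
  have hNp : Fintype.card N = p := by rw [← Nat.card_eq_fintype_card]; exact hNp0
  obtain ⟨hsup, hind⟩ := decomp ρ hρ hirr p hpF N hNc hNp y hyp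
  let e : Fin p ≃ N := (Fintype.equivFinOfCardEq hNp).symm
  -- the commutator homomorphism
  have hθmul : ∀ g h : G, (⟨y⁻¹ * (g * h) * y * (g * h)⁻¹, hcomm (g * h)⟩ : N)
      = ⟨y⁻¹ * g * y * g⁻¹, hcomm g⟩ * ⟨y⁻¹ * h * y * h⁻¹, hcomm h⟩ := by
    intro g h
    apply Subtype.ext
    show y⁻¹ * (g * h) * y * (g * h)⁻¹ = (y⁻¹ * g * y * g⁻¹) * (y⁻¹ * h * y * h⁻¹)
    have hc := Subgroup.mem_center_iff.mp (hNc (hcomm h))
    have e1 : y⁻¹ * (g * h) * y * (g * h)⁻¹ = y⁻¹ * g * y * ((y⁻¹ * h * y * h⁻¹) * g⁻¹) := by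
      group
    rw [e1, ← hc g⁻¹]
    group
  let θ : G →* N := MonoidHom.mk' (fun g => ⟨y⁻¹ * g * y * g⁻¹, hcomm g⟩) hθmul
  have hθ : ∀ g, ((θ g : N) : G) = y⁻¹ * g * y * g⁻¹ := fun _ => rfl
  have hker : ∀ g, θ g = 1 ↔ y * g = g * y := by
    intro g
    constructor
    · intro h
      have h1 := congrArg Subtype.val h
      rw [hθ, Subgroup.coe_one] at h1
      have h2 : g * y = y * (y⁻¹ * g * y * g⁻¹) * g := by group
      rw [h2, h1, mul_one]
    · intro h
      apply Subtype.ext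
      rw [hθ, Subgroup.coe_one]
      have h2 : y⁻¹ * g * y * g⁻¹ = y⁻¹ * (g * y) * g⁻¹ := by group
      rw [h2, ← h]
      group
  have hconj : ∀ (g : G) (n : N), g * (y * (n : G)) * g⁻¹ = y * ((θ g * n : N) : G) := by
    intro g n
    rw [Subgroup.coe_mul, hθ]
    have hn := Subgroup.mem_center_iff.mp (hNc n.2) g⁻¹
    calc g * (y * (n : G)) * g⁻¹ = g * y * ((n : G) * g⁻¹) := by group
      _ = g * y * (g⁻¹ * (n : G)) := by rw [hn]
      _ = y * (y⁻¹ * g * y * g⁻¹ * (n : G)) := by group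
  have hyn1 : ∀ n : N, y * (n : G) ≠ 1 := by
    intro n h
    apply hyN
    have : y = ((n⁻¹ : N) : G) := by
      rw [Subgroup.coe_inv]
      exact eq_inv_of_mul_eq_one_left h
    rw [this]
    exact (n⁻¹).2
  -- θ is nontrivial
  have hθnt : ∃ g, θ g ≠ 1 := by
    by_contra hcon
    push Not at hcon
    have hinv : ∀ (n : N) (g : G), ∀ w ∈ fixSp ρ (y * (n : G)), ρ g w ∈ fixSp ρ (y * (n : G)) := by
      intro n g w hw
      have h1 : ρ g w ∈ (fixSp ρ (y * (n : G))).map (ρ g : V →ₗ[F] V) :=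
        Submodule.mem_map_of_mem hw
      rw [map_fixSp, hconj, hcon g, one_mul] at h1
      exact h1
    have hex : ∃ n : N, fixSp ρ (y * (n : G)) ≠ ⊥ := by
      by_contra hall
      push Not at hall
      have : (⨆ n : N, fixSp ρ (y * (n : G))) = ⊥ := by
        rw [iSup_eq_bot]
        exact hall
      rw [hsup] at this
      exact top_ne_bot this
    obtain ⟨n, hn⟩ := hex
    rcases hirr _ (hinv n) with h | h
    · exact hn h
    · apply hyn1 n
      apply hρ
      rw [map_one]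
      ext v
      have : v ∈ fixSp ρ (y * (n : G)) := by rw [h]; trivial
      exact (mem_fixSp ρ _ v).mp this
  have hrange : θ.range = ⊤ := by
    have : Fact (Nat.card N).Prime := ⟨by rw [hNp0]; exact hpp⟩
    rcases Subgroup.eq_bot_or_eq_top_of_prime_card θ.range with h | h
    · exfalso
      obtain ⟨g, hg⟩ := hθnt
      apply hg
      have : θ g ∈ θ.range := ⟨g, rfl⟩
      rw [h, Subgroup.mem_bot] at this
      exact this
    · exact h
  refine ⟨θ.ker, fun i => fixSp ρ (y * ((e i : N) : G)), ?_, ?_, ?_, ?_, ?_, ?_⟩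
  · rw [Subgroup.index_ker, hrange, Subgroup.card_top, hNp0]
  · rw [← hsup]
    exact e.iSup_comp (g := fun n : N => fixSp ρ (y * (n : G)))
  · exact hind.comp e.injective
  · intro h hh i w hw
    rw [MonoidHom.mem_ker, hker] at hh
    rw [mem_fixSp] at hw ⊢
    have hn := Subgroup.mem_center_iff.mp (hNc (e i).2) h
    have e1 : y * ((e i : N) : G) * h = h * (y * ((e i : N) : G)) := by
      calc y * ((e i : N) : G) * h = y * (((e i : N) : G) * h) := by group
        _ = y * (h * ((e i : N) : G)) := by rw [← hn]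
        _ = (y * h) * ((e i : N) : G) := by group
        _ = (h * y) * ((e i : N) : G) := by rw [hh]
        _ = h * (y * ((e i : N) : G)) := by group
    rw [← rho_mul, e1, rho_mul, hw]
  · intro i
    refine ⟨y * ((e i : N) : G), ?_, hyn1 _, fun w hw => (mem_fixSp ρ _ w).mp hw⟩
    rw [MonoidHom.mem_ker, hker]
    have hn := Subgroup.mem_center_iff.mp (hNc (e i).2) y
    calc y * (y * ((e i : N) : G)) = y * (((e i : N) : G) * y) := by rw [hn]
      _ = y * ((e i : N) : G) * y := by group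
  · intro g hg
    rw [MonoidHom.mem_ker] at hg
    set t : N := θ g with ht
    let σ : Equiv.Perm (Fin p) := e.trans ((Equiv.mulLeft t).trans e.symm)
    have hσ : ∀ i, e (σ i) = t * e i := by
      intro i
      simp [σ]
    have hpow : ∀ (k : ℕ) (i : Fin p), e ((σ ^ k) i) = t ^ k * e i := by
      intro k
      induction k with
      | zero => intro i; simp
      | succ k ih =>
        intro i
        rw [pow_succ', Equiv.Perm.mul_apply, hσ, ih, pow_succ', mul_assoc]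
    have htp : t ^ p = 1 := by
      rw [← hNp]
      exact pow_card_eq_one
    refine ⟨σ, ?_, ?_⟩
    · apply orderOf_eq_prime
      · ext i
        have := hpow p i
        rw [htp, one_mul] at this
        have h2 := e.injective this
        rw [h2]
        rfl
      · intro h
        apply hg
        have h1 := hσ (e.symm 1)
        rw [h, Equiv.Perm.one_apply, Equiv.apply_symm_apply, mul_one] at h1
        exact h1.symm
    · intro i
      rw [map_fixSp, hconj, ← hσ]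

end Main

end Cfsg.Agent.Helper63.ImprimP
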