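import Mathlib
import Cfsg.Prelude.Def_FusionSystem
import Cfsg.Agent.Lib.Helper87.Om7Defs

/-!
# (PERM) of helper87's lemma server "OM7" (S2647): finite facts on `P8 ≤ P16 ≤ S₇`

Permutations of `Fin 7` are encoded by their image lists `toL σ = [σ 0, …, σ 6]`; all finite checks are done on lists of
numerals.
-/

set_option autoImplicit false

namespace Cfsg.Agent.Helper63.Om7

open Cfsg.Agent.Helper87.Om7

/-- the image list of a permutation -/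
def toL (σ : Equiv.Perm (Fin 7)) : List (Fin 7) := [σ 0, σ 1, σ 2, σ 3, σ 4, σ 5, σ 6]

/-- lookup -/
def nthL (l : List (Fin 7)) (i : Fin 7) : Fin 7 := l.getD i.val 0

/-- composition on image lists -/
def compL (a b : List (Fin 7)) : List (Fin 7) := b.map (nthL a)

theorem toL_inj {σ τ : Equiv.Perm (Fin 7)} (h : toL σ = toL τ) : σ = τ := by
  simp only [toL, List.cons.injEq, and_true] at h
  obtain ⟨h0, h1, h2, h3, h4, h5, h6⟩ := h
  ext i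
  fin_cases i
  · exact congrArg Fin.val h0
  · exact congrArg Fin.val h1
  · exact congrArg Fin.val h2
  · exact congrArg Fin.val h3
  · exact congrArg Fin.val h4
  · exact congrArg Fin.val h5
  · exact congrArg Fin.val h6

theorem nth_toL (σ : Equiv.Perm (Fin 7)) (i : Fin 7) : nthL (toL σ) i = σ i := by
  fin_cases i <;> rfl

theorem toL_mul (σ τ : Equiv.Perm (Fin 7)) : toL (σ * τ) = compL (toL σ) (toL τ) := by
  have h := nth_toL σ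
  unfold toL at h
  simp only [compL, toL, List.map_cons, List.map_nil, Equiv.Perm.mul_apply, h]

/-- the rotation `(0 3 2 1)` of the dihedral group on `{0,1,2,3}` -/
def r16 : Equiv.Perm (Fin 7) := sa * Equiv.swap 0 2

/-- the 16 elements of `P16` as words -/
def W16 : List (Equiv.Perm (Fin 7)) :=
  [r16 ^ 0 * Equiv.swap (0 : Fin 7) 2 ^ 0 * Equiv.swap (4 : Fin 7) 5 ^ 0,
   r16 ^ 0 * Equiv.swap (0 : Fin 7) 2 ^ 0 * Equiv.swap (4 : Fin 7) 5 ^ 1,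
   r16 ^ 0 * Equiv.swap (0 : Fin 7) 2 ^ 1 * Equiv.swap (4 : Fin 7) 5 ^ 0,
   r16 ^ 0 * Equiv.swap (0 : Fin 7) 2 ^ 1 * Equiv.swap (4 : Fin 7) 5 ^ 1,
   r16 ^ 1 * Equiv.swap (0 : Fin 7) 2 ^ 0 * Equiv.swap (4 : Fin 7) 5 ^ 0,
   r16 ^ 1 * Equiv.swap (0 : Fin 7) 2 ^ 0 * Equiv.swap (4 : Fin 7) 5 ^ 1,
   r16 ^ 1 * Equiv.swap (0 : Fin 7) 2 ^ 1 * Equiv.swap (4 : Fin 7) 5 ^ 0,
   r16 ^ 1 * Equiv.swap (0 : Fin 7) 2 ^ 1 * Equiv.swap (4 : Fin 7) 5 ^ 1,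
   r16 ^ 2 * Equiv.swap (0 : Fin 7) 2 ^ 0 * Equiv.swap (4 : Fin 7) 5 ^ 0,
   r16 ^ 2 * Equiv.swap (0 : Fin 7) 2 ^ 0 * Equiv.swap (4 : Fin 7) 5 ^ 1,
   r16 ^ 2 * Equiv.swap (0 : Fin 7) 2 ^ 1 * Equiv.swap (4 : Fin 7) 5 ^ 0,
   r16 ^ 2 * Equiv.swap (0 : Fin 7) 2 ^ 1 * Equiv.swap (4 : Fin 7) 5 ^ 1,
   r16 ^ 3 * Equiv.swap (0 : Fin 7) 2 ^ 0 * Equiv.swap (4 : Fin 7) 5 ^ 0,
   r16 ^ 3 * Equiv.swap (0 : Fin 7) 2 ^ 0 * Equiv.swap (4 : Fin 7) 5 ^ 1,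
   r16 ^ 3 * Equiv.swap (0 : Fin 7) 2 ^ 1 * Equiv.swap (4 : Fin 7) 5 ^ 0,
   r16 ^ 3 * Equiv.swap (0 : Fin 7) 2 ^ 1 * Equiv.swap (4 : Fin 7) 5 ^ 1]

/-- the 8 elements of `P8` as words -/
def W8 : List (Equiv.Perm (Fin 7)) :=
  [(sa * sb) ^ 0 * sb ^ 0,
   (sa * sb) ^ 0 * sb ^ 1,
   (sa * sb) ^ 1 * sb ^ 0,
   (sa * sb) ^ 1 * sb ^ 1,
   (sa * sb) ^ 2 * sb ^ 0,
   (sa * sb) ^ 2 * sb ^ 1,
   (sa * sb) ^ 3 * sb ^ 0,
   (sa * sb) ^ 3 * sb ^ 1]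

/-- the 16 elements of `P16` as image lists -/
def T16 : List (List (Fin 7)) :=
  [[0, 1, 2, 3, 4, 5, 6],
   [0, 1, 2, 3, 5, 4, 6],
   [2, 1, 0, 3, 4, 5, 6],
   [2, 1, 0, 3, 5, 4, 6],
   [3, 0, 1, 2, 4, 5, 6],
   [3, 0, 1, 2, 5, 4, 6],
   [1, 0, 3, 2, 4, 5, 6],
   [1, 0, 3, 2, 5, 4, 6],
   [2, 3, 0, 1, 4, 5, 6],
   [2, 3, 0, 1, 5, 4, 6],
   [0, 3, 2, 1, 4, 5, 6],
   [0, 3, 2, 1, 5, 4, 6],
   [1, 2, 3, 0, 4, 5, 6],
   [1, 2, 3, 0, 5, 4, 6],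
   [3, 2, 1, 0, 4, 5, 6],
   [3, 2, 1, 0, 5, 4, 6]]

/-- the 8 elements of `P8` as image lists -/
def T8 : List (List (Fin 7)) :=
  [[0, 1, 2, 3, 4, 5, 6],
   [2, 1, 0, 3, 5, 4, 6],
   [3, 0, 1, 2, 5, 4, 6],
   [1, 0, 3, 2, 4, 5, 6],
   [2, 3, 0, 1, 4, 5, 6],
   [0, 3, 2, 1, 5, 4, 6],
   [1, 2, 3, 0, 5, 4, 6],
   [3, 2, 1, 0, 4, 5, 6]]

theorem W16_map : W16.map toL = T16 := by decide +kernel

theorem W8_map : W8.map toL = T8 := by decide +kernel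

theorem sa_mem_P16 : sa ∈ P16 := Subgroup.subset_closure (by simp)
theorem s02_mem_P16 : Equiv.swap (0 : Fin 7) 2 ∈ P16 := Subgroup.subset_closure (by simp)
theorem s45_mem_P16 : Equiv.swap (4 : Fin 7) 5 ∈ P16 := Subgroup.subset_closure (by simp)
theorem r16_mem_P16 : r16 ∈ P16 := P16.mul_mem sa_mem_P16 s02_mem_P16

theorem helper63_sa_mem_P8 : sa ∈ P8 := Subgroup.subset_closure (by simp)
theorem helper63_sb_mem_P8 : sb ∈ P8 := Subgroup.subset_closure (by simp)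

theorem W16_subset : ∀ x ∈ W16, x ∈ P16 := by
  intro x hx
  simp only [W16, List.mem_cons, List.not_mem_nil, or_false] at hx
  rcases hx with rfl | rfl | rfl | rfl | rfl | rfl | rfl | rfl | rfl | rfl | rfl | rfl | rfl | rfl | rfl | rfl <;>
  exact P16.mul_mem (P16.mul_mem (P16.pow_mem r16_mem_P16 _) (P16.pow_mem s02_mem_P16 _))
    (P16.pow_mem s45_mem_P16 _)

theorem W8_subset : ∀ x ∈ W8, x ∈ P8 := by
  intro x hx
  simp only [W8, List.mem_cons, List.not_mem_nil, or_false] at hx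
  rcases hx with rfl | rfl | rfl | rfl | rfl | rfl | rfl | rfl <;>
  exact P8.mul_mem (P8.pow_mem (P8.mul_mem helper63_sa_mem_P8 helper63_sb_mem_P8) _)
    (P8.pow_mem helper63_sb_mem_P8 _)

theorem mem_P16_of_toL {σ : Equiv.Perm (Fin 7)} (h : toL σ ∈ T16) : σ ∈ P16 := by
  rw [← W16_map, List.mem_map] at h
  obtain ⟨w, hw, hwσ⟩ := h
  rw [← toL_inj hwσ]
  exact W16_subset w hw

theorem mem_P8_of_toL {σ : Equiv.Perm (Fin 7)} (h : toL σ ∈ T8) : σ ∈ P8 := by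
  rw [← W8_map, List.mem_map] at h
  obtain ⟨w, hw, hwσ⟩ := h
  rw [← toL_inj hwσ]
  exact W8_subset w hw

theorem T16_mul : ∀ a ∈ T16, ∀ b ∈ T16, compL a b ∈ T16 := by decide +kernel

theorem T16_pow4 : ∀ a ∈ T16, compL a (compL a (compL a a)) = [0, 1, 2, 3, 4, 5, 6] := by
  decide +kernel

theorem toL_one : toL 1 = [0, 1, 2, 3, 4, 5, 6] := by decide +kernel

theorem T16_gens : toL sa ∈ T16 ∧ toL (Equiv.swap (0 : Fin 7) 2) ∈ T16 ∧
    toL (Equiv.swap (4 : Fin 7) 5) ∈ T16 ∧ toL 1 ∈ T16 := by decide +kernel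

theorem toL_mem_of_mem_P16 {σ : Equiv.Perm (Fin 7)} (h : σ ∈ P16) : toL σ ∈ T16 := by
  unfold P16 at h
  induction h using Subgroup.closure_induction with
  | mem x hx =>
    simp only [Set.mem_insert_iff, Set.mem_singleton_iff] at hx
    rcases hx with rfl | rfl | rfl
    · exact T16_gens.1
    · exact T16_gens.2.1
    · exact T16_gens.2.2.1
  | one => exact T16_gens.2.2.2
  | mul x y _ _ hx hy =>
    rw [toL_mul]
    exact T16_mul _ hx _ hy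
  | inv x _ hx =>
    have h4 : x * (x * (x * x)) = 1 := by
      apply toL_inj
      rw [toL_mul, toL_mul, toL_mul, toL_one]
      exact T16_pow4 _ hx
    have hinv : x⁻¹ = x * (x * x) := inv_eq_of_mul_eq_one_right h4
    rw [hinv, toL_mul, toL_mul]
    exact T16_mul _ hx _ (T16_mul _ hx _ hx)

theorem P8_le_P16 : P8 ≤ P16 := by
  rw [P8, Subgroup.closure_le]
  intro x hx
  simp only [Set.mem_insert_iff, Set.mem_singleton_iff] at hx
  rcases hx with rfl | rfl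
  · exact sa_mem_P16
  · exact P16.mul_mem s02_mem_P16 s45_mem_P16

theorem P16_pow_four {σ : Equiv.Perm (Fin 7)} (h : σ ∈ P16) : σ ^ 4 = 1 := by
  have h4 : σ * (σ * (σ * σ)) = 1 := by
    apply toL_inj
    rw [toL_mul, toL_mul, toL_mul, toL_one]
    exact T16_pow4 _ (toL_mem_of_mem_P16 h)
  rw [show σ ^ 4 = σ * (σ * (σ * σ)) from by
    simp only [pow_succ, pow_zero, one_mul, mul_assoc]]
  exact h4

theorem T16_fix_six : ∀ a ∈ T16, nthL a 6 = 6 := by decide +kernel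

theorem P16_fix_six {σ : Equiv.Perm (Fin 7)} (h : σ ∈ P16) : σ 6 = 6 := by
  rw [← nth_toL]
  exact T16_fix_six _ (toL_mem_of_mem_P16 h)

theorem toL_s45 : toL (Equiv.swap (4 : Fin 7) 5) = [0, 1, 2, 3, 5, 4, 6] := by decide +kernel

theorem T16_cases : ∀ a ∈ T16, a ∈ T8 ∨ compL a [0, 1, 2, 3, 5, 4, 6] ∈ T8 := by decide +kernel

theorem P16_cases {σ : Equiv.Perm (Fin 7)} (h : σ ∈ P16) :
    σ ∈ P8 ∨ σ * Equiv.swap 4 5 ∈ P8 := by
  rcases T16_cases _ (toL_mem_of_mem_P16 h) with h1 | h1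
  · exact Or.inl (mem_P8_of_toL h1)
  · right
    apply mem_P8_of_toL
    rw [toL_mul, toL_s45]
    exact h1

/-- image list of `(a b)(c d)` -/
def swL (a b c d : Fin 7) : List (Fin 7) :=
  [Equiv.swap a b (Equiv.swap c d 0), Equiv.swap a b (Equiv.swap c d 1),
   Equiv.swap a b (Equiv.swap c d 2), Equiv.swap a b (Equiv.swap c d 3),
   Equiv.swap a b (Equiv.swap c d 4), Equiv.swap a b (Equiv.swap c d 5),
   Equiv.swap a b (Equiv.swap c d 6)]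

theorem toL_swap_mul (a b c d : Fin 7) : toL (Equiv.swap a b * Equiv.swap c d) = swL a b c d := rfl

theorem brute : ∀ a b c d : Fin 7, swL a b c d ∈ T16 → ∀ e f : Fin 7, swL a c e f ∈ T16 →
    ∀ g : Fin 7, [a, b, c, d, e, f, g].Nodup → [a, b, c, d, e, f, g] ∈ T16 := by decide +kernel

theorem toL_nodup (σ : Equiv.Perm (Fin 7)) : (toL σ).Nodup := by
  have h1 : toL σ = List.map σ (List.finRange 7) := by
    simp [toL, List.finRange_succ]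
  rw [h1]
  exact (List.nodup_finRange 7).map σ.injective

/-- `{σ | σ sa σ⁻¹ ∈ P16 ∧ σ sb σ⁻¹ ∈ P16} = P16` (checked by brute force) -/
theorem P16_of_conj {σ : Equiv.Perm (Fin 7)} (h1 : σ * sa * σ⁻¹ ∈ P16)
    (h2 : σ * sb * σ⁻¹ ∈ P16) : σ ∈ P16 := by
  have e1 : σ * sa * σ⁻¹ = Equiv.swap (σ 0) (σ 1) * Equiv.swap (σ 2) (σ 3) := by
    rw [Equiv.swap_apply_apply, Equiv.swap_apply_apply, sa]
    group
  have e2 : σ * sb * σ⁻¹ = Equiv.swap (σ 0) (σ 2) * Equiv.swap (σ 4) (σ 5) := by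
    rw [Equiv.swap_apply_apply, Equiv.swap_apply_apply, sb]
    group
  rw [e1] at h1
  rw [e2] at h2
  have t1 := toL_mem_of_mem_P16 h1
  have t2 := toL_mem_of_mem_P16 h2
  rw [toL_swap_mul] at t1 t2
  apply mem_P16_of_toL
  exact brute _ _ _ _ t1 _ _ t2 _ (toL_nodup σ)

end Cfsg.Agent.Helper63.Om7
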