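import Mathlib

set_option autoImplicit false

namespace Cfsg.Agent.Helper63

open Matrix

/-- The Heisenberg group of degree `n` over `R`: triples `(a, b, c)` with multiplication
`(a, b, c) (a', b', c') = (a + a', b + b', c + c' + a ⬝ b')`. -/
@[ext]
structure Heis (n : ℕ) (R : Type*) where
  a : Fin n → R
  b : Fin n → R
  c : R

namespace Heis

variable {n : ℕ} {R : Type*} [CommRing R]

instance : Mul (Heis n R) := ⟨fun x y => ⟨x.a + y.a, x.b + y.b, x.c + y.c + x.a ⬝ᵥ y.b⟩⟩
instance : One (Heis n R) := ⟨⟨0, 0, 0⟩⟩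
instance : Inv (Heis n R) := ⟨fun x => ⟨-x.a, -x.b, -x.c + x.a ⬝ᵥ x.b⟩⟩

@[simp] lemma mul_a (x y : Heis n R) : (x * y).a = x.a + y.a := rfl
@[simp] lemma mul_b (x y : Heis n R) : (x * y).b = x.b + y.b := rfl
@[simp] lemma mul_c (x y : Heis n R) : (x * y).c = x.c + y.c + x.a ⬝ᵥ y.b := rfl
@[simp] lemma one_a : (1 : Heis n R).a = 0 := rfl
@[simp] lemma one_b : (1 : Heis n R).b = 0 := rfl
@[simp] lemma one_c : (1 : Heis n R).c = 0 := rfl
@[simp] lemma inv_a (x : Heis n R) : (x⁻¹).a = -x.a := rfl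
@[simp] lemma inv_b (x : Heis n R) : (x⁻¹).b = -x.b := rfl
@[simp] lemma inv_c (x : Heis n R) : (x⁻¹).c = -x.c + x.a ⬝ᵥ x.b := rfl

instance : Group (Heis n R) where
  mul_assoc x y z := by
    ext <;> simp [add_assoc, add_dotProduct, dotProduct_add]
    ring
  one_mul x := by ext <;> simp
  mul_one x := by ext <;> simp
  inv_mul_cancel x := by
    ext <;> simp

/-- the underlying triple -/
def equivProd : Heis n R ≃ (Fin n → R) × (Fin n → R) × R where
  toFun x := (x.a, x.b, x.c)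
  invFun t := ⟨t.1, t.2.1, t.2.2⟩
  left_inv _ := rfl
  right_inv _ := rfl

instance [Finite R] : Finite (Heis n R) := Finite.of_equiv _ equivProd.symm

lemma card_zmod (p : ℕ) [Fact p.Prime] : Nat.card (Heis n (ZMod p)) = p ^ (1 + 2 * n) := by
  rw [Nat.card_congr equivProd, Nat.card_prod, Nat.card_prod, Nat.card_fun, Nat.card_fin,
    Nat.card_zmod]
  ring

end Heis

end Cfsg.Agent.Helper63
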