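import Mathlib
import Cfsg.Prelude.Def_Transfer
import Cfsg.Agent.Lib.Helper63.Heis
import Cfsg.Agent.Lib.Helper47.Frat
import Cfsg.Agent.Lib.Helper2.PGroup

set_option autoImplicit false

namespace Cfsg.Agent.Helper63

open Matrix
open scoped commutatorElement

/-! ### transfer of `IsExtraspecial` along an isomorphism -/

section transfer

variable {G H : Type*} [Group G] [Group H]

lemma map_center_mulEquiv (e : G ≃* H) :
    (Subgroup.center G).map e.toMonoidHom = Subgroup.center H := by
  ext y
  constructor
  · rintro ⟨x, hx, rfl⟩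
    have hx : x ∈ Subgroup.center G := hx
    rw [Subgroup.mem_center_iff] at hx ⊢
    intro h
    obtain ⟨g, rfl⟩ := e.surjective h
    show e g * e x = e x * e g
    rw [← map_mul, ← map_mul, hx g]
  · intro hy
    refine ⟨e.symm y, ?_, by simp⟩
    rw [Subgroup.mem_center_iff] at hy
    show e.symm y ∈ Subgroup.center G
    rw [Subgroup.mem_center_iff]
    intro g
    apply e.injective
    rw [map_mul, map_mul]
    simpa using hy (e g)

lemma map_frattini_mulEquiv (e : G ≃* H) :
    (frattini G).map e.toMonoidHom = frattini H := by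
  apply le_antisymm
  · rw [Subgroup.map_le_iff_le_comap]
    exact frattini_le_comap_frattini_of_surjective (φ := e.toMonoidHom) e.surjective
  · intro y hy
    have h := frattini_le_comap_frattini_of_surjective (φ := e.symm.toMonoidHom) e.symm.surjective hy
    exact ⟨e.symm y, h, by simp⟩

lemma map_commutator_mulEquiv (e : G ≃* H) :
    (_root_.commutator G).map e.toMonoidHom = _root_.commutator H := by
  rw [commutator_def, commutator_def, Subgroup.map_commutator]
  have : (⊤ : Subgroup G).map e.toMonoidHom = ⊤ := by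
    rw [← MonoidHom.range_eq_map, MonoidHom.range_eq_top]
    exact e.surjective
  rw [this]

theorem isExtraspecial_of_mulEquiv {p : ℕ} (e : G ≃* H) (hG : Cfsg.IsExtraspecial p G) :
    Cfsg.IsExtraspecial p H := by
  obtain ⟨⟨hp, hf, hc⟩, hcard⟩ := hG
  refine ⟨⟨hp.of_equiv e, ?_, ?_⟩, ?_⟩
  · rw [← map_frattini_mulEquiv e, ← map_center_mulEquiv e, hf]
  · rw [← map_commutator_mulEquiv e, ← map_center_mulEquiv e, hc]
  · rw [← map_center_mulEquiv e, ← hcard]
    exact Nat.card_congr ((Subgroup.center G).equivMapOfInjective e.toMonoidHom e.injective).symm.toEquiv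

end transfer

namespace Heis

variable {n : ℕ} {R : Type*} [CommRing R]

/-- projection to the `(a, b)` coordinates -/
def proj (n : ℕ) (R : Type*) [CommRing R] :
    Heis n R →* Multiplicative ((Fin n → R) × (Fin n → R)) where
  toFun x := Multiplicative.ofAdd (x.a, x.b)
  map_one' := rfl
  map_mul' _ _ := rfl

lemma mem_ker_proj {x : Heis n R} : x ∈ (proj n R).ker ↔ x.a = 0 ∧ x.b = 0 := by
  rw [MonoidHom.mem_ker]
  show Multiplicative.ofAdd (x.a, x.b) = Multiplicative.ofAdd ((0, 0) : (Fin n → R) × (Fin n → R)) ↔ _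
  rw [Multiplicative.ofAdd.apply_eq_iff_eq, Prod.mk.injEq]

lemma comm_eq (x y : Heis n R) : ⁅x, y⁆ = ⟨0, 0, x.a ⬝ᵥ y.b - y.a ⬝ᵥ x.b⟩ := by
  rw [commutatorElement_def]
  ext <;> simp [add_dotProduct, dotProduct_neg]
  ring

lemma center_eq : Subgroup.center (Heis n R) = (proj n R).ker := by
  classical
  ext x
  rw [Subgroup.mem_center_iff, mem_ker_proj]
  constructor
  · intro h
    constructor
    · funext i
      have := congrArg Heis.c (h ⟨0, Pi.single i 1, 0⟩)
      simpa using this.symm
    · funext i
      have := congrArg Heis.c (h ⟨Pi.single i 1, 0, 0⟩)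
      simpa using this
  · rintro ⟨ha, hb⟩ g
    ext <;> simp [ha, hb, add_comm]

lemma commutator_le : _root_.commutator (Heis n R) ≤ (proj n R).ker := by
  rw [commutator_def, Subgroup.commutator_le]
  intro x _ y _
  rw [comm_eq, mem_ker_proj]
  exact ⟨rfl, rfl⟩

lemma commutator_eq (hn : 1 ≤ n) : _root_.commutator (Heis n R) = (proj n R).ker := by
  classical
  apply le_antisymm commutator_le
  intro x hx
  rw [mem_ker_proj] at hx
  have : x = ⁅(⟨Pi.single ⟨0, hn⟩ x.c, 0, 0⟩ : Heis n R), ⟨0, Pi.single ⟨0, hn⟩ 1, 0⟩⁆ := by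
    rw [comm_eq]
    ext <;> simp [hx.1, hx.2]
  rw [this, commutator_def]
  exact Subgroup.commutator_mem_commutator (Subgroup.mem_top _) (Subgroup.mem_top _)

lemma pow_eq (x : Heis n R) (k : ℕ) :
    x ^ k = ⟨(k : R) • x.a, (k : R) • x.b, (k : R) * x.c + (k.choose 2 : R) * (x.a ⬝ᵥ x.b)⟩ := by
  induction k with
  | zero => ext <;> simp
  | succ k ih =>
    rw [pow_succ, ih]
    ext
    · simp; ring
    · simp; ring
    · simp only [mul_c, smul_dotProduct, smul_eq_mul]
      have : ((k + 1).choose 2 : R) = (k : R) + (k.choose 2 : R) := by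
        rw [Nat.choose_succ_succ' k 1, Nat.choose_one_right]
        push_cast
        ring
      rw [this]
      push_cast
      ring

/-- the central elements `(0, 0, c)` -/
def centerEquiv (n : ℕ) (R : Type*) [CommRing R] : (proj n R).ker ≃ R where
  toFun x := x.1.c
  invFun c := ⟨⟨0, 0, c⟩, mem_ker_proj.mpr ⟨rfl, rfl⟩⟩
  left_inv x := by
    obtain ⟨ha, hb⟩ := mem_ker_proj.mp x.2
    apply Subtype.ext
    ext1
    · exact ha.symm
    · exact hb.symm
    · rfl
  right_inv c := rfl

section zmod

variable (p : ℕ) [Fact p.Prime]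

lemma isPGroup_zmod : IsPGroup p (Heis n (ZMod p)) :=
  IsPGroup.of_card (n := 1 + 2 * n) (card_zmod p)

lemma pow_prime_zmod (hp : p ≠ 2) (x : Heis n (ZMod p)) : x ^ p = 1 := by
  rw [pow_eq]
  have h2 : ((p.choose 2 : ℕ) : ZMod p) = 0 := by
    rw [ZMod.natCast_eq_zero_iff]
    have hp' : p.Prime := Fact.out
    apply hp'.dvd_choose_self (by norm_num)
    have := hp'.two_le
    omega
  ext <;> simp [h2]

lemma frattini_eq_zmod (hn : 1 ≤ n) : frattini (Heis n (ZMod p)) = (proj n (ZMod p)).ker := by
  apply le_antisymm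
  · apply Cfsg.Agent.Helper47.frattini_le_ker_of_elementary (p := p)
    · intro x y
      exact mul_comm _ _
    · intro x
      show Multiplicative.ofAdd (p • (x.a, x.b)) = 1
      have : p • (x.a, x.b) = (0 : (Fin n → ZMod p) × (Fin n → ZMod p)) := by
        rw [← Nat.cast_smul_eq_nsmul (ZMod p), ZMod.natCast_self, zero_smul]
      rw [this]
      rfl
  · rw [← commutator_eq hn]
    exact Cfsg.Agent.Helper2.commutator_le_frattini (isPGroup_zmod p)

theorem isExtraspecial_zmod (hn : 1 ≤ n) : Cfsg.IsExtraspecial p (Heis n (ZMod p)) := by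
  refine ⟨⟨isPGroup_zmod p, ?_, ?_⟩, ?_⟩
  · rw [frattini_eq_zmod p hn, center_eq]
  · rw [commutator_eq hn, center_eq]
  · rw [center_eq, Nat.card_congr (centerEquiv n (ZMod p)), Nat.card_zmod]

end zmod

/-! ### the matrix representation -/

/-- the natural module of the Heisenberg group -/
abbrev V (n : ℕ) (R : Type*) : Type _ := R × (Fin n → R) × R

/-- the action of an element on the natural module -/
def act (x : Heis n R) : V n R →ₗ[R] V n R where
  toFun v := (v.1 + x.a ⬝ᵥ v.2.1 + x.c * v.2.2, v.2.1 + v.2.2 • x.b, v.2.2)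
  map_add' u v := by
    ext <;> simp [dotProduct_add, mul_add, add_smul] <;> ring
  map_smul' r v := by
    ext <;> simp [dotProduct_smul, mul_add, mul_smul] <;> ring

lemma act_apply (x : Heis n R) (v : V n R) :
    act x v = (v.1 + x.a ⬝ᵥ v.2.1 + x.c * v.2.2, v.2.1 + v.2.2 • x.b, v.2.2) := rfl

/-- the representation on the natural module -/
def rep (n : ℕ) (R : Type*) [CommRing R] : Heis n R →* Module.End R (V n R) where
  toFun := act
  map_one' := by
    ext <;> simp [act_apply]
  map_mul' x y := by
    ext <;> simp [act_apply, add_dotProduct, dotProduct_add, dotProduct_smul, add_mul] <;> ring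

lemma rep_injective : Function.Injective (rep n R) := by
  classical
  intro x y h
  have h1 := LinearMap.congr_fun h (0, 0, 1)
  have h2 := fun i : Fin n => LinearMap.congr_fun h (0, Pi.single i 1, 0)
  simp only [rep, MonoidHom.coe_mk, OneHom.coe_mk, act_apply, Prod.mk.injEq] at h1 h2
  ext i
  · simpa using (h2 i).1
  · simpa using congrFun h1.2.1 i
  · simpa using h1.1


section field

variable (n) (K : Type*) [Field K]

lemma finrank_V : Module.finrank K (V n K) = n + 2 := by
  rw [Module.finrank_prod, Module.finrank_prod, Module.finrank_self, Module.finrank_fin_fun]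
  ring

/-- the Heisenberg group as a group of `(n+2) × (n+2)` matrices -/
noncomputable def toGL : Heis n K →* Matrix.GeneralLinearGroup (Fin (n + 2)) K :=
  (Units.mapEquiv (MulEquivClass.toMulEquiv
    (LinearMap.toMatrixAlgEquiv (Module.finBasisOfFinrankEq K (V n K) (finrank_V n K))))).toMonoidHom.comp
    (rep n K).toHomUnits

lemma toGL_injective : Function.Injective (toGL n K) := by
  intro x y h
  have h1 := (Units.mapEquiv (MulEquivClass.toMulEquiv
    (LinearMap.toMatrixAlgEquiv (Module.finBasisOfFinrankEq K (V n K) (finrank_V n K))))).injective h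
  have h2 : ((rep n K).toHomUnits x : Module.End K (V n K)) = (rep n K).toHomUnits y := by rw [h1]
  exact rep_injective h2

end field

end Heis

end Cfsg.Agent.Helper63
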