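import Mathlib
import Cfsg.Agent.Lib.Helper32.C3Defs

/-!
# C3 piece (P2) `central_scalar` for helper32's server (S4415)
-/

set_option autoImplicit false

namespace Cfsg.Agent.Helper63.C3

open Cfsg.Agent.Helper32.C3

universe u v

/-- **P2.** Central elements are `±1`. -/
theorem central_scalar {G : Type u} [Group G] [Finite G] {V : Type v} [AddCommGroup V]
    [Module (ZMod 3) V] [Finite V] (ρ : Representation (ZMod 3) G V) (R Q : Subgroup G) (b : G)
    (h : Cfg ρ R Q b) : ∀ z ∈ Subgroup.center G, z = 1 ∨ ρ z = -1 := by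
  intro z hz
  have hzc : ∀ g : G, ρ g * ρ z = ρ z * ρ g := by
    intro g
    rw [← map_mul, ← map_mul, Subgroup.mem_center_iff.mp hz g]
  set d : Module.End (ZMod 3) V := dl ρ b with hd
  have hdz : d * ρ z = ρ z * d := by
    rw [hd, dl, sub_mul, mul_sub, one_mul, mul_one, hzc b]
  have hddz : (d * d) * ρ z = ρ z * (d * d) := by
    rw [mul_assoc, hdz, ← mul_assoc, hdz, mul_assoc]
  have hL : Module.finrank (ZMod 3) (LinearMap.range (d * d)) = 1 := h.cubic.2
  obtain ⟨⟨l, hlL⟩, hl0, hlspan⟩ := finrank_eq_one_iff'.mp hL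
  have hl0' : l ≠ 0 := fun e => hl0 (Subtype.ext e)
  have hzl : ρ z l ∈ LinearMap.range (d * d) := by
    obtain ⟨v, rfl⟩ := hlL
    refine ⟨ρ z v, ?_⟩
    rw [← Module.End.mul_apply, hddz, Module.End.mul_apply]
  obtain ⟨ε, hε⟩ := hlspan ⟨ρ z l, hzl⟩
  have hε' : ε • l = ρ z l := congrArg Subtype.val hε
  have hzinv : ρ z⁻¹ * ρ z = 1 := by rw [← map_mul, inv_mul_cancel, map_one]
  have hε0 : ε ≠ 0 := by
    intro e
    rw [e, zero_smul] at hε'
    apply hl0'
    have h1 : (ρ z⁻¹ * ρ z) l = 0 := by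
      rw [Module.End.mul_apply, ← hε', map_zero]
    rw [hzinv] at h1
    exact h1
  -- the eigenspace
  set K : Submodule (ZMod 3) V := LinearMap.ker (ρ z - ε • (1 : Module.End (ZMod 3) V)) with hK
  have hKmem : ∀ v, v ∈ K ↔ ρ z v = ε • v := by
    intro v
    rw [hK, LinearMap.mem_ker, LinearMap.sub_apply, LinearMap.smul_apply, Module.End.one_apply,
      sub_eq_zero]
  have hKinv : Inv ρ ⊤ K := by
    intro g _ v hv
    rw [hKmem] at hv ⊢
    have h1 : ρ z (ρ g v) = ρ g (ρ z v) := by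
      rw [← Module.End.mul_apply, ← hzc g, Module.End.mul_apply]
    rw [h1, hv, map_smul]
  have hKtop : K = ⊤ := by
    rcases h.irred K hKinv with h1 | h1
    · exfalso
      have h2 : l ∈ K := (hKmem l).2 hε'.symm
      rw [h1] at h2
      exact hl0' ((Submodule.mem_bot _).1 h2)
    · exact h1
  have hscal : ∀ v, ρ z v = ε • v := by
    intro v
    have h1 : v ∈ K := by rw [hKtop]; exact Submodule.mem_top
    exact (hKmem v).1 h1
  have hall : ∀ e : ZMod 3, e = 0 ∨ e = 1 ∨ e = -1 := by decide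
  have hcases : ε = 0 ∨ ε = 1 ∨ ε = -1 := hall ε
  rcases hcases with e | e | e
  · exact absurd e hε0
  · left
    apply h.faith
    rw [map_one]
    ext v
    rw [hscal v, e, one_smul, Module.End.one_apply]
  · right
    ext v
    rw [hscal v, e, neg_smul, one_smul, LinearMap.neg_apply, Module.End.one_apply]

end Cfsg.Agent.Helper63.C3
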