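import Mathlib
import Cfsg.Prelude.Def_ChevStructure
import Cfsg.Agent.Lib.Helper36.REEDefs

/-!
# REE piece (STABUM) `Um_stable` for helper36's server (S1069 / S1091 / S1073)
-/

set_option autoImplicit false

namespace Cfsg.Agent.Helper63.REE

open Cfsg Cfsg.Lie Cfsg.Agent.Helper36.REE

universe u

/-- (STABUM) `s (U_n^-) ⊆ U_{s n}^-`. -/
theorem Um_stable (D : ChevalleyDatum) {F : Type u} [Field F] (X : ℕ → F → GL D.Idx F)
    (hX : ∀ r t, ((X r t : GL D.Idx F) : Matrix D.Idx D.Idx F) = D.x F r t)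
    (s : GL D.Idx F → GL D.Idx F)
    (hs_mul : ∀ x ∈ D.group F, ∀ y ∈ D.group F, s (x * y) = s x * s y)
    (hs_one : s 1 = 1)
    (sg : ℕ → ℕ) (τ : ℕ → F →+* F)
    (hpos : ∀ r, D.IsPosRoot r → D.IsPosRoot (sg r))
    (hsx : ∀ r < D.nroots, ∀ t : F, s (X r t) = X (sg r) (τ r t))
    (hτ : ∀ r < D.nroots, Function.Surjective (τ r))
    (hsV : ∀ g ∈ D.negUnipotent F, s g ∈ D.negUnipotent F)
    (n : GL D.Idx F) (hn : n ∈ D.group F) :
    ∀ x ∈ Um D F n, s x ∈ Um D F (s n) := by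
  have hXG : ∀ r < D.nroots, ∀ t : F, X r t ∈ D.group F := by
    intro r hr t
    refine Subgroup.subset_closure ⟨⟨r, hr⟩, t, ?_⟩
    rw [hX, ChevalleyDatum.x, dif_pos hr]
  have hsinv : ∀ x ∈ D.group F, s x⁻¹ = (s x)⁻¹ := by
    intro x hx
    have h1 := hs_mul x hx x⁻¹ (inv_mem hx)
    rw [mul_inv_cancel, hs_one] at h1
    exact eq_inv_of_mul_eq_one_right h1.symm
  have key : ∀ x ∈ Um D F n, x ∈ D.group F ∧ s x ∈ Um D F (s n) := by
    intro x hx
    unfold Um at hx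
    induction hx using Subgroup.closure_induction with
    | mem x hx =>
      obtain ⟨r, t, hr, hle, hxv⟩ := hx
      have hxX : x = X r t := Units.ext (by rw [hxv, hX])
      refine ⟨hxX ▸ hXG r hr.1 t, ?_⟩
      rw [hxX, hsx r hr.1 t]
      refine Subgroup.subset_closure ⟨sg r, τ r t, hpos r hr, ?_, hX _ _⟩
      rw [Subgroup.map_le_iff_le_comap]
      unfold ChevalleyDatum.rootSubgroup
      rw [Subgroup.closure_le]
      rintro g ⟨t', hg⟩
      obtain ⟨t'', ht''⟩ := hτ r hr.1 t'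
      have hgX : g = s (X r t'') := by
        rw [hsx r hr.1 t'', ht'']
        exact Units.ext (by rw [hg, hX])
      have hmem : X r t'' ∈ D.rootSubgroup F r := Subgroup.subset_closure ⟨t'', hX r t''⟩
      have h1 : n * X r t'' * n⁻¹ ∈ D.negUnipotent F := hle ⟨X r t'', hmem, rfl⟩
      have h2 := hsV _ h1
      have hnX : n * X r t'' ∈ D.group F := mul_mem hn (hXG r hr.1 t'')
      rw [hs_mul _ hnX _ (inv_mem hn), hs_mul _ hn _ (hXG r hr.1 t''), hsinv n hn] at h2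
      show (MulAut.conj (s n)).toMonoidHom g ∈ D.negUnipotent F
      rw [hgX]
      exact h2
    | one => exact ⟨one_mem _, by rw [hs_one]; exact one_mem _⟩
    | mul x y _ _ hx hy =>
      exact ⟨mul_mem hx.1 hy.1, by rw [hs_mul x hx.1 y hy.1]; exact mul_mem hx.2 hy.2⟩
    | inv x _ hx =>
      exact ⟨inv_mem hx.1, by rw [hsinv x hx.1]; exact inv_mem hx.2⟩
  exact fun x hx => (key x hx).2

end Cfsg.Agent.Helper63.REE
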