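import Mathlib
import Cfsg.Agent.Lib.Helper52.FCDefs

/-!
# FC pieces (B1) (B2) (B7) (B4) (B5) (B6) for helper52's server (S3816): level 0 facts
-/

set_option autoImplicit false

namespace Cfsg.Agent.Helper63.FC

open Subgroup Cfsg.Agent.Helper52.FC
open scoped commutatorElement

universe u

variable {G : Type u} [Group G]

/-- conjugation by `a ^ i` preserves an `a`-invariant subgroup -/
theorem h63_pow_conj_mem (a : G) (X : Subgroup G) (hX : Inv a X) (i : ℕ) :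
    ∀ x ∈ X, a ^ i * x * (a ^ i)⁻¹ ∈ X := by
  induction i with
  | zero => intro x hx; simpa using hx
  | succ i ih =>
    intro x hx
    have h1 := hX _ (ih x hx)
    have e : a ^ (i + 1) * x * (a ^ (i + 1))⁻¹ = a * (a ^ i * x * (a ^ i)⁻¹) * a⁻¹ := by
      rw [pow_succ']; group
    rw [e]; exact h1

/-- (B1) -/
theorem Lh_le (a : G) (X : Subgroup G) (hX : Inv a X) (h : G) (hh : h ∈ X) : Lh a h ≤ X := by
  unfold Lh
  rw [closure_le]
  rintro c ⟨i, rfl⟩
  have h1 := h63_pow_conj_mem a X hX i h hh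
  exact X.mul_mem (X.inv_mem hh) (by simpa [mul_assoc] using h1)

/-- (B2) -/
theorem Lh_inv (a h : G) : Inv a (Lh a h) := by
  intro x hx
  unfold Lh at hx ⊢
  induction hx using Subgroup.closure_induction with
  | mem x hx =>
    obtain ⟨i, rfl⟩ := hx
    have e : a * (h⁻¹ * (a ^ i * h * (a ^ i)⁻¹)) * a⁻¹ =
        (h⁻¹ * (a * h * a⁻¹))⁻¹ * (h⁻¹ * (a ^ (i + 1) * h * (a ^ (i + 1))⁻¹)) := by
      rw [pow_succ']; group
    rw [e]
    exact mul_mem (inv_mem (subset_closure ⟨1, by rw [pow_one]⟩)) (subset_closure ⟨i + 1, rfl⟩)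
  | one => simp
  | mul x y _ _ hx hy =>
    have e : a * (x * y) * a⁻¹ = (a * x * a⁻¹) * (a * y * a⁻¹) := by group
    rw [e]; exact mul_mem hx hy
  | inv x _ hx =>
    have e : a * x⁻¹ * a⁻¹ = (a * x * a⁻¹)⁻¹ := by group
    rw [e]; exact inv_mem hx

/-- (B7) -/
theorem comm_eq_commutator [Finite G] (a : G) (X : Subgroup G) : comm a X = ⁅X, zpowers a⁆ := by
  apply le_antisymm
  · unfold Cfsg.Agent.Helper52.FC.comm
    rw [closure_le]
    rintro c ⟨h, hh, i, rfl⟩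
    have h1 : ⁅h⁻¹, a ^ i⁆ ∈ ⁅X, zpowers a⁆ :=
      Subgroup.commutator_mem_commutator (X.inv_mem hh) (pow_mem (mem_zpowers a) i)
    have e : h⁻¹ * (a ^ i * h * (a ^ i)⁻¹) = ⁅h⁻¹, a ^ i⁆ := by
      rw [commutatorElement_def]; group
    rw [e]; exact h1
  · rw [Subgroup.commutator_le]
    intro x hx z hz
    have hfin : IsOfFinOrder a := isOfFinOrder_of_finite a
    rw [← hfin.mem_powers_iff_mem_zpowers] at hz
    obtain ⟨i, rfl⟩ := hz
    have e : ⁅x, a ^ i⁆ = (x⁻¹)⁻¹ * (a ^ i * x⁻¹ * (a ^ i)⁻¹) := by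
      rw [commutatorElement_def]; group
    rw [e]
    exact subset_closure ⟨x⁻¹, X.inv_mem hx, i, rfl⟩

/-- (B4) -/
theorem star_mono (a : G) {X H : Subgroup G} (hXH : X ≤ H) : star a X ≤ star a H := by
  unfold Cfsg.Agent.Helper52.FC.star
  exact iSup_le fun h => le_iSup_of_le (⟨h.1, hXH h.2⟩ : H) le_rfl

/-- (B5) -/
theorem star_le (a : G) (H : Subgroup G) (hH : Inv a H) : star a H ≤ H ⊓ Fix a := by
  unfold Cfsg.Agent.Helper52.FC.star
  exact iSup_le fun h => inf_le_inf_right _ (Lh_le a H hH h.1 h.2)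

/-- (B6) -/
theorem star_conj (a : G) (H : Subgroup G) (c : G) (hc : c ∈ H ⊓ Fix a) (s : G) (hs : s ∈ star a H) :
    c * s * c⁻¹ ∈ star a H := by
  have hcH : c ∈ H := hc.1
  have hca : a * c = c * a := by
    have h1 : c ∈ Subgroup.centralizer ({a} : Set G) := hc.2
    rw [Subgroup.mem_centralizer_iff] at h1
    exact h1 a rfl
  have hcai : ∀ i : ℕ, a ^ i * c = c * a ^ i := by
    intro i
    induction i with
    | zero => simp
    | succ i ih => rw [pow_succ, mul_assoc, hca, ← mul_assoc, ih, mul_assoc]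
  have hmap : (star a H).map (MulAut.conj c).toMonoidHom ≤ star a H := by
    unfold Cfsg.Agent.Helper52.FC.star
    rw [Subgroup.map_iSup]
    refine iSup_le fun h => ?_
    refine le_iSup_of_le (⟨c * h.1 * c⁻¹, H.mul_mem (H.mul_mem hcH h.2) (H.inv_mem hcH)⟩ : H) ?_
    rintro _ ⟨x, ⟨hxL, hxF⟩, rfl⟩
    refine ⟨?_, ?_⟩
    · -- conjugate of `Lh a h` lies in `Lh a (c h c⁻¹)`
      have hle : Lh a (h : G) ≤ (Lh a (c * (h : G) * c⁻¹)).comap (MulAut.conj c).toMonoidHom := by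
        unfold Lh
        rw [closure_le]
        rintro y ⟨i, rfl⟩
        show (MulAut.conj c) (_ : G) ∈ Subgroup.closure _
        rw [MulAut.conj_apply]
        refine subset_closure ⟨i, ?_⟩
        have h1 := hcai i
        have h2 : (a ^ i)⁻¹ * c⁻¹ = c⁻¹ * (a ^ i)⁻¹ := by
          rw [← mul_inv_rev, ← mul_inv_rev, h1]
        calc c * ((h : G)⁻¹ * (a ^ i * (h : G) * (a ^ i)⁻¹)) * c⁻¹
            = c * (h : G)⁻¹ * (a ^ i * (h : G)) * ((a ^ i)⁻¹ * c⁻¹) := by group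
          _ = c * (h : G)⁻¹ * (a ^ i * (h : G)) * (c⁻¹ * (a ^ i)⁻¹) := by rw [h2]
          _ = c * (h : G)⁻¹ * c⁻¹ * (c * a ^ i) * ((h : G) * c⁻¹) * (a ^ i)⁻¹ := by group
          _ = c * (h : G)⁻¹ * c⁻¹ * (a ^ i * c) * ((h : G) * c⁻¹) * (a ^ i)⁻¹ := by rw [h1]
          _ = (c * (h : G) * c⁻¹)⁻¹ * (a ^ i * (c * (h : G) * c⁻¹) * (a ^ i)⁻¹) := by group
      exact hle hxL
    · show (MulAut.conj c) x ∈ Fix a
      rw [MulAut.conj_apply]
      have hcF := hc.2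
      exact (Fix a).mul_mem ((Fix a).mul_mem hcF hxF) ((Fix a).inv_mem hcF)
  have := hmap ⟨s, hs, rfl⟩
  simpa [MulAut.conj_apply] using this

end Cfsg.Agent.Helper63.FC
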