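import Mathlib
import Cfsg.Agent.Lib.Helper52.FCDefs
import Cfsg.Agent.Lib.Helper63.FCB

/-!
# FC piece (B3) `Lh_comm` for helper52's server (S3816): `[h,P] = [[h,P],P]`
-/

set_option autoImplicit false

namespace Cfsg.Agent.Helper63.FC

open Subgroup Cfsg.Agent.Helper52.FC
open scoped commutatorElement

universe u

variable {G : Type u} [Group G]

/-- `comm a K ≤ K` for an `a`-invariant `K` -/
theorem h63_comm_le (a : G) (K : Subgroup G) (hK : Inv a K) : Cfsg.Agent.Helper52.FC.comm a K ≤ K := by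
  unfold Cfsg.Agent.Helper52.FC.comm
  rw [closure_le]
  rintro c ⟨k, hk, i, rfl⟩
  have h1 := h63_pow_conj_mem a K hK i k hk
  exact K.mul_mem (K.inv_mem hk) (by simpa [mul_assoc] using h1)

/-- `comm a K` is normalised by `K` -/
theorem h63_comm_normBy (a : G) (K : Subgroup G) :
    ∀ k' ∈ K, ∀ x ∈ Cfsg.Agent.Helper52.FC.comm a K, k' * x * k'⁻¹ ∈ Cfsg.Agent.Helper52.FC.comm a K := by
  intro k' hk' x hx
  unfold Cfsg.Agent.Helper52.FC.comm at hx ⊢
  induction hx using Subgroup.closure_induction with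
  | mem x hx =>
    obtain ⟨k, hk, i, rfl⟩ := hx
    have e : k' * (k⁻¹ * (a ^ i * k * (a ^ i)⁻¹)) * k'⁻¹ =
        ((k * k'⁻¹)⁻¹ * (a ^ i * (k * k'⁻¹) * (a ^ i)⁻¹)) *
          ((k'⁻¹)⁻¹ * (a ^ i * k'⁻¹ * (a ^ i)⁻¹))⁻¹ := by group
    rw [e]
    exact mul_mem (subset_closure ⟨k * k'⁻¹, K.mul_mem hk (K.inv_mem hk'), i, rfl⟩)
      (inv_mem (subset_closure ⟨k'⁻¹, K.inv_mem hk', i, rfl⟩))
  | one => simp
  | mul x y _ _ hx hy =>
    have e : k' * (x * y) * k'⁻¹ = (k' * x * k'⁻¹) * (k' * y * k'⁻¹) := by group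
    rw [e]; exact mul_mem hx hy
  | inv x _ hx =>
    have e : k' * x⁻¹ * k'⁻¹ = (k' * x * k'⁻¹)⁻¹ := by group
    rw [e]; exact inv_mem hx

/-- (B3) -/
theorem Lh_comm [Finite G] {p : ℕ} (hp : p.Prime) (a : G) (H : Subgroup G) (hyp : Hyp p a H) (h : G) (hh : h ∈ H) :
    comm a (Lh a h) = Lh a h := by
  set K := Lh a h with hKdef
  have hKinv : Inv a K := Lh_inv a h
  have hKH : K ≤ H := Lh_le a H hyp.inv h hh
  set C := Cfsg.Agent.Helper52.FC.comm a K with hCdef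
  have hCK : C ≤ K := h63_comm_le a K hKinv
  have hCn := h63_comm_normBy a K
  have hcop : (Nat.card K).Coprime p :=
    Nat.Coprime.coprime_dvd_left (Subgroup.card_dvd_of_le hKH) hyp.cop
  apply le_antisymm hCK
  -- every generator of `K` lies in `C`
  have hgen : ∀ i : ℕ, h⁻¹ * (a ^ i * h * (a ^ i)⁻¹) ∈ C := by
    intro i
    set b := a ^ i with hb
    set c := h⁻¹ * (b * h * b⁻¹) with hc
    have hcK : c ∈ K := by
      rw [hKdef]
      unfold Lh
      exact subset_closure ⟨i, rfl⟩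
    -- `(c^n)⁻¹ * (t^n * (b^n)⁻¹) ∈ C`
    have key : ∀ n : ℕ, (c ^ n)⁻¹ * ((h⁻¹ * b * h) ^ n * (b ^ n)⁻¹) ∈ C := by
      intro n
      induction n with
      | zero => simp
      | succ n ih =>
        have e : (c ^ (n + 1))⁻¹ * ((h⁻¹ * b * h) ^ (n + 1) * (b ^ (n + 1))⁻¹) =
            (c⁻¹ * ((c ^ n)⁻¹ * ((h⁻¹ * b * h) ^ n * (b ^ n)⁻¹)) * (c⁻¹)⁻¹) *
              (c⁻¹ * (b ^ n * c * (b ^ n)⁻¹)) := by
          rw [hc]
          simp only [pow_succ]
          group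
        rw [e]
        refine C.mul_mem (hCn c⁻¹ (K.inv_mem hcK) _ ih) ?_
        rw [hCdef]
        unfold Cfsg.Agent.Helper52.FC.comm
        refine subset_closure ⟨c, hcK, i * n, ?_⟩
        rw [hb, ← pow_mul]
    have hbp : b ^ p = 1 := by rw [hb, ← pow_mul, mul_comm, pow_mul, hyp.pow, one_pow]
    have htp : (h⁻¹ * b * h) ^ p = 1 := by
      have : h⁻¹ * b * h = h⁻¹ * b * (h⁻¹)⁻¹ := by rw [inv_inv]
      rw [this, conj_pow, hbp]
      group
    have hcp : c ^ p ∈ C := by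
      have h1 := key p
      rw [htp, hbp, inv_one, mul_one, mul_one] at h1
      exact (C.inv_mem_iff).mp h1
    have hcn : c ^ (Nat.card K) = 1 := by
      have h1 : (⟨c, hcK⟩ : K) ^ (Nat.card K) = 1 := pow_card_eq_one'
      have h2 : (((⟨c, hcK⟩ : K) ^ (Nat.card K) : K) : G) = ((1 : K) : G) := congrArg Subtype.val h1
      rw [Subgroup.coe_pow, Subgroup.coe_one] at h2
      exact h2
    -- Bezout
    have hbez := Nat.gcd_eq_gcd_ab p (Nat.card K)
    have hg : Nat.gcd p (Nat.card K) = 1 := Nat.Coprime.symm hcop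
    rw [hg] at hbez
    have h3 : c = (c ^ p) ^ (Nat.gcdA p (Nat.card K)) * (c ^ (Nat.card K)) ^ (Nat.gcdB p (Nat.card K)) := by
      rw [← zpow_natCast c p, ← zpow_natCast c (Nat.card K), ← zpow_mul, ← zpow_mul, ← zpow_add, ← hbez]
      simp
    rw [h3, hcn, one_zpow, mul_one]
    exact C.zpow_mem hcp _
  rw [hKdef]
  unfold Lh
  rw [closure_le]
  rintro x ⟨i, rfl⟩
  exact hgen i

end Cfsg.Agent.Helper63.FC
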