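import Mathlib
import Cfsg.Agent.Lib.Helper52.FCDefs
import Cfsg.Agent.Lib.Helper52.Coprime
import Cfsg.Agent.Lib.Helper63.FCB
import Cfsg.Agent.Lib.Helper63.FCB3

/-!
# FC piece (M1) `mc_comm_eq` for helper52's server (S3816)
-/

set_option autoImplicit false

namespace Cfsg.Agent.Helper63.FC

open Subgroup Cfsg.Agent.Helper52.FC
open scoped commutatorElement

universe u

variable {G : Type u} [Group G]

/-- `comm a H` is `a`-invariant when `H` is -/
theorem h63_comm_inv (a : G) (H : Subgroup G) (hH : Inv a H) :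
    Inv a (Cfsg.Agent.Helper52.FC.comm a H) := by
  intro x hx
  unfold Cfsg.Agent.Helper52.FC.comm at hx ⊢
  induction hx using Subgroup.closure_induction with
  | mem x hx =>
    obtain ⟨k, hk, i, rfl⟩ := hx
    have e : a * (k⁻¹ * (a ^ i * k * (a ^ i)⁻¹)) * a⁻¹ =
        (a * k * a⁻¹)⁻¹ * (a ^ i * (a * k * a⁻¹) * (a ^ i)⁻¹) := by
      have h1 : a ^ i * a = a * a ^ i := (pow_succ a i).symm.trans (pow_succ' a i)
      have h2 : a⁻¹ * (a ^ i)⁻¹ = (a ^ i)⁻¹ * a⁻¹ := by
        rw [← mul_inv_rev, ← mul_inv_rev, h1]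
      calc a * (k⁻¹ * (a ^ i * k * (a ^ i)⁻¹)) * a⁻¹
          = a * k⁻¹ * a⁻¹ * (a * a ^ i) * k * ((a ^ i)⁻¹ * a⁻¹) := by group
        _ = a * k⁻¹ * a⁻¹ * (a ^ i * a) * k * (a⁻¹ * (a ^ i)⁻¹) := by rw [h1, h2]
        _ = (a * k * a⁻¹)⁻¹ * (a ^ i * (a * k * a⁻¹) * (a ^ i)⁻¹) := by group
    rw [e]
    exact subset_closure ⟨a * k * a⁻¹, hH k hk, i, rfl⟩
  | one => simp
  | mul x y _ _ hx hy =>
    have e : a * (x * y) * a⁻¹ = (a * x * a⁻¹) * (a * y * a⁻¹) := by group
    rw [e]; exact mul_mem hx hy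
  | inv x _ hx =>
    have e : a * x⁻¹ * a⁻¹ = (a * x * a⁻¹)⁻¹ := by group
    rw [e]; exact inv_mem hx

/-- `zpowers a` normalises an `a`-invariant subgroup when `a` has finite order -/
theorem h63_zpowers_le_normalizer {p : ℕ} (hp : 0 < p) (a : G) (hpow : a ^ p = 1) (H : Subgroup G) (hH : Inv a H) :
    zpowers a ≤ normalizer (H : Set G) := by
  rw [Subgroup.zpowers_le, Subgroup.mem_normalizer_iff]
  intro h
  refine ⟨fun hh => hH h hh, fun hh => ?_⟩
  have h1 := h63_pow_conj_mem a H hH (p - 1) _ hh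
  have hinv : a ^ (p - 1) = a⁻¹ := by
    have : a ^ (p - 1) * a = 1 := by rw [← pow_succ, Nat.sub_add_cancel hp, hpow]
    exact eq_inv_of_mul_eq_one_left this
  rw [hinv] at h1
  have e : a⁻¹ * (a * h * a⁻¹) * a⁻¹⁻¹ = h := by group
  rw [e] at h1
  exact h1

/-- (M1) -/
theorem mc_comm_eq [Finite G] {p : ℕ} {a : G} {H : Subgroup G} (mc : MC p G a H) : comm a H = H := by
  by_contra hne
  set X := Cfsg.Agent.Helper52.FC.comm a H with hX
  have hyp := mc.hyp
  have hXH : X ≤ H := h63_comm_le a H hyp.inv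
  have hXinv : Inv a X := h63_comm_inv a H hyp.inv
  have hAH : zpowers a ≤ normalizer (H : Set G) :=
    h63_zpowers_le_normalizer mc.hp.pos a hyp.pow H hyp.inv
  have hcardA : Nat.card (zpowers a) ∣ p := by
    rw [Nat.card_zpowers]
    exact orderOf_dvd_of_pow_eq_one hyp.pow
  have hcop : (Nat.card (zpowers a)).Coprime (Nat.card H) :=
    (Nat.Coprime.coprime_dvd_left hcardA hyp.cop.symm)
  have : Group.IsSolvable H := hyp.sol
  have hcc := Cfsg.Agent.Helper52.commutator_commutator_eq H (zpowers a) hAH hcop (Or.inr hyp.sol)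
  have hXeq : X = ⁅H, zpowers a⁆ := comm_eq_commutator a H
  have hcX : Cfsg.Agent.Helper52.FC.comm a X = X := by
    rw [comm_eq_commutator a X, hXeq, hcc]
  have hdvd : Nat.card X ∣ Nat.card H := Subgroup.card_dvd_of_le hXH
  have hypX : Hyp p a X :=
    { pow := hyp.pow
      inv := hXinv
      sol := Group.isSolvable_of_isSolvable_injective (Subgroup.inclusion_injective hXH)
      cop := Nat.Coprime.coprime_dvd_left hdvd hyp.cop }
  have hlt : Nat.card X < Nat.card H := by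
    rcases lt_or_eq_of_le (Nat.le_of_dvd Nat.card_pos hdvd) with h1 | h1
    · exact h1
    · exact absurd (Subgroup.eq_of_le_of_card_ge hXH (le_of_eq h1.symm)) hne
  have hthm : Thm a X := mc.ih G a X hypX hlt
  apply mc.bad
  unfold Thm at hthm ⊢
  rw [hcX] at hthm
  exact hthm.trans (star_mono a hXH)

end Cfsg.Agent.Helper63.FC
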