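import Mathlib
import Cfsg.Agent.Lib.Helper52.FCDefs
import Cfsg.Agent.Lib.Helper63.FCB
import Cfsg.Agent.Lib.Helper63.FCB3

/-!
# FC piece (S2) `sum_term` for helper52's server (S3816)
-/

set_option autoImplicit false

namespace Cfsg.Agent.Helper63.FC

open Subgroup Cfsg.Agent.Helper52.FC
open scoped commutatorElement

universe u

variable {G : Type u} [Group G]

/-- the join of two `a`-invariant subgroups is `a`-invariant -/
theorem h63_inv_sup (a : G) (A B : Subgroup G) (hA : Inv a A) (hB : Inv a B) : Inv a (A ⊔ B) := by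
  have hmap : (A ⊔ B).map (MulAut.conj a).toMonoidHom ≤ A ⊔ B := by
    rw [Subgroup.map_sup]
    refine sup_le ?_ ?_
    · rintro _ ⟨x, hx, rfl⟩
      exact (le_sup_left : A ≤ A ⊔ B) (hA x hx)
    · rintro _ ⟨x, hx, rfl⟩
      exact (le_sup_right : B ≤ A ⊔ B) (hB x hx)
  intro x hx
  have := hmap ⟨x, hx, rfl⟩
  simpa [MulAut.conj_apply] using this

/-- `comm a` is monotone -/
theorem h63_comm_mono (a : G) {A B : Subgroup G} (hAB : A ≤ B) :
    Cfsg.Agent.Helper52.FC.comm a A ≤ Cfsg.Agent.Helper52.FC.comm a B := by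
  unfold Cfsg.Agent.Helper52.FC.comm
  apply Subgroup.closure_mono
  rintro c ⟨h, hh, i, rfl⟩
  exact ⟨h, hAB hh, i, rfl⟩

/-- (S2) -/
theorem sum_term [Finite G] {p : ℕ} {a : G} {H : Subgroup G} (mx : MCX p G a H) (N : Subgroup G) (hNH : N ≤ H) (hNn : NormBy H N)
    (hNa : Inv a N) (hNab : Ab N) (h : G) (hh : h ∈ H) (hne : N ⊔ Lh a h ≠ H) : Fix a ⊓ Dh a N h ≤ star a H := by
  set L := Lh a h with hL
  set X := N ⊔ L with hX
  have hLH : L ≤ H := mx.Lh_le H mx.mc.hyp.inv h hh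
  have hXH : X ≤ H := sup_le hNH hLH
  have hXinv : Inv a X := h63_inv_sup a N L hNa (mx.Lh_inv h)
  set C := Cfsg.Agent.Helper52.FC.comm a X with hC
  have hCeq : C = ⁅X, zpowers a⁆ := mx.comm_eq_commutator X
  have hCn := h63_comm_normBy a X
  have hLC : L ≤ C := by
    have h1 : Cfsg.Agent.Helper52.FC.comm a L = L := mx.Lh_comm h hh
    rw [← h1]
    exact h63_comm_mono a (le_sup_right : L ≤ X)
  have hD : Dh a N h ≤ C := by
    unfold Dh
    refine sup_le ?_ ?_
    · rw [hCeq]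
      exact Subgroup.commutator_mono (le_sup_left : N ≤ X) le_rfl
    · rw [Subgroup.commutator_le]
      intro n hn z hz
      have hfin : IsOfFinOrder (h⁻¹ * a * h) := isOfFinOrder_of_finite _
      rw [← hfin.mem_powers_iff_mem_zpowers] at hz
      obtain ⟨k, rfl⟩ := hz
      have hpow : (h⁻¹ * a * h) ^ k = h⁻¹ * a ^ k * h := by
        have : h⁻¹ * a * h = h⁻¹ * a * (h⁻¹)⁻¹ := by rw [inv_inv]
        rw [this, conj_pow, inv_inv]
      show ⁅n, (h⁻¹ * a * h) ^ k⁆ ∈ C
      rw [hpow]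
      set y := h⁻¹ * (a ^ k * h * (a ^ k)⁻¹) with hy
      have hyL : y ∈ L := by
        rw [hL]
        unfold Lh
        exact subset_closure ⟨k, rfl⟩
      have hyC : y ∈ C := hLC hyL
      have hnX : n ∈ X := (le_sup_left : N ≤ X) hn
      have hyX : y ∈ X := (le_sup_right : L ≤ X) hyL
      have h1 : ⁅n, a ^ k⁆ ∈ C := by
        rw [hCeq]
        exact Subgroup.commutator_mem_commutator hnX (pow_mem (mem_zpowers a) k)
      have e : ⁅n, h⁻¹ * a ^ k * h⁆ = (n * y * n⁻¹) * y⁻¹ * (y * ⁅n, a ^ k⁆ * y⁻¹) := by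
        rw [hy, commutatorElement_def, commutatorElement_def]
        group
      rw [e]
      exact C.mul_mem (C.mul_mem (hCn n hnX y hyC) (C.inv_mem hyC)) (hCn y hyX _ h1)
  have h2 := mx.proper X hXH hne hXinv
  intro x hx
  exact h2 ⟨hD hx.2, hx.1⟩

end Cfsg.Agent.Helper63.FC
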