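import Mathlib
import Cfsg.Agent.S1017
import Cfsg.Agent.Lib.Helper17.Simple
import Cfsg.Agent.Lib.Helper63.N5400CNT

/-!
# O459648 (KEY): the overgroup lemma for S1022 (no simple group of order 459648 = 2^7*3^3*7*19)

PROACTIVE generic piece for the three S1022 routes (helper8 #7592 "KEY TOOL", helper53 #7603
"(B1)/(B4) endgame", helper81 #7623).  No hypothesis on `n_19` is needed:

`key_le_normalizer`: `G` simple of order 459648, `P` a Sylow 19-subgroup, `N = N_G(P)`, `X ≤ G` with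
`P ≤ X` and `152 ∣ |N ⊓ X|`.  Then `X ≤ N` or `X = ⊤`.
(`|X| = d * |N ⊓ X|` with `d = n_19(X) = 1 mod 19` and `d ∣ 459648 / 152 = 3024`, so `d = 1` or
`d = 1008`; `d = 1`: `X ≤ N`; `d = 1008`: `|G : X| ≤ 3`, so `X = ⊤` as `G` is simple.)

`key_of_le`: the same with `152 ∣ |N ⊓ X|` replaced by a subgroup `T ≤ N ⊓ X` of order 8.
-/

set_option autoImplicit false

namespace Cfsg.Agent.Helper63.O459648

open Cfsg MulAction Cfsg.Agent.Helper17 Cfsg.Agent.Helper63.N5400

universe u

set_option maxRecDepth 100000 in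
theorem h63_key_arith : ∀ d ∈ List.range 3025, d ∣ 3024 → d % 19 = 1 → d = 1 ∨ d = 1008 := by
  decide +kernel

theorem key_le_normalizer {G : Type u} [Group G] [Finite G] [IsSimpleGroup G]
    (hG : Nat.card G = 459648) (P : Sylow 19 G) (X : Subgroup G)
    (hPX : (P : Subgroup G) ≤ X)
    (h152 : 152 ∣ Nat.card ↥(Subgroup.normalizer ((P : Subgroup G) : Set G) ⊓ X)) :
    X ≤ Subgroup.normalizer ((P : Subgroup G) : Set G) ∨ X = ⊤ := by
  have h19 : Fact (Nat.Prime 19) := ⟨by norm_num⟩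
  have hna : ¬ IsMulCommutative G := not_comm_of_not_prime (by rw [hG]; norm_num)
  have hcard := Cfsg.Agent.S1017.card_eq_card_mul X P hPX
  have hd1 : Nat.card {Q : Sylow 19 G // (Q : Subgroup G) ≤ X} % 19 = 1 := by
    rw [h63_card_sylow_subtype X P hPX]
    have h1 := card_sylow_modEq_one 19 ↥X
    unfold Nat.ModEq at h1
    omega
  have hdvd : Nat.card X ∣ 459648 := hG ▸ Subgroup.card_subgroup_dvd_card X
  obtain ⟨k, hk⟩ := h152
  rw [hk] at hcard
  rw [hcard] at hdvd
  obtain ⟨d, hcd⟩ : ∃ d, Nat.card {Q : Sylow 19 G // (Q : Subgroup G) ≤ X} = d := ⟨_, rfl⟩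
  rw [hcd] at hcard hd1 hdvd
  have hd3024 : d ∣ 3024 := by
    have h0 : 152 * d ∣ 152 * 3024 := Dvd.dvd.trans ⟨k, by ring⟩ hdvd
    exact (Nat.mul_dvd_mul_iff_left (by norm_num)).1 h0
  have hdle : d ≤ 3024 := Nat.le_of_dvd (by norm_num) hd3024
  rcases h63_key_arith d (List.mem_range.2 (by omega)) hd3024 hd1 with h1 | h1008
  · rw [h1] at hcd
    left
    intro x hx
    have hsub : Subsingleton {Q : Sylow 19 G // (Q : Subgroup G) ≤ X} :=
      (Nat.card_eq_one_iff_unique.1 hcd).1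
    have hle : (((⟨x, hx⟩ : ↥X) • P : Sylow 19 G) : Subgroup G) ≤ X := Sylow.smul_le hPX ⟨x, hx⟩
    have heq : (⟨(⟨x, hx⟩ : ↥X) • P, hle⟩ : {Q : Sylow 19 G // (Q : Subgroup G) ≤ X}) =
        ⟨P, hPX⟩ := Subsingleton.elim _ _
    have heq2 : (⟨x, hx⟩ : ↥X) • P = P := congrArg Subtype.val heq
    have heq3 : x • P = P := heq2
    exact Sylow.smul_eq_iff_mem_normalizer.mp heq3
  · right
    by_contra hX
    have hfac := two_mul_card_dvd_factorial hna X hX
    have hidx := Subgroup.card_mul_index X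
    rw [hcard, hG, h1008] at hidx
    have hk3 : X.index * k = 3 := by
      have h0 : 153216 * (X.index * k) = 153216 * 3 := by linarith [hidx]
      exact Nat.eq_of_mul_eq_mul_left (by norm_num) h0
    have hile : X.index ≤ 3 := by
      rcases Nat.eq_zero_or_pos k with hk0 | hkpos
      · rw [hk0] at hk3; omega
      · nlinarith
    have h6 : (X.index).factorial ∣ (3).factorial := Nat.factorial_dvd_factorial hile
    rw [hG] at hfac
    have h7 := Nat.le_of_dvd (by decide) (Dvd.dvd.trans hfac h6)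
    norm_num [Nat.factorial] at h7

/-- `key_le_normalizer` with the divisibility `152 ∣ |N ⊓ X|` witnessed by a subgroup `T` of
order 8 of `N ⊓ X`. -/
theorem key_of_le {G : Type u} [Group G] [Finite G] [IsSimpleGroup G]
    (hG : Nat.card G = 459648) (P : Sylow 19 G) (X T : Subgroup G)
    (hPX : (P : Subgroup G) ≤ X) (hT8 : Nat.card T = 8)
    (hTN : T ≤ Subgroup.normalizer ((P : Subgroup G) : Set G)) (hTX : T ≤ X) :
    X ≤ Subgroup.normalizer ((P : Subgroup G) : Set G) ∨ X = ⊤ := by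
  have h19 : Fact (Nat.Prime 19) := ⟨by norm_num⟩
  refine key_le_normalizer hG P X hPX ?_
  have hP19 : Nat.card (P : Subgroup G) = 19 := by
    have h0 := sylow_card_eq P (k := 1) (m := 24192) (by rw [hG]; norm_num) (by norm_num)
    rwa [pow_one] at h0
  have h8 : 8 ∣ Nat.card ↥(Subgroup.normalizer ((P : Subgroup G) : Set G) ⊓ X) := by
    rw [← hT8]; exact Subgroup.card_dvd_of_le (le_inf hTN hTX)
  have h19d : 19 ∣ Nat.card ↥(Subgroup.normalizer ((P : Subgroup G) : Set G) ⊓ X) := by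
    have h0 : Nat.card (P : Subgroup G) ∣
        Nat.card ↥(Subgroup.normalizer ((P : Subgroup G) : Set G) ⊓ X) :=
      Subgroup.card_dvd_of_le (le_inf Subgroup.le_normalizer hPX)
    rwa [hP19] at h0
  omega

end Cfsg.Agent.Helper63.O459648
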