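import Mathlib
import Cfsg.Agent.Lib.Helper63.O459648KEY
import Cfsg.Agent.Lib.Helper87.SVKit

/-!
# O459648 (B1) norm_eq (helper53 server for S1022; piece by helper63)

`M = N_G(X)` contains `N = N_G(P)`, `|N| = 459648 / 1008 = 456 = 152 * 3`, so `152 ∣ |N ⊓ M|`
and the overgroup lemma `key_le_normalizer` gives `M ≤ N` or `M = ⊤`; the latter makes `X` normal.
-/

set_option autoImplicit false

namespace Cfsg.Agent.Helper63.O459648

open Cfsg MulAction Cfsg.Agent.Helper17 Cfsg.Agent.Helper87.SV

theorem norm_eq {G : Type*} [Group G] [Finite G] [IsSimpleGroup G] (hG : Nat.card G = 459648)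
    (h1008 : Nat.card (Sylow 19 G) = 1008) (P : Sylow 19 G) (X : Subgroup G) (hX : X ≠ ⊥)
    (hX' : X ≠ ⊤)
    (hN : Subgroup.normalizer ((P : Subgroup G) : Set G) ≤ Subgroup.normalizer (X : Set G)) :
    Subgroup.normalizer (X : Set G) = Subgroup.normalizer ((P : Subgroup G) : Set G) := by
  have h19 : Fact (Nat.Prime 19) := ⟨by norm_num⟩
  have hcardN : Nat.card ↥(Subgroup.normalizer ((P : Subgroup G) : Set G)) = 456 := by
    have h0 := h87_card_normalizer P
    rw [hG, h1008] at h0
    omega
  have hinf : Subgroup.normalizer ((P : Subgroup G) : Set G) ⊓ Subgroup.normalizer (X : Set G) =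
      Subgroup.normalizer ((P : Subgroup G) : Set G) := inf_eq_left.2 hN
  have hPM : (P : Subgroup G) ≤ Subgroup.normalizer (X : Set G) :=
    le_trans Subgroup.le_normalizer hN
  rcases key_le_normalizer hG P (Subgroup.normalizer (X : Set G)) hPM
      (by rw [hinf, hcardN]; norm_num) with h | h
  · exact le_antisymm h hN
  · exfalso
    have hnorm : X.Normal := Subgroup.normalizer_eq_top_iff.1 h
    rcases hnorm.eq_bot_or_eq_top with hb | ht
    · exact hX hb
    · exact hX' ht

end Cfsg.Agent.Helper63.O459648
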