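import Mathlib
import Cfsg.Agent.Lib.Helper62.SLN0

/-!
# SLNC (KSA) kstarA, (KSB) kstarB  (helper93 sub-server of SLN, S2332; pieces by helper63)
-/

set_option autoImplicit false

namespace Cfsg.Agent.Helper63.SLNC

open Matrix Module Cfsg.Agent.Helper93.U2 Cfsg.Agent.Helper62.SLN

section SLN

variable {F : Type*} [Field F] [Fintype F] [DecidableEq F] {κ : Type} [Fintype κ] [DecidableEq κ]
  {V : Type*} [AddCommGroup V] [Module ℂ V] [FiniteDimensional ℂ V]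
  (ψ : AddChar F ℂ) (pr : Pairing (κ → F)) (hpr : ∀ w u, pr.β w u = ψ (w ⬝ᵥ u))
  (ρ : Representation ℂ (SpecialLinearGroup (Unit ⊕ κ) F) V)

omit [Fintype F] [DecidableEq F] in
theorem h63_update_smul_single (i c : κ) (hic : i ≠ c) (s : F) :
    Function.update (s • (Pi.single c 1 : κ → F)) i 0 = s • (Pi.single c 1 : κ → F) := by
  rw [Function.update_eq_self_iff, Pi.smul_apply, Pi.single_eq_of_ne hic, smul_zero]

omit [Fintype F] [DecidableEq F] in
theorem h63_smul_single_dot (c : κ) (s : F) (w : κ → F) :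
    (s • (Pi.single c 1 : κ → F)) ⬝ᵥ w = s * w c := by
  rw [smul_dotProduct, single_one_dotProduct, smul_eq_mul]

include hpr

omit [Fintype F] [DecidableEq F] [FiniteDimensional ℂ V] hpr in
/-- piece KSA [S-M] -/
theorem kstarA (hκ : 3 ≤ Fintype.card κ)
    (hgen : 4 ≤ Fintype.card κ → ∀ (i : κ) (w : κ → F), w ≠ 0 → ∀ t : κ → F,
      Function.update t i 0 ⬝ᵥ w = 0 → ∀ v ∈ wt pr ρ w, ρ (qEl i t) v = v)
    (h1a : ∀ (j : κ) (a : F), a ≠ 0 → ∀ (t : κ → F),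
      ∀ v ∈ wt pr ρ (a • (Pi.single j 1 : κ → F)), ρ (qEl j t) v = v)
    (h3 : Fintype.card κ = 3 → ∀ (j jn i : κ), i ≠ j → i ≠ jn → j ≠ jn → ∀ w : κ → F,
      w j = 0 → w jn = 0 → w = w i • (Pi.single i 1 : κ → F))
    (j jn i : κ) (hij : i ≠ j) (hin : i ≠ jn) (hjn : j ≠ jn) (w : κ → F) (hw : w ≠ 0)
    (hwj : w j = 0) (hwn : w jn = 0) (c : κ) (hc : c = j ∨ c = jn) (s : F)
    (v : V) (hv : v ∈ wt pr ρ w) : ρ (qEl i (s • (Pi.single c 1 : κ → F))) v = v := by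
  have hic : i ≠ c := by
    rcases hc with rfl | rfl
    · exact hij
    · exact hin
  have hwc : w c = 0 := by
    rcases hc with rfl | rfl
    · exact hwj
    · exact hwn
  by_cases h4 : 4 ≤ Fintype.card κ
  · refine hgen h4 i w hw _ ?_ v hv
    rw [h63_update_smul_single i c hic s, h63_smul_single_dot, hwc, mul_zero]
  · have hk3 : Fintype.card κ = 3 := by omega
    have hw3 := h3 hk3 j jn i hij hin hjn w hwj hwn
    have hwi : w i ≠ 0 := by
      intro h0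
      apply hw
      rw [hw3, h0, zero_smul]
    have hv' : v ∈ wt pr ρ (w i • (Pi.single i 1 : κ → F)) := by
      rw [← hw3]; exact hv
    exact h1a i (w i) hwi _ v hv'

omit [Fintype F] [DecidableEq F] [FiniteDimensional ℂ V] hpr in
/-- piece KSB [S-M] -/
theorem kstarB (hκ : 3 ≤ Fintype.card κ)
    (hgen : 4 ≤ Fintype.card κ → ∀ (i : κ) (w : κ → F), w ≠ 0 → ∀ t : κ → F,
      Function.update t i 0 ⬝ᵥ w = 0 → ∀ v ∈ wt pr ρ w, ρ (qEl i t) v = v)
    (h1b : Fintype.card κ = 3 → ∀ (j : κ) (w : κ → F), w j = 0 → w ≠ 0 → ∀ t : κ → F,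
      t ⬝ᵥ w = 0 → ∀ v ∈ wt pr ρ w, ρ (qEl j t) v = v)
    (j jn i : κ) (hij : i ≠ j) (hin : i ≠ jn) (hjn : j ≠ jn) (a : F) (ha : a ≠ 0) (s : F)
    (v : V) (hv : v ∈ wt pr ρ (a • (Pi.single j 1 : κ → F))) :
    ρ (qEl i (s • (Pi.single jn 1 : κ → F))) v = v := by
  have hw0 : a • (Pi.single j 1 : κ → F) ≠ 0 := by
    intro h0
    have h1 := congrFun h0 j
    rw [Pi.smul_apply, Pi.single_eq_same, smul_eq_mul, mul_one, Pi.zero_apply] at h1
    exact ha h1
  have hdot : (s • (Pi.single jn 1 : κ → F)) ⬝ᵥ (a • (Pi.single j 1 : κ → F)) = 0 := by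
    rw [h63_smul_single_dot, Pi.smul_apply, Pi.single_eq_of_ne (Ne.symm hjn), smul_zero, mul_zero]
  by_cases h4 : 4 ≤ Fintype.card κ
  · refine hgen h4 i _ hw0 _ ?_ v hv
    rw [h63_update_smul_single i jn hin s, hdot]
  · have hk3 : Fintype.card κ = 3 := by omega
    refine h1b hk3 i _ ?_ hw0 _ hdot v hv
    rw [Pi.smul_apply, Pi.single_eq_of_ne hij, smul_zero]

end SLN

end Cfsg.Agent.Helper63.SLNC
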