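import Mathlib
import Cfsg.Agent.S1405
import Cfsg.Agent.S1406
import Cfsg.Agent.S1409
import Cfsg.Agent.S1417
import Cfsg.Agent.S1424
import Cfsg.Agent.Lib.Helper15.BGW.Ctx
import Cfsg.Agent.Lib.Helper16.SylowIn
import Cfsg.Agent.Lib.Helper21.BG139Setup
import Cfsg.Agent.Lib.Helper34.BG10d
import Cfsg.Agent.Lib.Helper45.CNSimple
import Cfsg.Agent.Lib.Helper52.CoprimeSylow
import Cfsg.Agent.Lib.Helper54.Transitivity
import Cfsg.Agent.Lib.Helper79.BG10.Alpha
import Cfsg.Agent.Lib.Helper98.BG139Q3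
import Cfsg.Agent.Lib.Helper99.FrobFR

/-!
# BG 13.3 (= S1428), case `p ∈ α(H)`: the front half (helper63, for helper99)

From the standing configuration `Ctx M H E p q r P R T` with `p ∈ σ(H) ∩ α(H)` and `r ∈ τ₁(H)` we
produce a Sylow `q`-subgroup `S` of `G` with `N_G(S) ≤ M ∩ H` and `q ∈ σ(M) ∩ σ(H)`, i.e. an
`Aligned M H q S` (the input of BG 13.9-style arguments).
-/

set_option autoImplicit false
set_option linter.unusedSectionVars false

namespace Cfsg.Agent.Helper63.BG133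

open Cfsg Subgroup
open Cfsg.Agent.Helper16 Cfsg.Agent.Helper79.BG10
open scoped commutatorElement

variable {G : Type*} [Group G] [Finite G]

/-- a `p`-subgroup of `M` with `p ∈ α(M)` lies in `M_α` when `M_α` is a Hall subgroup of `M`. -/
theorem le_alphaCore_of_isPGroup {M Q : Subgroup G} {p : ℕ} (hp : p.Prime)
    (hHall : Cfsg.IsPiHallOf (Cfsg.alpha M) (Cfsg.alphaCore M) M) (hpα : p ∈ Cfsg.alpha M)
    (hQM : Q ≤ M) (hQ : IsPGroup p Q) : Q ≤ Cfsg.alphaCore M := by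
  have := Fact.mk hp
  set N : Subgroup M := Cfsg.piCore (Cfsg.alpha M) M with hN
  have hidx : N.index = (Cfsg.alphaCore M).relIndex M := by
    unfold Cfsg.alphaCore Subgroup.relIndex
    congr 1
    exact (Subgroup.comap_map_eq_self_of_injective M.subtype_injective _).symm
  have hnd : ¬ p ∣ N.index := by rw [hidx]; exact hHall.2.2 p hp hpα
  intro x hx
  have hxM : x ∈ M := hQM hx
  obtain ⟨k, hk⟩ := hQ ⟨x, hx⟩
  have hxk : x ^ p ^ k = 1 := by
    have := congrArg Subtype.val hk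
    simpa using this
  set y : M := ⟨x, hxM⟩ with hy
  have hyk : y ^ p ^ k = 1 := Subtype.ext (by simpa using hxk)
  have hq : ((QuotientGroup.mk' N) y) ^ p ^ k = 1 := by rw [← map_pow, hyk, map_one]
  have ho1 : orderOf ((QuotientGroup.mk' N) y) ∣ p ^ k := orderOf_dvd_of_pow_eq_one hq
  have ho2 : orderOf ((QuotientGroup.mk' N) y) ∣ N.index := by
    rw [Subgroup.index_eq_card]; exact orderOf_dvd_natCard _
  have hcop : (p ^ k).Coprime N.index := by
    apply Nat.Coprime.pow_left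
    exact (Nat.Prime.coprime_iff_not_dvd hp).mpr hnd
  have ho : orderOf ((QuotientGroup.mk' N) y) = 1 :=
    Nat.eq_one_of_dvd_coprimes hcop ho1 ho2
  have hyN : y ∈ N := by
    have := orderOf_eq_one_iff.mp ho
    exact (QuotientGroup.eq_one_iff y).mp this
  unfold Cfsg.alphaCore
  exact ⟨y, hyN, rfl⟩

/-- `M` normalizes the image in `G` of a normal subgroup of `↥M`. -/
theorem le_normalizer_map_subtype {M : Subgroup G} (N : Subgroup M) [hN : N.Normal] :
    M ≤ normalizer ((N.map M.subtype : Subgroup G) : Set G) := by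
  intro m hm
  rw [mem_normalizer_iff]
  intro x
  constructor
  · rintro ⟨y, hy, rfl⟩
    exact ⟨⟨m, hm⟩ * y * ⟨m, hm⟩⁻¹, hN.conj_mem y hy ⟨m, hm⟩, rfl⟩
  · rintro ⟨y, hy, hyx⟩
    refine ⟨⟨m, hm⟩⁻¹ * y * ⟨m, hm⟩, ?_, ?_⟩
    · have := hN.conj_mem y hy ⟨m, hm⟩⁻¹
      simpa using this
    · have h1 : (M.subtype (⟨m, hm⟩⁻¹ * y * ⟨m, hm⟩) : G) = m⁻¹ * (M.subtype y) * m := rfl
      rw [h1, hyx]; group

theorem le_normalizer_alphaCore' (M : Subgroup G) :
    M ≤ normalizer ((Cfsg.alphaCore M : Subgroup G) : Set G) := by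
  unfold Cfsg.alphaCore
  exact le_normalizer_map_subtype _

/-- a `q`-subgroup whose index in `L` is prime to `q` has the Sylow order of `L`. -/
theorem card_eq_of_not_dvd_relIndex {q : ℕ} [hq : Fact q.Prime] {S L : Subgroup G}
    (hSL : S ≤ L) (hS : IsPGroup q S) (hnd : ¬ q ∣ S.relIndex L) :
    Nat.card S = q ^ (Nat.card L).factorization q := by
  obtain ⟨k, hk⟩ := IsPGroup.iff_card.mp hS
  have h0 : Nat.card (S.subgroupOf L) = Nat.card S :=
    Nat.card_congr (Subgroup.subgroupOfEquivOfLe hSL).toEquiv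
  have h1 : Nat.card S * S.relIndex L = Nat.card L := by
    rw [← h0]; exact (S.subgroupOf L).card_mul_index
  have hS0 : Nat.card S ≠ 0 := Nat.card_pos.ne'
  have hr0 : S.relIndex L ≠ 0 := by
    intro h; rw [h, mul_zero] at h1; exact (Nat.card_pos (α := L)).ne' h1.symm
  have h3 : (S.relIndex L).factorization q = 0 := Nat.factorization_eq_zero_of_not_dvd hnd
  have h2 : (Nat.card L).factorization q = k := by
    rw [← h1, Nat.factorization_mul hS0 hr0, hk, Nat.factorization_pow]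
    simp [h3, hq.out.factorization_self]
  rw [hk, h2]

/-- conjugation-invariance of a closure from that of the generating set. -/
theorem conj_mem_closure' (S : Set G) (x : G) (hS : ∀ s ∈ S, x * s * x⁻¹ ∈ S) :
    ∀ u ∈ closure S, x * u * x⁻¹ ∈ closure S := by
  intro u hu
  induction hu using closure_induction with
  | mem s hs => exact subset_closure (hS s hs)
  | one => simp
  | mul a b _ _ iha ihb =>
    have : x * (a * b) * x⁻¹ = (x * a * x⁻¹) * (x * b * x⁻¹) := by group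
    rw [this]; exact mul_mem iha ihb
  | inv a _ iha =>
    have : x * a⁻¹ * x⁻¹ = (x * a * x⁻¹)⁻¹ := by group
    rw [this]; exact inv_mem iha

/-- `⁅Q, ⟨x⟩⁆` lies in the subgroup generated by the commutators `x u x⁻¹ u⁻¹`, `u ∈ Q`. -/
theorem commutator_zpowers_le_closure (Q : Subgroup G) (x : G)
    (hxQ : ∀ u ∈ Q, x * u * x⁻¹ ∈ Q) :
    ⁅Q, zpowers x⁆ ≤ closure {g | ∃ u ∈ Q, g = x * u * x⁻¹ * u⁻¹} := by
  set S : Set G := {g | ∃ u ∈ Q, g = x * u * x⁻¹ * u⁻¹} with hS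
  have hinv : ∀ u ∈ closure S, x * u * x⁻¹ ∈ closure S := by
    apply conj_mem_closure'
    rintro _ ⟨u, hu, rfl⟩
    refine ⟨x * u * x⁻¹, hxQ u hu, ?_⟩
    group
  have hk : ∀ k : ℕ, ∀ u ∈ Q, x ^ k * u * (x ^ k)⁻¹ * u⁻¹ ∈ closure S := by
    intro k
    induction k with
    | zero => intro u _; simp
    | succ k ih =>
      intro u hu
      have h1 := hinv _ (ih u hu)
      have h2 : x * u * x⁻¹ * u⁻¹ ∈ closure S := subset_closure ⟨u, hu, rfl⟩
      have : x ^ (k + 1) * u * (x ^ (k + 1))⁻¹ * u⁻¹ =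
          (x * (x ^ k * u * (x ^ k)⁻¹ * u⁻¹) * x⁻¹) * (x * u * x⁻¹ * u⁻¹) := by
        rw [pow_succ']; group
      rw [this]; exact mul_mem h1 h2
  rw [commutator_comm, commutator_le]
  rintro g hg u hu
  obtain ⟨k, rfl⟩ := mem_zpowers_iff.mp hg
  have hk' : ∃ n : ℕ, x ^ k = x ^ n := by
    refine ⟨(k % (orderOf x : ℤ)).toNat, ?_⟩
    have hpos : (0 : ℤ) < orderOf x := by exact_mod_cast orderOf_pos x
    rw [← zpow_natCast, Int.toNat_of_nonneg (Int.emod_nonneg _ hpos.ne'), zpow_mod_orderOf]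
  obtain ⟨n, hn⟩ := hk'
  rw [commutatorElement_def, hn]
  exact hk n u hu

/-- if `X` lies in a unique maximal subgroup, `X ≤ H` maximal and `X ≤ N ≠ ⊤`, then `N ≤ H`. -/
theorem le_of_inUniqueMaximal {X H N : Subgroup G} (h : InUniqueMaximal X) (hH : IsCoatom H)
    (hXH : X ≤ H) (hN : N ≠ ⊤) (hXN : X ≤ N) : N ≤ H := by
  obtain ⟨L, hL, hNL⟩ := (eq_top_or_exists_le_coatom N).resolve_left hN
  obtain ⟨M₀, -, huniq⟩ := h
  have h1 := huniq H ⟨hH, hXH⟩
  have h2 := huniq L ⟨hL, hXN.trans hNL⟩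
  rw [h1, ← h2]; exact hNL

/-- the conjugate of an elementary abelian subgroup is elementary abelian. -/
theorem isElementaryAbelian_cj {q : ℕ} (z : G) {B : Subgroup G}
    (hBc : ∀ a ∈ B, ∀ b ∈ B, a * b = b * a) (hBe : ∀ a ∈ B, a ^ q = 1) :
    IsElementaryAbelian q (cj z B) := by
  refine ⟨⟨⟨fun a b => ?_⟩⟩, ?_⟩
  · obtain ⟨a', ha', hae⟩ := Subgroup.mem_map.mp a.2
    obtain ⟨b', hb', hbe⟩ := Subgroup.mem_map.mp b.2
    apply Subtype.ext
    show (a : G) * (b : G) = (b : G) * (a : G)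
    rw [← hae, ← hbe, ← map_mul, ← map_mul, hBc a' ha' b' hb']
  · rintro _ ⟨a, ha, rfl⟩
    rw [← map_pow, hBe a ha, map_one]

/-- **Front half of the case `p ∈ α(H)` of BG 13.3.** -/
theorem alpha_front (hG : IsMinSimpleOddOrder G) {M H E P R T : Subgroup G} {p q r : ℕ}
    [Fact p.Prime] [Fact q.Prime] [Fact r.Prime]
    (C : Cfsg.Agent.Helper15.BGW.Ctx M H E p q r P R T) (hpH : p ∈ sigma H) (hpα : p ∈ alpha H)
    (hrH : r ∈ tau1 H) : ∃ S : Sylow q G, Cfsg.Agent.Helper21.BG139.Aligned M H q S := by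
  have _hpH := hpH -- (part of the requested signature; not needed for the front half)
  have hpp : p.Prime := Fact.out
  have hqq : q.Prime := Fact.out
  have hrr : r.Prime := Fact.out
  have hU : UniqHyp G := Cfsg.Agent.Helper21.BG139.uniqHyp hG
  have hHtop : H ≠ ⊤ := C.hH.1
  have hsolvH : ∀ K : Subgroup G, K ≤ H → Group.IsSolvable ↥K := fun K hK =>
    hG.2.2.2 K (fun h => hHtop (top_le_iff.mp (h ▸ hK)))
  obtain ⟨hHall, -, hασ, -, -⟩ := Cfsg.Agent.S1405.result hG H C.hH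
  -- parity
  have hodd : ∀ ℓ : ℕ, ℓ ∣ Nat.card G → ℓ ≠ 2 := by
    intro ℓ hℓ h2
    rw [h2] at hℓ
    exact (Nat.not_even_iff_odd.mpr hG.1) (even_iff_two_dvd.mpr hℓ)
  have hp2 : p ≠ 2 := hodd p (C.hP ▸ Subgroup.card_subgroup_dvd_card P)
  have hqT : q ∣ Nat.card T := by
    obtain ⟨n, hn⟩ := IsPGroup.iff_card.mp C.hT
    rcases Nat.eq_zero_or_pos n with h0 | h0
    · exfalso
      rw [h0, pow_zero] at hn
      exact C.hT1 (Subgroup.eq_bot_of_card_eq T hn)
    · rw [hn]; exact dvd_pow_self q h0.ne'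
  have hq2 : q ≠ 2 := hodd q (hqT.trans (Subgroup.card_subgroup_dvd_card T))
  -- (F1)
  have hcon' : ∀ g : G, M ≠ H.map (MulAut.conj g).toMonoidHom := by
    intro g hg
    apply C.hnc g⁻¹
    rw [hg]
    exact (cj_inv_cj g H).symm
  have hqα : q ∉ alpha H := fun h =>
    Cfsg.Agent.Helper98.BG139.alpha_disj hG H M C.hH C.hM hcon' q h C.hqM
  have hrα : r ∉ alpha H := fun h => hrH.2.1 (alpha_subset_sigma hG hU C.hH h)
  -- (F2)
  have hPp : IsPGroup p P := IsPGroup.of_card (n := 1) (by rw [C.hP, pow_one])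
  have hPα : P ≤ alphaCore H := le_alphaCore_of_isPGroup hpp hHall hpα C.hPH hPp
  -- (F3)
  have hαH : alphaCore H ≤ H := hHall.1
  have hTRn : T ⊔ R ≤ normalizer ((alphaCore H : Subgroup G) : Set G) :=
    (sup_le C.hTH C.hRH).trans (le_normalizer_alphaCore' H)
  have hcopT : (Nat.card T).Coprime (Nat.card ↥(alphaCore H)) := by
    obtain ⟨n, hn⟩ := IsPGroup.iff_card.mp C.hT
    rw [hn]
    apply Nat.Coprime.pow_left
    exact (Nat.Prime.coprime_iff_not_dvd hqq).mpr (fun h => hqα (hHall.2.1 q hqq h))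
  have hcopR : (Nat.card R).Coprime (Nat.card ↥(alphaCore H)) := by
    rw [C.hR]
    exact (Nat.Prime.coprime_iff_not_dvd hrr).mpr (fun h => hrα (hHall.2.1 r hrr h))
  have hcop : (Nat.card ↥(T ⊔ R)).Coprime (Nat.card ↥(alphaCore H)) :=
    Nat.Coprime.coprime_dvd_left (Cfsg.Agent.Helper54.card_sup_dvd_of_le_normalizer T R C.hRT)
      (Nat.Coprime.mul_left hcopT hcopR)
  have hTRP : T ⊔ R ≤ normalizer (P : Set G) :=
    sup_le (C.hTP.trans (centralizer_le_normalizer _)) (C.hRP.trans (centralizer_le_normalizer _))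
  obtain ⟨Pst, hPstK, hPstc, hPPst, hTRPst⟩ :=
    Cfsg.Agent.Helper52.exists_invariant_sylow_ge (T ⊔ R) (alphaCore H) hTRn hcop
      (Or.inr (hsolvH _ hαH)) p P hPα hPp hTRP
  have hPstc' : Nat.card Pst = p ^ (Nat.card ↥(alphaCore H)).factorization p := hPstc
  have hPstp : IsPGroup p Pst := IsPGroup.of_card hPstc'
  -- (F4)
  have hR1 : R ≠ ⊥ := by
    intro h
    have h1 := C.hR
    rw [h, Subgroup.card_bot] at h1
    exact hrr.one_lt.ne h1
  have hRr : IsPGroup r R := IsPGroup.of_card (n := 1) (by rw [C.hR, pow_one])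
  have hNR : ¬ normalizer (R : Set G) ≤ H := fun h =>
    (Cfsg.Agent.S1409.result hG H C.hH r hrH.2.1 R C.hR h).1.2 hrH.2.2.2.2
  have hRα : ∀ ℓ : ℕ, ℓ.Prime → ℓ ∣ Nat.card R → ℓ ∉ alpha H := by
    intro ℓ hℓ hd
    rw [C.hR] at hd
    rw [(Nat.prime_dvd_prime_iff_eq hℓ hrr).mp hd]
    exact hrα
  have hrk1R : RankLE 1 ↥(alphaCore H ⊓ centralizer (R : Set G)) := by
    by_contra hr
    have hu := Cfsg.Agent.S1406.result hG H C.hH R C.hRH hRα hr
    apply hNR
    exact le_of_inUniqueMaximal hu C.hH inf_le_left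
      (Cfsg.Agent.Helper45.CNSimple.normalizer_ne_top hG hRr hR1)
      (inf_le_right.trans (centralizer_le_normalizer _))
  -- (F5)
  have hRcyc : IsCyclic ↥R := isCyclic_of_prime_card C.hR
  obtain ⟨g, hg⟩ := IsCyclic.exists_generator (α := ↥R)
  obtain ⟨x, hx⟩ : ∃ x : G, x = (g : G) := ⟨_, rfl⟩
  have hxR : x ∈ R := hx ▸ g.2
  have hRx : R ≤ zpowers x := by
    intro y hy
    obtain ⟨k, hk⟩ := mem_zpowers_iff.mp (hg ⟨y, hy⟩)
    refine mem_zpowers_iff.mpr ⟨k, ?_⟩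
    have := congrArg Subtype.val hk
    rw [hx]
    simpa using this
  have hxr : x ^ r = 1 := by
    have h1 : (⟨x, hxR⟩ : ↥R) ^ Nat.card ↥R = 1 := pow_card_eq_one'
    rw [C.hR] at h1
    have := congrArg Subtype.val h1
    simpa using this
  have hxPst : x ∈ normalizer (Pst : Set G) := hTRPst ((le_sup_right : R ≤ T ⊔ R) hxR)
  have hTPst : T ≤ normalizer (Pst : Set G) := le_sup_left.trans hTRPst
  have hxT : x ∈ normalizer (T : Set G) := C.hRT hxR
  have hxTc : ∀ u ∈ T, x * u * x⁻¹ ∈ T := fun u hu => (mem_normalizer_iff.mp hxT u).mp hu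
  have hKgen : T ≤ closure {g | ∃ u ∈ T, g = x * u * x⁻¹ * u⁻¹} := by
    have h1 : ⁅T, R⁆ ≤ ⁅T, zpowers x⁆ := Subgroup.commutator_mono le_rfl hRx
    have h2 := commutator_zpowers_le_closure T x hxTc
    rw [C.hTR] at h1
    exact h1.trans h2
  have hCx : centralizer ({x} : Set G) ≤ centralizer (R : Set G) := by
    intro y hy
    rw [mem_centralizer_iff]
    intro z hz
    have hxy : x ∈ centralizer ({y} : Set G) := by
      rw [mem_centralizer_singleton_iff]
      exact (mem_centralizer_singleton_iff.mp hy).symm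
    have hz' : z ∈ centralizer ({y} : Set G) := (zpowers_le.mpr hxy) (hRx hz)
    exact mem_centralizer_singleton_iff.mp hz'
  have hle5 : Pst ⊓ centralizer ({x} : Set G) ≤ alphaCore H ⊓ centralizer (R : Set G) :=
    inf_le_inf hPstK hCx
  have hrank5 : PRankLE p 1 ↥(Pst ⊓ centralizer ({x} : Set G)) := by
    by_contra h
    exact not_pRankLE_mono hle5 h (hrk1R p hpp)
  have hcyc : IsCyclic ↥(Pst ⊓ centralizer ({x} : Set G)) :=
    Cfsg.Agent.Helper34.BG.isCyclic_of_pRankLE_one (q := p) hp2 (hPstp.to_le inf_le_left) hrank5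
  have hPx : P ≤ centralizer ({x} : Set G) := by
    intro y hy
    rw [mem_centralizer_singleton_iff]
    exact mem_centralizer_iff.mp (C.hRP hxR) y hy
  have hPstT : Pst ≤ centralizer (T : Set G) :=
    Cfsg.Agent.Helper99.FrobFR.frob_centralizes_of_cyclic hpp hqq hrr hp2 hq2 C.hqp.symm
      C.hrp.symm C.hqr Pst T x hPstp C.hT hTPst hxPst hxT hxr hKgen hcyc P C.hP hPPst hPx C.hPT
  -- (F6)
  have hPstS : IsSylowIn p (alphaCore H) Pst := isSylowIn_of_card hPstK hPstc'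
  have hnr6 : ¬ RankLE 1 ↥(alphaCore H ⊓ centralizer (T : Set G)) := by
    have hr' := hpα.2
    unfold PRankLE at hr'
    push Not at hr'
    obtain ⟨A0, hA0c, hA0e, hA0card⟩ := hr'
    obtain ⟨hBc, hBe, hBcard⟩ := elemAb_map_subtype A0 hA0c hA0e
    obtain ⟨A1, hA1⟩ : ∃ A1 : Subgroup G, A1 = A0.map H.subtype := ⟨_, rfl⟩
    rw [← hA1] at hBc hBe hBcard
    have hA1H : A1 ≤ H := by rw [hA1]; exact Subgroup.map_subtype_le _
    have hA1p : IsPGroup p A1 := isPGroup_of_pow_eq_one A1 hBe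
    have hA1K : A1 ≤ alphaCore H := le_alphaCore_of_isPGroup hpp hHall hpα hA1H hA1p
    obtain ⟨T', hAT', hT'⟩ := exists_isSylowIn_ge (p := p) hA1p hA1K
    obtain ⟨z, -, hz⟩ := exists_cj_eq_of_isSylowIn hT' hPstS
    have hzA : cj z A1 ≤ Pst := by rw [hz]; exact cj_mono z hAT'
    refine not_rankLE_of_elemAb hpp (hzA.trans (le_inf hPstK hPstT)) ?_ ?_ ?_
    · rintro _ ⟨a, ha, rfl⟩ _ ⟨b, hb, rfl⟩
      rw [← map_mul, ← map_mul, hBc a ha b hb]
    · rintro _ ⟨a, ha, rfl⟩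
      rw [← map_pow, hBe a ha, map_one]
    · rw [card_cj, hBcard, pow_one]
      calc p ≤ p ^ 2 := Nat.le_self_pow (by norm_num) p
        _ < Nat.card A0 := hA0card
  have hTα : ∀ ℓ : ℕ, ℓ.Prime → ℓ ∣ Nat.card T → ℓ ∉ alpha H := by
    intro ℓ hℓ hd
    obtain ⟨n, hn⟩ := IsPGroup.iff_card.mp C.hT
    rw [hn] at hd
    rw [(Nat.prime_dvd_prime_iff_eq hℓ hqq).mp (hℓ.dvd_of_dvd_pow hd)]
    exact hqα
  have hu6 := Cfsg.Agent.S1406.result hG H C.hH T C.hTH hTα hnr6
  have hNX0 : ∀ X0 : Subgroup G, X0 ≤ T → X0 ≠ ⊥ → normalizer (X0 : Set G) ≤ H := by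
    intro X0 hX0T hX01
    refine le_of_inUniqueMaximal hu6 C.hH inf_le_left
      (Cfsg.Agent.Helper45.CNSimple.normalizer_ne_top hG (C.hT.to_le hX0T) hX01) ?_
    exact inf_le_right.trans ((centralizer_le (SetLike.coe_subset_coe.mpr hX0T)).trans
      (centralizer_le_normalizer _))
  -- (F7)
  have hTMH : T ≤ M ⊓ H := le_inf C.hTM C.hTH
  obtain ⟨S0, hS0⟩ := (C.hT.comap_subtype (K := M ⊓ H)).exists_le_sylow
  have hTS0 : T ≤ (S0 : Subgroup ↥(M ⊓ H)).map (M ⊓ H).subtype := by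
    intro a ha
    exact ⟨⟨a, hTMH ha⟩, hS0 ha, rfl⟩
  obtain ⟨-, hNS1M, hS1idx⟩ := Cfsg.Agent.S1424.result hG M C.hM q C.hqM T C.hT C.hT1 C.hTM H
    C.hH C.hHM (hNX0 T le_rfl C.hT1) S0 hTS0
  obtain ⟨S1, hS1⟩ : ∃ S1 : Subgroup G, S1 = (S0 : Subgroup ↥(M ⊓ H)).map (M ⊓ H).subtype :=
    ⟨_, rfl⟩
  rw [← hS1] at hNS1M hS1idx hTS0
  have hS1MH : S1 ≤ M ⊓ H := by rw [hS1]; exact Subgroup.map_subtype_le _
  have hS1H : S1 ≤ H := hS1MH.trans inf_le_right
  have hS1M : S1 ≤ M := hS1MH.trans inf_le_left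
  have hS1q : IsPGroup q S1 := by rw [hS1]; exact S0.isPGroup'.map _
  have hS1c : Nat.card S1 = q ^ (Nat.card H).factorization q :=
    card_eq_of_not_dvd_relIndex hS1H hS1q hS1idx
  have hS1Syl : IsSylowIn q H S1 := isSylowIn_of_card hS1H hS1c
  -- (F8)
  have hqH : q ∈ sigma H := by
    by_contra hqσ
    have hqdvd : q ∣ Nat.card H := hqT.trans (Subgroup.card_dvd_of_le C.hTH)
    by_cases hq1 : PRankLE q 1 ↥H
    · -- `S1` is cyclic
      have hS1r : PRankLE q 1 ↥S1 := by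
        by_contra h
        exact not_pRankLE_mono hS1H h hq1
      have hS1cyc : IsCyclic ↥S1 :=
        Cfsg.Agent.Helper34.BG.isCyclic_of_pRankLE_one (q := q) hq2 hS1q hS1r
      obtain ⟨X0', hX0'⟩ := Sylow.exists_subgroup_card_pow_prime q (n := 1) (G := ↥T)
        (by rw [pow_one]; exact hqT)
      obtain ⟨X0, hX0⟩ : ∃ X0 : Subgroup G, X0 = X0'.map T.subtype := ⟨_, rfl⟩
      have hX0T : X0 ≤ T := by rw [hX0]; exact Subgroup.map_subtype_le _
      have hX0c : Nat.card X0 = q := by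
        rw [hX0, Subgroup.card_map_of_injective T.subtype_injective, hX0', pow_one]
      have hX01 : X0 ≠ ⊥ := by
        intro h
        rw [h, Subgroup.card_bot] at hX0c
        exact hqq.one_lt.ne hX0c
      have hX0S1 : X0 ≤ S1 := hX0T.trans hTS0
      have hNN : normalizer (S1 : Set G) ≤ normalizer (X0 : Set G) := by
        apply Cfsg.Agent.Helper21.BG139.le_normalizer_of_conj_mem
        intro m hm y hy
        have hyS1 : m * y * m⁻¹ ∈ S1 := (mem_normalizer_iff.mp hm y).mp (hX0S1 hy)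
        have hyq : y ^ q = 1 := by
          have h1 : (⟨y, hy⟩ : ↥X0) ^ Nat.card ↥X0 = 1 := pow_card_eq_one'
          rw [hX0c] at h1
          have := congrArg Subtype.val h1
          simpa using this
        have hpow : (m * y * m⁻¹) ^ q = 1 := by
          rw [conj_pow, hyq]; group
        exact Cfsg.Agent.Helper99.FrobFR.mem_of_isCyclic_of_pow_eq_one hqq S1 X0 hS1cyc hX0c
          hX0S1 hyS1 hpow
      have hNS1H : normalizer (S1 : Set G) ≤ H := hNN.trans (hNX0 X0 hX0T hX01)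
      obtain ⟨SH, hSH⟩ := Cfsg.Agent.Helper52.exists_sylow_of_card q H S1 hS1H hS1c
      exact hqσ ⟨hqq, hqdvd, SH, by rw [hSH]; exact hNS1H⟩
    · -- `q ∈ τ₂(H)`
      have hq2r : PRankLE q 2 ↥H := by
        by_contra h
        exact hqα ⟨hqq, h⟩
      have hqτ : q ∈ tau2 H := ⟨hqq, hqσ, hq2r, hq1⟩
      have hq1' := hq1
      unfold PRankLE at hq1'
      push Not at hq1'
      obtain ⟨B0, hB0c, hB0e, hB0card⟩ := hq1'
      have hB0le : Nat.card B0 ≤ q ^ 2 := hq2r B0 hB0c hB0e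
      obtain ⟨hBc, hBe, hBcard⟩ := elemAb_map_subtype B0 hB0c hB0e
      obtain ⟨B1, hB1⟩ : ∃ B1 : Subgroup G, B1 = B0.map H.subtype := ⟨_, rfl⟩
      rw [← hB1] at hBc hBe hBcard
      have hB1H : B1 ≤ H := by rw [hB1]; exact Subgroup.map_subtype_le _
      have hB1q : IsPGroup q B1 := isPGroup_of_pow_eq_one B1 hBe
      have hB1card : Nat.card B1 = q ^ 2 := by
        obtain ⟨n, hn⟩ := IsPGroup.iff_card.mp hB1q
        rw [hBcard] at hn
        have h1 : 1 < n := (Nat.pow_lt_pow_iff_right hqq.one_lt).mp (by rw [← hn]; exact hB0card)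
        have h2 : n ≤ 2 := (Nat.pow_le_pow_iff_right hqq.one_lt).mp (by rw [← hn]; exact hB0le)
        have h3 : n = 2 := by omega
        rw [hBcard, hn, h3]
      obtain ⟨T', hBT', hT'⟩ := exists_isSylowIn_ge (p := q) hB1q hB1H
      obtain ⟨z, -, hz⟩ := exists_cj_eq_of_isSylowIn hT' hS1Syl
      have hzB : cj z B1 ≤ S1 := by rw [hz]; exact cj_mono z hBT'
      have hAel : IsElementaryAbelian q (cj z B1) := isElementaryAbelian_cj z hBc hBe
      have hAcard : Nat.card ↥(cj z B1) = q ^ 2 := by rw [card_cj, hB1card]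
      have h5 := (Cfsg.Agent.S1417.result hG H C.hH q hqτ (cj z B1)
        ⟨hzB.trans hS1H, hAel, hAcard⟩).2.2.2.2.1 M C.hM C.hHM.symm (hzB.trans hS1M)
      have hPbot : P ≤ sigmaCore H ⊓ M := le_inf (hPα.trans hασ) C.hPM
      rw [h5] at hPbot
      have hPb : P = ⊥ := le_bot_iff.mp hPbot
      have hc := C.hP
      rw [hPb, Subgroup.card_bot] at hc
      exact hpp.one_lt.ne hc
  -- (F9)
  have hNS1H : normalizer (S1 : Set G) ≤ H := normalizer_le_of_sigma hqH hS1Syl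
  have hS1top : IsSylowIn q ⊤ S1 := isSylowIn_top_of_sigma hqH hS1Syl
  have hcard : Nat.card S1 = q ^ (Nat.card G).factorization q := by
    have := hS1top.card
    rwa [Subgroup.card_top] at this
  refine ⟨Sylow.ofCard S1 hcard, C.hM, C.hH, C.hqM, hqH, C.hnc, ?_⟩
  have hS : ((Sylow.ofCard S1 hcard : Sylow q G) : Subgroup G) = S1 := Sylow.coe_ofCard _ _
  rw [hS]
  exact le_inf hNS1M hNS1H

end Cfsg.Agent.Helper63.BG133
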