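import Mathlib

/-!
# `GL(5,2)` has no element of order 9, while `PSL(2,8)` has one
-/

set_option autoImplicit false
set_option linter.style.haveILetI false
set_option linter.unusedSectionVars false

namespace Cfsg.Agent.Helper63.GL52

open Matrix

/-- `GL(5,2)` -/
abbrev G52 := GL (Fin 5) (ZMod 2)

theorem card_G52 : Nat.card G52 = 9999360 := by
  rw [Matrix.card_GL_field]
  simp [Fin.prod_univ_five, ZMod.card]

theorem factorization_of_eq_mul_pow {n m p j : ℕ} (hp : p.Prime) (hm : ¬ p ∣ m)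
    (h : n = p ^ j * m) : n.factorization p = j := by
  have hm0 : m ≠ 0 := fun h0 => hm (h0 ▸ dvd_zero p)
  rw [h, Nat.factorization_mul (pow_ne_zero _ hp.ne_zero) hm0, Nat.Prime.factorization_pow hp]
  simp [Nat.factorization_eq_zero_of_not_dvd hm]

/-- a matrix of order three with a three-dimensional fixed space -/
def Am : Matrix (Fin 5) (Fin 5) (ZMod 2) :=
  !![0,1,0,0,0; 1,1,0,0,0; 0,0,1,0,0; 0,0,0,1,0; 0,0,0,0,1]

/-- a matrix of order three with a one-dimensional fixed space -/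
def Cm : Matrix (Fin 5) (Fin 5) (ZMod 2) :=
  !![0,1,0,0,0; 1,1,0,0,0; 0,0,0,1,0; 0,0,1,1,0; 0,0,0,0,1]

/-- `Am` as an element of `GL(5,2)` -/
def aU : G52 := ⟨Am, Am * Am, by decide, by decide⟩

/-- `Cm` as an element of `GL(5,2)` -/
def cU : G52 := ⟨Cm, Cm * Cm, by decide, by decide⟩

theorem aU_order : orderOf aU = 3 := by
  haveI : Fact (Nat.Prime 3) := ⟨Nat.prime_three⟩
  apply orderOf_eq_prime
  · apply Units.ext
    rw [Units.val_pow_eq_pow_val, pow_three]
    show Am * (Am * Am) = 1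
    decide
  · intro h
    have := congrArg (fun u : G52 => (u : Matrix (Fin 5) (Fin 5) (ZMod 2)) 0 0) h
    revert this
    decide

theorem cU_order : orderOf cU = 3 := by
  haveI : Fact (Nat.Prime 3) := ⟨Nat.prime_three⟩
  apply orderOf_eq_prime
  · apply Units.ext
    rw [Units.val_pow_eq_pow_val, pow_three]
    show Cm * (Cm * Cm) = 1
    decide
  · intro h
    have := congrArg (fun u : G52 => (u : Matrix (Fin 5) (Fin 5) (ZMod 2)) 0 0) h
    revert this
    decide

/-- the class invariant `tr(x) tr(x²)` -/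
def tau (x : G52) : ZMod 2 :=
  Matrix.trace (x : Matrix (Fin 5) (Fin 5) (ZMod 2)) *
    Matrix.trace ((x * x : G52) : Matrix (Fin 5) (Fin 5) (ZMod 2))

theorem tau_aU : tau aU = 0 := by
  show Matrix.trace Am * Matrix.trace (Am * Am) = 0
  decide

theorem tau_cU : tau cU = 1 := by
  show Matrix.trace Cm * Matrix.trace (Cm * Cm) = 1
  decide

theorem tau_conj (g x : G52) : tau (g * x * g⁻¹) = tau x := by
  unfold tau
  have h1 : (g * x * g⁻¹) * (g * x * g⁻¹) = g * (x * x) * g⁻¹ := by group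
  rw [h1]
  simp only [Units.val_mul]
  rw [Matrix.trace_units_conj, Matrix.trace_units_conj]

theorem tau_eq_of_order_nine (y : G52) (hy : orderOf y = 9) (x : G52) (hx : orderOf x = 3) :
    tau x = tau (y ^ 3) := by
  haveI : Fact (Nat.Prime 3) := ⟨Nat.prime_three⟩
  have hfact : (Nat.card G52).factorization 3 = 2 := by
    rw [card_G52]
    exact factorization_of_eq_mul_pow (m := 1111040) Nat.prime_three (by norm_num) (by norm_num)
  let P : Sylow 3 G52 := Sylow.ofCard (Subgroup.zpowers y)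
    (by rw [Nat.card_zpowers, hy, hfact]; norm_num)
  have hxP : IsPGroup 3 (Subgroup.zpowers x) :=
    IsPGroup.of_card (n := 1) (by rw [Nat.card_zpowers, hx, pow_one])
  obtain ⟨Q, hQ⟩ := hxP.exists_le_sylow
  obtain ⟨g, hg⟩ := MulAction.exists_smul_eq G52 Q P
  have h1 : g * x * g⁻¹ ∈ (P : Subgroup G52) := by
    rw [← hg, Sylow.coe_subgroup_smul]
    have h2 : x ∈ (Q : Subgroup G52) := hQ (Subgroup.mem_zpowers x)
    have h3 := Subgroup.smul_mem_pointwise_smul x (MulAut.conj g) (Q : Subgroup G52) h2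
    simpa [MulAut.smul_def, MulAut.conj_apply] using h3
  have h2 : g * x * g⁻¹ ∈ Subgroup.zpowers y := h1
  have hyfin : IsOfFinOrder y := isOfFinOrder_of_finite y
  rw [← mem_powers_iff_mem_zpowers, Submonoid.mem_powers_iff] at h2
  obtain ⟨k, hk⟩ := h2
  have hw3 : (g * x * g⁻¹) ^ 3 = 1 := by
    rw [conj_pow, ← hx, pow_orderOf_eq_one]
    group
  have hw1 : g * x * g⁻¹ ≠ 1 := by
    intro h
    have : x = 1 := by
      have h' : g * x * g⁻¹ = g * 1 * g⁻¹ := by rw [h]; group
      exact mul_left_cancel (mul_right_cancel h')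
    rw [this, orderOf_one] at hx
    omega
  have hk3 : 9 ∣ k * 3 := by
    rw [← hy]
    apply orderOf_dvd_of_pow_eq_one
    rw [pow_mul, hk, hw3]
  have hk3' : 3 ∣ k := by omega
  have hmod : y ^ k = y ^ (k % 9) := by
    rw [← hy]
    exact (pow_mod_orderOf y k).symm
  have hy9 : y ^ 9 = 1 := by rw [← hy]; exact pow_orderOf_eq_one y
  rw [← tau_conj g x, ← hk, hmod]
  have hcases : k % 9 = 0 ∨ k % 9 = 3 ∨ k % 9 = 6 := by omega
  rcases hcases with h | h | h
  · exfalso
    apply hw1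
    rw [← hk, hmod, h, pow_zero]
  · rw [h]
  · rw [h]
    unfold tau
    have e1 : y ^ 6 * y ^ 6 = y ^ 3 := by
      have : y ^ 6 * y ^ 6 = y ^ 9 * y ^ 3 := by rw [← pow_add, ← pow_add]
      rw [this, hy9, one_mul]
    have e2 : y ^ 3 * y ^ 3 = y ^ 6 := by rw [← pow_add]
    rw [e1, e2, mul_comm]

/-- `GL(5,2)` has no element of order `9`. -/
theorem no_order_nine (y : G52) (hy : orderOf y = 9) : False := by
  have h1 := tau_eq_of_order_nine y hy aU aU_order
  have h2 := tau_eq_of_order_nine y hy cU cU_order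
  rw [tau_aU] at h1
  rw [tau_cU, ← h1] at h2
  revert h2
  decide


/-! ### An element of order nine in `PSL(2,8)` -/

section psl

variable {F : Type*} [Field F] [Fintype F]

theorem two_eq_zero_of_card (hF : Fintype.card F = 8) : (2 : F) = 0 := by
  obtain ⟨p, hp⟩ := CharP.exists F
  obtain ⟨n, hpr, hn⟩ := FiniteField.card F p
  have h1 : p ∣ 8 := by
    rw [← hF, hn]
    exact dvd_pow_self p n.ne_zero
  have h2 : p = 2 := by
    have h3 : p ∣ 2 ^ 3 := by simpa using h1
    exact (Nat.prime_dvd_prime_iff_eq hpr Nat.prime_two).mp (hpr.dvd_of_dvd_pow h3)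
  subst h2
  exact_mod_cast CharP.cast_eq_zero F 2

theorem exists_root (hF : Fintype.card F = 8) : ∃ s : F, s ^ 3 = s + 1 := by
  classical
  have h2 := two_eq_zero_of_card hF
  have hneg : ∀ x : F, -x = x := by
    intro x
    have : x + x = 0 := by linear_combination x * h2
    exact neg_eq_of_add_eq_zero_left this
  obtain ⟨t, ht0, ht1⟩ : ∃ t : F, t ≠ 0 ∧ t ≠ 1 := by
    have hlt : 2 < Fintype.card F := by rw [hF]; norm_num
    obtain ⟨a, b, c, hab, hac, hbc⟩ := Fintype.two_lt_card_iff.mp hlt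
    by_cases ha0 : a = 0
    · by_cases hb1 : b = 1
      · refine ⟨c, ?_, ?_⟩
        · rw [← ha0]; exact hac.symm
        · rw [← hb1]; exact hbc.symm
      · exact ⟨b, by rw [← ha0]; exact hab.symm, hb1⟩
    · by_cases ha1 : a = 1
      · by_cases hb0 : b = 0
        · refine ⟨c, ?_, ?_⟩
          · rw [← hb0]; exact hbc.symm
          · rw [← ha1]; exact hac.symm
        · exact ⟨b, hb0, by rw [← ha1]; exact hab.symm⟩
      · exact ⟨a, ha0, ha1⟩
  have h7 : t ^ 7 = 1 := by
    have := FiniteField.pow_card_sub_one_eq_one t ht0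
    rwa [hF] at this
  have hprod : (t + 1) * (t ^ 3 + t + 1) * (t ^ 3 + t ^ 2 + 1) = 0 := by
    linear_combination h7 + (t ^ 6 + t ^ 5 + 2 * t ^ 4 + 2 * t ^ 3 + t ^ 2 + t + 1) * h2
  rcases mul_eq_zero.mp hprod with h | h
  · rcases mul_eq_zero.mp h with h | h
    · exfalso
      apply ht1
      have : t = -1 := eq_neg_of_add_eq_zero_left h
      rw [this, hneg]
    · refine ⟨t, ?_⟩
      have : t ^ 3 = -(t + 1) := by linear_combination h
      rw [this, hneg]
  · refine ⟨t⁻¹, ?_⟩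
    have hti : t * t⁻¹ = 1 := mul_inv_cancel₀ ht0
    have h3 : t⁻¹ ^ 3 + t⁻¹ + 1 = 0 := by
      have : t ^ 3 * (t⁻¹ ^ 3 + t⁻¹ + 1) = 0 := by
        linear_combination h + (t ^ 2 * t⁻¹ ^ 2 + t * t⁻¹ + 1 + t ^ 2) * hti
      rcases mul_eq_zero.mp this with h4 | h4
      · exact absurd (pow_eq_zero_iff (by norm_num) |>.mp h4) ht0
      · exact h4
    have : t⁻¹ ^ 3 = -(t⁻¹ + 1) := by linear_combination h3
    rw [this, hneg]

theorem mul2 (a b c d e f g h : F) :
    !![a, b; c, d] * !![e, f; g, h] = !![a * e + b * g, a * f + b * h; c * e + d * g, c * f + d * h] :=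
  Matrix.mul_fin_two ..

theorem mk2_eq {a b c d a' b' c' d' : F} (ha : a = a') (hb : b = b') (hc : c = c') (hd : d = d') :
    !![a, b; c, d] = !![a', b'; c', d'] := by
  subst ha hb hc hd
  rfl

theorem cube_formula (s : F) (h2 : (2 : F) = 0) (hs : s ^ 3 = s + 1) :
    (!![0, 1; 1, s] : Matrix (Fin 2) (Fin 2) F) ^ 3 = !![s, 1 + s ^ 2; 1 + s ^ 2, s + 1] := by
  rw [pow_three, mul2, mul2]
  apply mk2_eq
  · ring
  · ring
  · ring
  · linear_combination hs + s * h2

theorem ninth_power (s : F) (h2 : (2 : F) = 0) (hs : s ^ 3 = s + 1) :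
    (!![0, 1; 1, s] : Matrix (Fin 2) (Fin 2) F) ^ 9 = 1 := by
  rw [show 9 = 3 * 3 by norm_num, pow_mul, cube_formula s h2 hs, pow_three, mul2, mul2,
    Matrix.one_fin_two]
  apply mk2_eq
  · linear_combination (10 + 1 * s + 3 * s ^ 2) * hs + (5 + 7 * s + 3 * s ^ 2) * h2
  · linear_combination (4 + 7 * s + 1 * s ^ 3) * hs + (3 + 7 * s + 7 * s ^ 2) * h2
  · linear_combination (4 + 7 * s + 1 * s ^ 3) * hs + (3 + 7 * s + 7 * s ^ 2) * h2
  · linear_combination (10 + 2 * s + 3 * s ^ 2) * hs + (6 + 9 * s + 6 * s ^ 2) * h2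

/-- `PSL(2,8)` has an element of order nine. -/
theorem exists_order_nine (hF : Fintype.card F = 8) :
    ∃ g : Matrix.ProjectiveSpecialLinearGroup (Fin 2) F, orderOf g = 9 := by
  have h2 := two_eq_zero_of_card hF
  obtain ⟨s, hs⟩ := exists_root hF
  have hdet : (!![0, 1; 1, s] : Matrix (Fin 2) (Fin 2) F).det = 1 := by
    rw [Matrix.det_fin_two_of]
    linear_combination (-1 : F) * h2
  let M : Matrix.SpecialLinearGroup (Fin 2) F := ⟨!![0, 1; 1, s], hdet⟩
  refine ⟨QuotientGroup.mk M, ?_⟩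
  have h9 : M ^ 9 = 1 := by
    apply Subtype.ext
    rw [Matrix.SpecialLinearGroup.coe_pow]
    exact ninth_power s h2 hs
  have h3 : ¬ (QuotientGroup.mk M : Matrix.ProjectiveSpecialLinearGroup (Fin 2) F) ^ 3 ^ 1 = 1 := by
    rw [pow_one, ← QuotientGroup.mk_pow, QuotientGroup.eq_one_iff,
      Matrix.SpecialLinearGroup.mem_center_iff]
    rintro ⟨r, -, hr⟩
    have h4 := congrFun (congrFun hr 0) 1
    rw [Matrix.SpecialLinearGroup.coe_pow] at h4
    change (Matrix.scalar (Fin 2) r) 0 1 = ((!![0, 1; 1, s] : Matrix (Fin 2) (Fin 2) F) ^ 3) 0 1 at h4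
    rw [cube_formula s h2 hs] at h4
    simp at h4
    -- `1 + s ^ 2 = 0` is impossible
    have h5 : s = 1 := by
      have : (s - 1) ^ 2 = 0 := by linear_combination (-1 : F) * h4 + (-s) * h2
      exact sub_eq_zero.mp (pow_eq_zero_iff (by norm_num) |>.mp this)
    rw [h5] at hs
    have : (1 : F) = 0 := by linear_combination hs + h2
    exact one_ne_zero this
  have h9' : (QuotientGroup.mk M : Matrix.ProjectiveSpecialLinearGroup (Fin 2) F) ^ 3 ^ (1 + 1) = 1 := by
    rw [show 3 ^ (1 + 1) = 9 by norm_num, ← QuotientGroup.mk_pow, h9]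
    rfl
  have := orderOf_eq_prime_pow h3 h9'
  rw [this]
  norm_num

end psl

end Cfsg.Agent.Helper63.GL52
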