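import Mathlib

/-!
# Monomial matrices indexed by `ZMod p` (helper63)

`M a k` is the matrix with entry `a i` at position `(i, i + k)`.  Basic calculus: products, powers,
units.  Used for the Sylow `p`-subgroup `μ_p^p ⋊ ⟨σ⟩` of `GL_p(F)`.
-/

namespace Cfsg.Agent.Helper63.GLpMono

open Matrix

variable {F : Type*} [Field F] {p : ℕ} [Fact p.Prime]

/-- The monomial matrix with entry `a i` at position `(i, i + k)`. -/
def M (a : ZMod p → F) (k : ZMod p) : Matrix (ZMod p) (ZMod p) F :=
  Matrix.of fun i j => if j = i + k then a i else 0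

lemma M_apply (a : ZMod p → F) (k i j : ZMod p) : M a k i j = if j = i + k then a i else 0 := rfl

lemma M_mul (a b : ZMod p → F) (k l : ZMod p) :
    M a k * M b l = M (fun i => a i * b (i + k)) (k + l) := by
  ext i j
  rw [Matrix.mul_apply, Finset.sum_eq_single (i + k)]
  · simp only [M_apply, if_true]
    by_cases h : j = i + k + l
    · rw [if_pos h, if_pos (by rw [h, add_assoc])]
    · rw [if_neg h, if_neg (by rw [← add_assoc]; exact h), mul_zero]
  · intro m _ hm
    rw [M_apply, if_neg hm, zero_mul]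
  · intro h; exact absurd (Finset.mem_univ _) h

lemma M_one : M (fun _ => (1 : F)) (0 : ZMod p) = 1 := by
  ext i j
  rw [M_apply, Matrix.one_apply, add_zero]
  by_cases h : i = j
  · rw [if_pos h.symm, if_pos h]
  · rw [if_neg (fun h' => h h'.symm), if_neg h]

lemma M_const_zero (c : F) : M (fun _ => c) (0 : ZMod p) = c • (1 : Matrix (ZMod p) (ZMod p) F) := by
  ext i j
  rw [M_apply, Matrix.smul_apply, Matrix.one_apply, add_zero, smul_eq_mul]
  by_cases h : i = j
  · rw [if_pos h.symm, if_pos h, mul_one]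
  · rw [if_neg (fun h' => h h'.symm), if_neg h, mul_zero]

lemma M_pow (a : ZMod p → F) (k : ZMod p) (n : ℕ) :
    M a k ^ n = M (fun i => ∏ j ∈ Finset.range n, a (i + (j : ZMod p) * k)) ((n : ZMod p) * k) := by
  induction n with
  | zero =>
    simp only [pow_zero, Finset.range_zero, Finset.prod_empty, Nat.cast_zero, zero_mul]
    exact M_one.symm
  | succ n ih =>
    rw [pow_succ, ih, M_mul]
    congr 1
    · funext i
      rw [Finset.prod_range_succ]
    · push_cast; ring

lemma M_add_apply_self (a : ZMod p → F) (k i : ZMod p) : M a k i (i + k) = a i := by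
  rw [M_apply, if_pos rfl]

lemma M_apply_ne (a : ZMod p → F) (k i j : ZMod p) (h : j ≠ i + k) : M a k i j = 0 := by
  rw [M_apply, if_neg h]

/-- the full product over an orbit -/
lemma prod_orbit (a : ZMod p → F) (k : ZMod p) (hk : k ≠ 0) (i : ZMod p) :
    ∏ j ∈ Finset.range p, a (i + (j : ZMod p) * k) = ∏ m : ZMod p, a m := by
  have hp : p ≠ 0 := (Fact.out : p.Prime).ne_zero
  haveI : NeZero p := ⟨hp⟩
  have h1 : ∏ j ∈ Finset.range p, a (i + (j : ZMod p) * k) = ∏ m : ZMod p, a (i + m * k) := by
    refine Finset.prod_bij' (fun j _ => (j : ZMod p)) (fun m _ => m.val) ?_ ?_ ?_ ?_ ?_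
    · intro j _; exact Finset.mem_univ _
    · intro m _; exact Finset.mem_range.mpr (ZMod.val_lt m)
    · intro j hj; exact ZMod.val_natCast_of_lt (Finset.mem_range.mp hj)
    · intro m _; exact ZMod.natCast_zmod_val m
    · intro j _; rfl
  rw [h1]
  exact Fintype.prod_equiv ((Equiv.mulRight₀ k hk).trans (Equiv.addLeft i)) _ _ (fun m => by simp)

lemma M_pow_p (a : ZMod p → F) (k : ZMod p) (hk : k ≠ 0) :
    M a k ^ p = (∏ m : ZMod p, a m) • (1 : Matrix (ZMod p) (ZMod p) F) := by
  rw [M_pow, ← M_const_zero]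
  congr 1
  · funext i; exact prod_orbit a k hk i
  · simp

end Cfsg.Agent.Helper63.GLpMono
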