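import Cfsg.Agent.Lib.Helper63.GLpSylow

/-!
# Redundancy of the Sylow `p`-subgroup `μ_p^p ⋊ ⟨σ⟩` of `GL_p(F)` (helper63)
-/

namespace Cfsg.Agent.Helper63.GLpRedundant

open Matrix Cfsg.Agent.Helper63.GLpMono Cfsg.Agent.Helper63.GLpSylow

section abs

variable {G : Type*} [Group G] {p : ℕ} [Fact p.Prime]

lemma mem_smul_sylow (P : Sylow p G) (g x : G) : x ∈ g • P ↔ g⁻¹ * x * g ∈ P := by
  show x ∈ ((g • P : Sylow p G) : Subgroup G) ↔ _
  rw [Sylow.coe_subgroup_smul, Subgroup.mem_pointwise_smul_iff_inv_smul_mem]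
  have : (MulAut.conj g)⁻¹ • x = g⁻¹ * x * g := by
    rw [← map_inv, MulAut.smul_def, MulAut.conj_apply, inv_inv]
  rw [this]; rfl

lemma ap (Q : Sylow p G) (x g r : G) (hx : x ∈ Q) (hg : g * x = x * g) (hr : r ∈ Q)
    (hgr : g * r * g⁻¹ ∉ Q) : ∃ P : Sylow p G, P ≠ Q ∧ x ∈ P := by
  refine ⟨g • Q, ?_, ?_⟩
  · intro h
    rw [Sylow.smul_eq_iff_mem_normalizer] at h
    exact hgr ((Subgroup.mem_normalizer_iff.mp h r).mp hr)
  · rw [mem_smul_sylow]
    have : g⁻¹ * x * g = x := by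
      rw [mul_assoc, ← hg, ← mul_assoc, inv_mul_cancel, one_mul]
    rw [this]; exact hx

omit [Fact p.Prime] in
lemma isPGroup_zpowers {x : G} (hx : ∃ k : ℕ, orderOf x = p ^ k) : IsPGroup p (Subgroup.zpowers x) := by
  obtain ⟨k, hk⟩ := hx
  exact IsPGroup.of_card (n := k) (by rw [Nat.card_zpowers, hk])

lemma ap' (Q : Sylow p G) (x y : G) (hx : ∃ k : ℕ, orderOf x = p ^ k) (hy : ∃ k : ℕ, orderOf y = p ^ k)
    (hxy : x * y = y * x) (hyQ : y ∉ Q) : ∃ P : Sylow p G, P ≠ Q ∧ x ∈ P := by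
  have hle : Subgroup.zpowers x ≤ Subgroup.normalizer (Subgroup.zpowers y : Set G) := by
    refine le_trans ?_ (Subgroup.centralizer_le_normalizer _)
    rw [Subgroup.zpowers_le, Subgroup.mem_centralizer_iff]
    intro z hz
    obtain ⟨n, rfl⟩ := Subgroup.mem_zpowers_iff.mp hz
    exact ((show Commute x y from hxy).zpow_right n).eq.symm
  obtain ⟨P, hP⟩ := (IsPGroup.to_sup_of_normal_right' (isPGroup_zpowers hx) (isPGroup_zpowers hy) hle).exists_le_sylow
  refine ⟨P, ?_, hP (Subgroup.mem_sup_left (Subgroup.mem_zpowers x))⟩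
  intro h
  apply hyQ
  rw [← h]
  exact hP (Subgroup.mem_sup_right (Subgroup.mem_zpowers y))

lemma multi_conj (P₁ P₂ : Sylow p G) (hne : P₁ ≠ P₂) (s w x : G) (h1 : s ∈ P₁) (h2 : s ∈ P₂)
    (hx : x = w⁻¹ * s * w) (Q : Sylow p G) : ∃ P : Sylow p G, P ≠ Q ∧ x ∈ P := by
  have key : ∀ P : Sylow p G, s ∈ P → x ∈ w⁻¹ • P := by
    intro P hs
    rw [mem_smul_sylow, hx]
    have : w⁻¹⁻¹ * (w⁻¹ * s * w) * w⁻¹ = s := by group
    rw [this]; exact hs
  by_cases h : w⁻¹ • P₁ = Q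
  · refine ⟨w⁻¹ • P₂, ?_, key P₂ h2⟩
    intro h'
    apply hne
    have := h.trans h'.symm
    exact smul_left_cancel _ this
  · exact ⟨_, h, key P₁ h1⟩

end abs

variable {F : Type*} [Field F] {p : ℕ} [Fact p.Prime]

/-- transvection -/
def tau (i j : ZMod p) (hij : i ≠ j) : GL (ZMod p) F :=
  ⟨1 + single i j 1, 1 - single i j 1,
    by
      have hEE : (single i j (1 : F)) * single i j (1 : F) = 0 :=
        single_mul_single_of_ne (1 : F) i j i (Ne.symm hij) 1
      rw [mul_sub, mul_one, add_mul, one_mul, hEE, add_zero, add_sub_cancel_right],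
    by
      have hEE : (single i j (1 : F)) * single i j (1 : F) = 0 :=
        single_mul_single_of_ne (1 : F) i j i (Ne.symm hij) 1
      rw [mul_add, mul_one, sub_mul, one_mul, hEE, sub_zero, sub_add_cancel]⟩

lemma tau_val (i j : ZMod p) (hij : i ≠ j) :
    ((tau i j hij : GL (ZMod p) F) : Matrix (ZMod p) (ZMod p) F) = 1 + single i j 1 := rfl

lemma t1 (A : Subgroup Fˣ) (Q : Sylow p (GL (ZMod p) F)) (hQ : (Q : Subgroup (GL (ZMod p) F)) = QA A)
    (ζ : Fˣ) (hζA : ζ ∈ A) (hζ1 : ζ ≠ 1)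
    (a : ZMod p → Fˣ) (ha : ∀ i, a i ∈ A) (i j : ZMod p) (hij : i ≠ j) (haij : a i = a j) :
    ∃ P : Sylow p (GL (ZMod p) F), P ≠ Q ∧ Mu a 0 ∈ P := by
  have memQ : ∀ g, g ∈ Q ↔ g ∈ QA (p := p) A := fun g => by rw [← hQ]; rfl
  set ρ : ZMod p → Fˣ := Function.update (fun _ => (1 : Fˣ)) i ζ with hρ
  have hρi : ρ i = ζ := by rw [hρ, Function.update_self]
  have hρj : ρ j = 1 := by rw [hρ, Function.update_of_ne (Ne.symm hij)]
  refine ap Q (Mu a 0) (tau i j hij) (Mu ρ 0) ((memQ _).mpr ⟨a, 0, ha, rfl⟩) ?_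
    ((memQ _).mpr ⟨ρ, 0, ?_, rfl⟩) ?_
  · apply Units.ext
    rw [Units.val_mul, Units.val_mul, tau_val, Mu_val, add_mul, mul_add, one_mul, mul_one]
    congr 1
    ext u v
    by_cases hu : u = i
    · subst hu
      rw [single_mul_apply_same, one_mul, M_apply, add_zero]
      by_cases hv : v = j
      · subst hv
        rw [mul_single_apply_same, mul_one, if_pos rfl, M_apply, add_zero, if_pos rfl, haij]
      · rw [mul_single_apply_of_ne _ _ _ _ _ hv, if_neg hv]
    · rw [single_mul_apply_of_ne _ _ _ _ _ hu]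
      by_cases hv : v = j
      · subst hv
        rw [mul_single_apply_same, mul_one, M_apply, add_zero, if_neg (fun h => hu h.symm)]
      · rw [mul_single_apply_of_ne _ _ _ _ _ hv]
  · intro l
    by_cases hl : l = i
    · rw [hl, hρi]; exact hζA
    · rw [hρ, Function.update_of_ne hl]; exact A.one_mem
  · intro h
    rw [memQ] at h
    obtain ⟨b, m, hb, hbm⟩ := h
    have h1 : tau i j hij * Mu ρ 0 = Mu b m * tau i j hij := by
      rw [← hbm]; group
    have h2 := congrArg (fun g : GL (ZMod p) F => (g : Matrix (ZMod p) (ZMod p) F)) h1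
    simp only [Units.val_mul, tau_val, Mu_val, add_mul, mul_add, one_mul, mul_one] at h2
    have hii := congrFun (congrFun h2 i) i
    have hijE := congrFun (congrFun h2 i) j
    rw [Matrix.add_apply, Matrix.add_apply, single_mul_apply_same, one_mul, M_apply, M_apply,
      mul_single_apply_of_ne _ _ _ _ _ hij, add_zero, add_zero, add_zero, if_pos rfl,
      if_neg hij, add_zero, M_apply] at hii
    have hm : m = 0 := by
      by_contra hm
      rw [if_neg (fun h => hm (by simpa using h.symm))] at hii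
      exact (ρ i).ne_zero hii
    subst hm
    rw [add_zero, if_pos rfl] at hii
    rw [Matrix.add_apply, Matrix.add_apply, single_mul_apply_same, one_mul, M_apply, M_apply,
      mul_single_apply_same, mul_one, add_zero, add_zero, if_neg (Ne.symm hij), zero_add, if_pos rfl,
      M_apply, M_apply, add_zero, if_neg (Ne.symm hij), zero_add] at hijE
    rw [if_pos rfl, ← hii, hρi, hρj] at hijE
    exact hζ1 (Units.ext hijE.symm)



/-! ### case `k ≠ 0`, product one -/

/-- The sum `S = ∑_{j<p} X^j`. -/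
def Ssum (a : ZMod p → F) (k : ZMod p) : Matrix (ZMod p) (ZMod p) F :=
  ∑ j ∈ Finset.range p, M a k ^ j

lemma Ssum_apply_ne_zero (a : ZMod p → F) (ha : ∀ i, a i ≠ 0) (k : ZMod p) (hk : k ≠ 0) (i l : ZMod p) :
    Ssum a k i l ≠ 0 := by
  have hp : p ≠ 0 := (Fact.out : p.Prime).ne_zero
  have : NeZero p := ⟨hp⟩
  set j₀ : ℕ := ((l - i) / k).val with hj₀
  have hj₀lt : j₀ < p := ZMod.val_lt _
  have hj₀c : (j₀ : ZMod p) = (l - i) / k := ZMod.natCast_zmod_val _
  unfold Ssum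
  rw [Matrix.sum_apply, Finset.sum_eq_single j₀]
  · rw [M_pow, M_apply, if_pos]
    · exact Finset.prod_ne_zero_iff.mpr (fun m _ => ha _)
    · rw [hj₀c, div_mul_cancel₀ _ hk]; ring
  · intro j hj hne
    rw [M_pow, M_apply, if_neg]
    intro h
    apply hne
    have h1 : (j : ZMod p) = (l - i) / k := by
      rw [h, add_sub_cancel_left, mul_div_cancel_right₀ _ hk]
    have h2 : (j : ZMod p) = (j₀ : ZMod p) := by rw [h1, hj₀c]
    have := congrArg ZMod.val h2
    rwa [ZMod.val_natCast_of_lt (Finset.mem_range.mp hj), ZMod.val_natCast_of_lt hj₀lt] at this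
  · intro h; exact absurd (Finset.mem_range.mpr hj₀lt) h

lemma X_mul_Ssum (a : ZMod p → F) (k : ZMod p) (hX : M a k ^ p = 1) :
    M a k * Ssum a k = Ssum a k := by
  unfold Ssum
  rw [Finset.mul_sum]
  simp_rw [← pow_succ']
  have h1 := Finset.sum_range_succ' (fun j => M a k ^ j) p
  have h2 := Finset.sum_range_succ (fun j => M a k ^ j) p
  rw [h2] at h1
  simp only [pow_zero, hX] at h1
  exact (add_right_cancel h1).symm

lemma pow_mul_Ssum (a : ZMod p → F) (k : ZMod p) (hX : M a k ^ p = 1) (j : ℕ) :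
    M a k ^ j * Ssum a k = Ssum a k := by
  induction j with
  | zero => rw [pow_zero, one_mul]
  | succ j ih => rw [pow_succ, mul_assoc, X_mul_Ssum a k hX, ih]

lemma Ssum_sq (a : ZMod p → F) (k : ZMod p) (hX : M a k ^ p = 1) :
    Ssum a k * Ssum a k = (p : F) • Ssum a k := by
  have : Ssum a k * Ssum a k = ∑ j ∈ Finset.range p, M a k ^ j * Ssum a k := by
    rw [← Finset.sum_mul]; rfl
  rw [this]
  simp_rw [pow_mul_Ssum a k hX]
  rw [Finset.sum_const, Finset.card_range, Nat.cast_smul_eq_nsmul]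

lemma commute_Ssum (a : ZMod p → F) (k : ZMod p) : Commute (M a k) (Ssum a k) := by
  unfold Ssum
  exact Commute.sum_right _ _ _ (fun j _ => Commute.pow_right (Commute.refl _) j)

lemma one_add_pow_of_sq {R : Type*} [Ring R] [Algebra F R] (u : R) (z : F)
    (hu : u * u = (z - 1) • u) (n : ℕ) :
    (1 + u) ^ n = 1 + (∑ m ∈ Finset.range n, z ^ m) • u := by
  induction n with
  | zero => simp
  | succ n ih =>
    rw [pow_succ, ih, Finset.sum_range_succ', mul_add, mul_one, add_mul, one_mul, smul_mul_assoc, hu,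
      smul_smul, pow_zero]
    have : (∑ m ∈ Finset.range n, z ^ (m + 1)) = (∑ m ∈ Finset.range n, z ^ m) * z := by
      rw [Finset.sum_mul]; exact Finset.sum_congr rfl (fun m _ => pow_succ z m)
    rw [this]
    set s := ∑ m ∈ Finset.range n, z ^ m
    rw [add_assoc]
    congr 1
    rw [show (s * z + 1) = s + (1 + s * (z - 1)) from by ring, add_smul, add_smul, one_smul]

lemma geom_zero (ζ : F) (hζp : ζ ^ p = 1) (hζ1 : ζ ≠ 1) : ∑ m ∈ Finset.range p, ζ ^ m = 0 := by
  have h := geom_sum_mul ζ p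
  rw [hζp, sub_self] at h
  rcases mul_eq_zero.mp h with h | h
  · exact h
  · exact absurd (sub_eq_zero.mp h) hζ1

lemma t3a (Q : Sylow p (GL (ZMod p) F)) (A : Subgroup Fˣ)
    (hQ : (Q : Subgroup (GL (ZMod p) F)) = QA A)
    (hp2 : p ≠ 2) (hpF : (p : F) ≠ 0)
    (ζ : Fˣ) (hζp : ζ ^ p = 1) (hζ1 : ζ ≠ 1)
    (a : ZMod p → Fˣ) (k : ZMod p) (hk : k ≠ 0) (hprod : ∏ i, a i = 1)
    (hx : ∃ n : ℕ, orderOf (Mu a k) = p ^ n) :
    ∃ P : Sylow p (GL (ZMod p) F), P ≠ Q ∧ Mu a k ∈ P := by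
  have hpp : p.Prime := Fact.out
  have memQ : ∀ g, g ∈ Q ↔ g ∈ QA (p := p) A := fun g => by rw [← hQ]; rfl
  set X : Matrix (ZMod p) (ZMod p) F := M (fun i => (a i : F)) k with hXdef
  have hX : X ^ p = 1 := by
    rw [hXdef, M_pow_p _ _ hk]
    have : (∏ m : ZMod p, ((a m : Fˣ) : F)) = 1 := by
      rw [← Units.coe_prod, hprod, Units.val_one]
    rw [this, one_smul]
  set S := Ssum (fun i => (a i : F)) k with hS
  have hζF : (ζ : F) ^ p = 1 := by rw [← Units.val_pow_eq_pow_val, hζp, Units.val_one]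
  have hζF1 : (ζ : F) ≠ 1 := fun h => hζ1 (Units.ext h)
  set c : F := ((ζ : F) - 1) / (p : F) with hc
  have hc0 : c ≠ 0 := div_ne_zero (sub_ne_zero.mpr hζF1) hpF
  set u : Matrix (ZMod p) (ZMod p) F := c • S with hu
  have hu2 : u * u = ((ζ : F) - 1) • u := by
    rw [hu, Matrix.smul_mul, Matrix.mul_smul, hS, Ssum_sq _ _ hX, smul_smul, smul_smul, smul_smul]
    congr 1
    rw [hc]; field_simp
  have hyp : (1 + u) ^ p = 1 := by
    rw [one_add_pow_of_sq u (ζ : F) hu2 p, geom_zero (ζ : F) hζF hζF1, zero_smul, add_zero]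
  set y : GL (ZMod p) F := Units.ofPowEqOne (1 + u) p hyp hpp.ne_zero with hy
  have hyval : (y : Matrix (ZMod p) (ZMod p) F) = 1 + u := rfl
  have hyord : ∃ n : ℕ, orderOf y = p ^ n := by
    have hyp' : y ^ p = 1 := Units.pow_ofPowEqOne hyp hpp.ne_zero
    have hdvd := orderOf_dvd_of_pow_eq_one hyp'
    rcases (Nat.dvd_prime hpp).mp hdvd with h | h
    · exact ⟨0, by rw [h, pow_zero]⟩
    · exact ⟨1, by rw [h, pow_one]⟩
  have hcomm : Mu a k * y = y * Mu a k := by
    apply Units.ext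
    rw [Units.val_mul, Units.val_mul, hyval, Mu_val]
    have hc1 : Commute X S := commute_Ssum _ _
    exact ((Commute.one_right _).add_right (hc1.smul_right c)).eq
  refine ap' Q (Mu a k) y hx hyord hcomm ?_
  intro hyQ
  rw [memQ] at hyQ
  obtain ⟨b, m, hb, hbm⟩ := hyQ
  have hmat : (1 + u : Matrix (ZMod p) (ZMod p) F) = M (fun i => (b i : F)) m := by
    rw [← hyval, hbm, Mu_val]
  have h20 : (2 : ZMod p) ≠ 0 := by
    intro h
    have h' : ((2 : ℕ) : ZMod p) = 0 := by exact_mod_cast h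
    rw [ZMod.natCast_eq_zero_iff] at h'
    have := Nat.le_of_dvd (by norm_num) h'
    have := hpp.two_le
    omega
  have hne : ∀ l : ZMod p, l ≠ 0 → l = 0 + m := by
    intro l hl
    by_contra hlm
    have h1 := congrFun (congrFun hmat 0) l
    rw [M_apply, if_neg hlm, Matrix.add_apply, Matrix.one_apply, if_neg (Ne.symm hl), zero_add, hu,
      Matrix.smul_apply, smul_eq_mul] at h1
    rcases mul_eq_zero.mp h1 with h | h
    · exact hc0 h
    · exact Ssum_apply_ne_zero _ (fun i => (a i).ne_zero) k hk 0 l h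
  have e1 := hne 1 one_ne_zero
  have e2 := hne 2 h20
  have : (1 : ZMod p) = 2 := e1.trans e2.symm
  have h10 : (1 : ZMod p) = 0 := by linear_combination (-1 : ZMod p) * this
  exact one_ne_zero h10

/-! ### case `k ≠ 0`, product not minus one -/

lemma t3b (Q : Sylow p (GL (ZMod p) F)) (A : Subgroup Fˣ)
    (hQ : (Q : Subgroup (GL (ZMod p) F)) = QA A)
    (hp2 : p ≠ 2)
    (ζ : Fˣ) (hζA : ζ ∈ A) (hζ1 : ζ ≠ 1)
    (a : ZMod p → Fˣ) (ha : ∀ i, a i ∈ A) (k : ZMod p) (hk : k ≠ 0)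
    (hc : (∏ i, (a i : F)) ≠ -1) :
    ∃ P : Sylow p (GL (ZMod p) F), P ≠ Q ∧ Mu a k ∈ P := by
  have hpp : p.Prime := Fact.out
  have hodd : Odd p := hpp.odd_of_ne_two hp2
  have memQ : ∀ g, g ∈ Q ↔ g ∈ QA (p := p) A := fun g => by rw [← hQ]; rfl
  set X : Matrix (ZMod p) (ZMod p) F := M (fun i => (a i : F)) k with hXdef
  set c : F := ∏ i, (a i : F) with hcdef
  have hX : X ^ p = c • 1 := by rw [hXdef, M_pow_p _ _ hk]
  have h1c : (1 : F) + c ≠ 0 := by
    intro h; apply hc; linear_combination h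
  have hgh : (1 + X) * ((1 + c)⁻¹ • ∑ j ∈ Finset.range p, (-X) ^ j) = 1 := by
    have h := mul_neg_geom_sum (-X) p
    rw [sub_neg_eq_add, hodd.neg_pow, hX, sub_neg_eq_add] at h
    rw [Matrix.mul_smul, h]
    rw [show (1 : Matrix (ZMod p) (ZMod p) F) + c • 1 = (1 + c) • 1 from by rw [add_smul, one_smul]]
    rw [smul_smul, inv_mul_cancel₀ h1c, one_smul]
  set g : GL (ZMod p) F := ⟨1 + X, (1 + c)⁻¹ • ∑ j ∈ Finset.range p, (-X) ^ j, hgh,
    mul_eq_one_comm.mp hgh⟩ with hg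
  have hgval : (g : Matrix (ZMod p) (ZMod p) F) = 1 + X := rfl
  set ρ : ZMod p → Fˣ := Function.update (fun _ => (1 : Fˣ)) 0 ζ with hρ
  have hρ0 : ρ 0 = ζ := by rw [hρ, Function.update_self]
  have hρk : ρ k = 1 := by rw [hρ, Function.update_of_ne hk]
  have h2k : k ≠ -k := by
    intro h
    have h2 : (2 : ZMod p) * k = 0 := by linear_combination h
    rcases mul_eq_zero.mp h2 with h3 | h3
    · have h' : ((2 : ℕ) : ZMod p) = 0 := by exact_mod_cast h3
      rw [ZMod.natCast_eq_zero_iff] at h'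
      have := Nat.le_of_dvd (by norm_num) h'
      have := hpp.two_le
      omega
    · exact hk h3
  refine ap Q (Mu a k) g (Mu ρ 0) ((memQ _).mpr ⟨a, k, ha, rfl⟩) ?_
    ((memQ _).mpr ⟨ρ, 0, ?_, rfl⟩) ?_
  · apply Units.ext
    rw [Units.val_mul, Units.val_mul, hgval, Mu_val, add_mul, mul_add, one_mul, mul_one]
  · intro l
    by_cases hl : l = 0
    · rw [hl, hρ0]; exact hζA
    · rw [hρ, Function.update_of_ne hl]; exact A.one_mem
  · intro h
    rw [memQ] at h
    obtain ⟨b, m, hb, hbm⟩ := h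
    have h1 : g * Mu ρ 0 = Mu b m * g := by
      rw [← hbm]; group
    have h2 := congrArg (fun g : GL (ZMod p) F => (g : Matrix (ZMod p) (ZMod p) F)) h1
    simp only [Units.val_mul, hgval, Mu_val, add_mul, mul_add, one_mul, mul_one, hXdef, M_mul] at h2
    have h00 := congrFun (congrFun h2 0) 0
    have h0k := congrFun (congrFun h2 0) k
    simp only [Matrix.add_apply, M_apply, zero_add, add_zero, if_true] at h00 h0k
    rw [if_neg (Ne.symm hk)] at h00
    rw [if_neg hk] at h0k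
    have hm : m = 0 := by
      by_contra hm
      rw [if_neg (Ne.symm hm), add_zero, zero_add] at h00
      by_cases hmk : (0 : ZMod p) = m + k
      · have hmk' : m = -k := by linear_combination -hmk
        rw [if_neg (by rw [hmk']; exact h2k), if_neg (by intro h; exact hm (by linear_combination -h)), add_zero,
          zero_add] at h0k
        rw [hρk] at h0k
        simp at h0k
      · rw [if_neg hmk] at h00
        exact (ρ 0).ne_zero h00
    subst hm
    rw [if_pos rfl, zero_add, if_neg (Ne.symm hk), add_zero, add_zero] at h00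
    rw [if_neg hk, zero_add, zero_add, if_pos (zero_add k).symm, hρk, ← h00, hρ0] at h0k
    apply hζ1
    apply Units.ext
    have ha0 : ((a 0 : Fˣ) : F) ≠ 0 := (a 0).ne_zero
    rw [Units.val_one, mul_one] at h0k
    have : ((a 0 : Fˣ) : F) * ((ζ : F) - 1) = 0 := by linear_combination (-1 : F) * h0k
    rcases mul_eq_zero.mp this with h | h
    · exact absurd h ha0
    · rw [Units.val_one]; exact sub_eq_zero.mp h

/-! ### diagonal with distinct entries -/

section T2
variable {F : Type*} [Field F]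

/-- eigenvector matrix of the cyclic shift -/
def Wmat {p : ℕ} (a : ZMod p → F) : Matrix (ZMod p) (ZMod p) F :=
  Matrix.of fun k i => a i ^ k.val

lemma Wmat_det_ne_zero {p : ℕ} [Fact p.Prime] (a : ZMod p → F) (ha : Function.Injective a) :
    (Wmat a).det ≠ 0 := by
  obtain ⟨n, rfl⟩ : ∃ n, p = n + 1 := ⟨p - 1, by have := (Fact.out : p.Prime).pos; omega⟩
  have h2 : ((Matrix.vandermonde (fun i : Fin (n + 1) => a i))ᵀ).det ≠ 0 := by
    rw [Matrix.det_transpose]; exact Matrix.det_vandermonde_ne_zero_iff.mpr ha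
  exact h2

lemma t2 {p : ℕ} [Fact p.Prime] (Q₀ P₀ : Sylow p (GL (ZMod p) F)) (hne : Q₀ ≠ P₀)
    (hσ1 : Mu (fun _ => (1 : Fˣ)) (1 : ZMod p) ∈ Q₀) (hσ2 : Mu (fun _ => (1 : Fˣ)) (1 : ZMod p) ∈ P₀)
    (a : ZMod p → Fˣ) (hap : ∀ i, a i ^ p = 1) (hinj : Function.Injective a)
    (Q : Sylow p (GL (ZMod p) F)) :
    ∃ P : Sylow p (GL (ZMod p) F), P ≠ Q ∧ Mu a 0 ∈ P := by
  have hpp : p.Prime := Fact.out
  have : NeZero p := ⟨hpp.ne_zero⟩
  have : Fact (1 < p) := ⟨hpp.one_lt⟩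
  set W := Wmat (fun i => (a i : F)) with hW
  have hdet : W.det ≠ 0 := Wmat_det_ne_zero _ (fun i j h => hinj (Units.ext h))
  set w : GL (ZMod p) F := Matrix.GeneralLinearGroup.mkOfDetNeZero W hdet with hw
  have hwval : (w : Matrix (ZMod p) (ZMod p) F) = W := rfl
  refine multi_conj Q₀ P₀ hne (Mu (fun _ => (1 : Fˣ)) (1 : ZMod p)) w (Mu a 0) hσ1 hσ2 ?_ Q
  rw [mul_assoc, eq_inv_mul_iff_mul_eq]
  apply Units.ext
  rw [Units.val_mul, Units.val_mul, hwval, Mu_val, Mu_val]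
  ext k i
  rw [Matrix.mul_apply, Matrix.mul_apply, Finset.sum_eq_single i, Finset.sum_eq_single (k + 1)]
  · rw [M_apply, add_zero, if_pos rfl, M_apply, if_pos rfl, Units.val_one, one_mul, hW]
    show (a i : F) ^ k.val * (a i : F) = (a i : F) ^ (k + 1).val
    rw [ZMod.val_add, ZMod.val_one, ← pow_succ]
    have : ((a i : Fˣ) : F) ^ p = 1 := by rw [← Units.val_pow_eq_pow_val, hap, Units.val_one]
    exact pow_eq_pow_mod _ this
  · intro j _ hj
    rw [M_apply, if_neg hj, zero_mul]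
  · intro h; exact absurd (Finset.mem_univ _) h
  · intro j _ hj
    rw [M_apply, add_zero, if_neg (Ne.symm hj), mul_zero]
  · intro h; exact absurd (Finset.mem_univ _) h

end T2

/-! ### order of GL -/

lemma val_card_GL (p q : ℕ) [hp : Fact p.Prime] (hodd : p ≠ 2) (h1 : p ∣ q - 1) (h2 : ¬ p ^ 2 ∣ q - 1) :
    (∏ i : Fin p, (q ^ p - q ^ (i : ℕ))).factorization p = p + 1 := by
  have hpp : p.Prime := hp.out
  have hpo : Odd p := hpp.odd_of_ne_two hodd
  have hq1 : q - 1 ≠ 0 := by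
    intro h; apply h2; rw [h]; exact dvd_zero _
  have hq : 1 < q := by omega
  have hpq : ¬ p ∣ q := by
    intro h
    have : p ∣ q - (q - 1) := Nat.dvd_sub h h1
    have h3 : q - (q - 1) = 1 := by omega
    rw [h3] at this
    exact hpp.one_lt.ne' (Nat.dvd_one.mp this)
  have hv1 : padicValNat p (q - 1) = 1 := by
    have h3 : 1 ≤ padicValNat p (q - 1) := one_le_padicValNat_of_dvd hq1 h1
    have h4 : ¬ 2 ≤ padicValNat p (q - 1) := by
      intro h; apply h2
      exact (padicValNat_dvd_iff_le hq1).mpr h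
    omega
  have hfac : ∀ i : Fin p, q ^ p - q ^ (i : ℕ) = q ^ (i : ℕ) * (q ^ (p - (i : ℕ)) - 1) := by
    intro i
    have hi : (i : ℕ) < p := i.2
    rw [Nat.mul_sub, mul_one, ← pow_add]
    congr 2; omega
  have hne : ∀ i : Fin p, q ^ (p - (i : ℕ)) - 1 ≠ 0 := by
    intro i
    have hi : (i : ℕ) < p := i.2
    have : 1 < q ^ (p - (i : ℕ)) := Nat.one_lt_pow (by omega) hq
    omega
  have hval : ∀ i : Fin p, padicValNat p (q ^ p - q ^ (i : ℕ)) = 1 + padicValNat p (p - (i : ℕ)) := by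
    intro i
    have hi : (i : ℕ) < p := i.2
    have hz : padicValNat p (q ^ (i : ℕ)) = 0 := by
      apply padicValNat.eq_zero_of_not_dvd
      intro h
      exact hpq (hpp.dvd_of_dvd_pow h)
    rw [hfac i, padicValNat.mul (pow_ne_zero _ (by omega)) (hne i), hz, zero_add]
    have := padicValNat.pow_sub_pow (p := p) (x := q) (y := 1) hpo hq (by simpa using h1) hpq
      (n := p - (i : ℕ)) (by omega)
    rw [one_pow] at this
    rw [this, hv1]
  rw [Nat.factorization_prod (fun i _ => by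
    rw [hfac i]; exact mul_ne_zero (pow_ne_zero _ (by omega)) (hne i))]
  rw [Finsupp.finsetSum_apply]
  simp_rw [Nat.factorization_def _ hpp, hval]
  rw [Finset.sum_add_distrib, Finset.sum_const, Finset.card_univ, Fintype.card_fin, smul_eq_mul, mul_one]
  congr 1
  have hp0 : 0 < p := hpp.pos
  rw [Finset.sum_eq_single (⟨0, hp0⟩ : Fin p)]
  · simp
  · intro i _ hi
    have hi' : (i : ℕ) ≠ 0 := fun h => hi (Fin.ext h)
    have hlt : (i : ℕ) < p := i.2
    apply padicValNat.eq_zero_of_not_dvd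
    intro hd
    have := Nat.le_of_dvd (by omega) hd
    omega
  · intro h; exact absurd (Finset.mem_univ _) h

/-! ### assembly -/

lemma ord_of_mem_sylow {G : Type*} [Group G] {p : ℕ} [Fact p.Prime] (Q : Sylow p G) {x : G}
    (hx : x ∈ Q) : ∃ k : ℕ, orderOf x = p ^ k := by
  obtain ⟨k, hk⟩ := IsPGroup.iff_orderOf.mp Q.isPGroup' ⟨x, hx⟩
  exact ⟨k, by rw [← hk, Subgroup.orderOf_mk]⟩

lemma card_GL_zmod {F : Type*} [Field F] [Fintype F] (p : ℕ) [Fact p.Prime] :
    Nat.card (GL (ZMod p) F) = ∏ i : Fin p, (Fintype.card F ^ p - Fintype.card F ^ (i : ℕ)) := by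
  obtain ⟨n, rfl⟩ : ∃ n, p = n + 1 := ⟨p - 1, by have := (Fact.out : p.Prime).pos; omega⟩
  exact Matrix.card_GL_field (𝔽 := F) (n + 1)

theorem main {F : Type*} [Field F] [Fintype F] (p : ℕ) [Fact p.Prime]
    (hp : p ≠ 2) (h1 : p ∣ Fintype.card F - 1) (h2 : ¬ p ^ 2 ∣ Fintype.card F - 1) :
    ∃ Q : Sylow p (GL (ZMod p) F), ∀ x : GL (ZMod p) F,
      (∃ k : ℕ, orderOf x = p ^ k) → ∃ P : Sylow p (GL (ZMod p) F), P ≠ Q ∧ x ∈ P := by
  classical
  have hpp : p.Prime := Fact.out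
  have hcardU : Fintype.card Fˣ = Fintype.card F - 1 := Fintype.card_units F
  obtain ⟨ζ, hζ⟩ := exists_prime_orderOf_dvd_card p (hcardU ▸ h1)
  set A : Subgroup Fˣ := Subgroup.zpowers ζ with hA
  have hAcard : Nat.card A = p := by rw [hA, Nat.card_zpowers, hζ]
  have hζA : ζ ∈ A := Subgroup.mem_zpowers ζ
  have hζ1 : ζ ≠ 1 := by
    intro h; rw [h, orderOf_one] at hζ; exact hpp.one_lt.ne hζ
  have hζp : ζ ^ p = 1 := by rw [← hζ]; exact pow_orderOf_eq_one ζ
  have hAp : ∀ z ∈ A, z ^ p = 1 := by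
    intro z hz
    obtain ⟨n, rfl⟩ := Subgroup.mem_zpowers_iff.mp hz
    rw [← zpow_natCast, ← _root_.zpow_mul, mul_comm, _root_.zpow_mul, zpow_natCast, hζp, _root_.one_zpow]
  have hcardQ : Nat.card (QA (p := p) A) = p ^ (Nat.card (GL (ZMod p) F)).factorization p := by
    rw [card_QA, hAcard, card_GL_zmod, val_card_GL p _ hp h1 h2, pow_succ]
  set Q : Sylow p (GL (ZMod p) F) := Sylow.ofCard (QA A) hcardQ with hQdef
  have hQ : (Q : Subgroup (GL (ZMod p) F)) = QA A := Sylow.coe_ofCard _ _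
  have memQ : ∀ g, g ∈ Q ↔ g ∈ QA (p := p) A := fun g => by rw [← hQ]; rfl
  have hpF : (p : F) ≠ 0 := by
    intro h0
    obtain ⟨m, hm⟩ := h1
    have hq1 : 1 ≤ Fintype.card F := Fintype.card_pos
    have hq : Fintype.card F = p * m + 1 := by omega
    have h3 : ((Fintype.card F : ℕ) : F) = 0 := Nat.cast_card_eq_zero F
    rw [hq] at h3; push_cast at h3; rw [h0, zero_mul, zero_add] at h3
    exact one_ne_zero h3
  have hσQ : Mu (fun _ => (1 : Fˣ)) (1 : ZMod p) ∈ Q :=
    (memQ _).mpr ⟨_, _, fun _ => A.one_mem, rfl⟩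
  obtain ⟨P₀, hP₀ne, hσP₀⟩ := t3a Q A hQ hp hpF ζ hζp hζ1 (fun _ => 1) 1 one_ne_zero (by simp)
    (ord_of_mem_sylow Q hσQ)
  refine ⟨Q, fun x hx => ?_⟩
  by_cases hxQ : x ∈ Q
  swap
  · obtain ⟨P, hP⟩ := (isPGroup_zpowers hx).exists_le_sylow
    exact ⟨P, fun h => hxQ (h ▸ hP (Subgroup.mem_zpowers x)), hP (Subgroup.mem_zpowers x)⟩
  rw [memQ] at hxQ
  obtain ⟨a, k, ha, rfl⟩ := hxQ
  by_cases hk : k = 0
  · subst hk
    by_cases hinj : Function.Injective a
    · exact t2 Q P₀ hP₀ne.symm hσQ hσP₀ a (fun i => hAp _ (ha i)) hinj Q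
    · rw [Function.Injective] at hinj
      push Not at hinj
      obtain ⟨i, j, hij, hne⟩ := hinj
      exact t1 A Q hQ ζ hζA hζ1 a ha i j hne hij
  · by_cases hc : ∏ i, a i = 1
    · exact t3a Q A hQ hp hpF ζ hζp hζ1 a k hk hc hx
    · refine t3b Q A hQ hp ζ hζA hζ1 a ha k hk ?_
      intro h
      have hcA : ∏ i, a i ∈ A := Subgroup.prod_mem _ (fun i _ => ha i)
      have hcp := hAp _ hcA
      have h4 : ((∏ i, a i : Fˣ) : F) = -1 := by rw [Units.coe_prod]; exact h
      have h3 : ((∏ i, a i : Fˣ) : F) ^ p = 1 := by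
        rw [← Units.val_pow_eq_pow_val, hcp, Units.val_one]
      rw [h4, (hpp.odd_of_ne_two hp).neg_one_pow] at h3
      apply hc; apply Units.ext; rw [h4, Units.val_one]; exact h3

end Cfsg.Agent.Helper63.GLpRedundant
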