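import Cfsg.Agent.Lib.Helper63.GLpMono

/-!
# The Sylow `p`-subgroup `μ_p^p ⋊ ⟨σ⟩` of `GL_p(F)` when `p ∥ q - 1` (helper63)
-/

namespace Cfsg.Agent.Helper63.GLpSylow

open Matrix Cfsg.Agent.Helper63.GLpMono

variable {F : Type*} [Field F] {p : ℕ} [Fact p.Prime]

/-- Monomial element of `GL`. -/
def Mu (a : ZMod p → Fˣ) (k : ZMod p) : GL (ZMod p) F :=
  ⟨M (fun i => (a i : F)) k, M (fun i => (((a (i - k))⁻¹ : Fˣ) : F)) (-k),
    by
      rw [M_mul, ← M_one]
      congr 1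
      · funext i; simp
      · simp,
    by
      rw [M_mul, ← M_one]
      congr 1
      · funext i; simp [← sub_eq_add_neg]
      · simp⟩

@[simp] lemma Mu_val (a : ZMod p → Fˣ) (k : ZMod p) :
    ((Mu a k : GL (ZMod p) F) : Matrix (ZMod p) (ZMod p) F) = M (fun i => (a i : F)) k := rfl

lemma Mu_mul (a b : ZMod p → Fˣ) (k l : ZMod p) :
    Mu a k * Mu b l = Mu (fun i => a i * b (i + k)) (k + l) := by
  apply Units.ext
  rw [Units.val_mul, Mu_val, Mu_val, Mu_val, M_mul]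
  congr 1

lemma Mu_one : Mu (fun _ => (1 : Fˣ)) (0 : ZMod p) = 1 := by
  apply Units.ext
  rw [Mu_val, Units.val_one]
  simpa using (M_one (F := F) (p := p))

lemma Mu_inv (a : ZMod p → Fˣ) (k : ZMod p) :
    (Mu a k)⁻¹ = Mu (fun i => (a (i - k))⁻¹) (-k) := by
  apply inv_eq_of_mul_eq_one_right
  rw [Mu_mul, ← Mu_one]
  congr 1
  · funext i; simp
  · simp

lemma Mu_inj {a b : ZMod p → Fˣ} {k l : ZMod p} (h : Mu a k = Mu b l) : a = b ∧ k = l := by
  have hM : M (fun i => (a i : F)) k = M (fun i => (b i : F)) l := by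
    rw [← Mu_val, ← Mu_val, h]
  have hkl : k = l := by
    have h0 := congrFun (congrFun hM 0) (0 + k)
    rw [M_add_apply_self, M_apply] at h0
    by_contra hne
    rw [if_neg (fun h' => hne (add_left_cancel h'))] at h0
    exact (a 0).ne_zero h0
  refine ⟨?_, hkl⟩
  subst hkl
  funext i
  have hi := congrFun (congrFun hM i) (i + k)
  rw [M_add_apply_self, M_add_apply_self] at hi
  exact Units.ext hi

/-- The group of monomial matrices `Mu a k` with all `a i ∈ A`. -/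
def QA (A : Subgroup Fˣ) : Subgroup (GL (ZMod p) F) where
  carrier := {g | ∃ (a : ZMod p → Fˣ) (k : ZMod p), (∀ i, a i ∈ A) ∧ g = Mu a k}
  mul_mem' := by
    rintro _ _ ⟨a, k, ha, rfl⟩ ⟨b, l, hb, rfl⟩
    exact ⟨_, _, fun i => A.mul_mem (ha i) (hb _), Mu_mul a b k l⟩
  one_mem' := ⟨_, _, fun _ => A.one_mem, Mu_one.symm⟩
  inv_mem' := by
    rintro _ ⟨a, k, ha, rfl⟩
    exact ⟨_, _, fun i => A.inv_mem (ha _), Mu_inv a k⟩

lemma mem_QA {A : Subgroup Fˣ} {g : GL (ZMod p) F} :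
    g ∈ QA (p := p) A ↔ ∃ (a : ZMod p → Fˣ) (k : ZMod p), (∀ i, a i ∈ A) ∧ g = Mu a k := Iff.rfl

lemma card_QA (A : Subgroup Fˣ) [Finite A] : Nat.card (QA (p := p) A) = Nat.card A ^ p * p := by
  have hbij : Function.Bijective
      (fun x : (ZMod p → A) × ZMod p =>
        (⟨Mu (fun i => ((x.1 i : A) : Fˣ)) x.2, ⟨_, _, fun i => (x.1 i).2, rfl⟩⟩ : QA (p := p) A)) := by
    constructor
    · rintro ⟨a, k⟩ ⟨b, l⟩ h
      have h' := Mu_inj (Subtype.ext_iff.mp h)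
      refine Prod.ext ?_ h'.2
      funext i
      exact Subtype.ext (congrFun h'.1 i)
    · rintro ⟨g, a, k, ha, rfl⟩
      exact ⟨(fun i => ⟨a i, ha i⟩, k), rfl⟩
  rw [← Nat.card_eq_of_bijective _ hbij, Nat.card_prod, Nat.card_fun, Nat.card_zmod]

end Cfsg.Agent.Helper63.GLpSylow
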