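import Mathlib
import Cfsg.Agent.Lib.Helper74.M11Defs

/-!
# (P3) `pair_count` of helper74's lemma server "M11" (S0434 / S0435)

`f(y) * n_5 = 1584`: `N(<y>)` acts transitively on the Sylow 11-subgroups normalised by `y`, with point
stabiliser of order 5.
-/

set_option autoImplicit false

namespace Cfsg.Agent.Helper63.M11

open Subgroup Cfsg.Agent.Helper74.M11

/-- In a finite group whose order is not divisible by `p ^ 2`, any element of order `p` is conjugate
into the cyclic group generated by any other element of order `p`. -/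
theorem helper63_conj_mem_zpowers {H : Type*} [Group H] [Finite H] {p : ℕ} [hp : Fact p.Prime]
    (hp2 : ¬ p ^ 2 ∣ Nat.card H) (a b : H) (ha : orderOf a = p) (hb : orderOf b = p) :
    ∃ h : H, h * a * h⁻¹ ∈ zpowers b := by
  have key : ∀ c : H, orderOf c = p → ∃ P : Sylow p H, (P : Subgroup H) = zpowers c := by
    intro c hc
    have hcard : Nat.card (zpowers c) = p := by rw [Nat.card_zpowers, hc]
    have hpg : IsPGroup p (zpowers c) := IsPGroup.of_card (n := 1) (by rw [hcard, pow_one])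
    obtain ⟨P, hP⟩ := hpg.exists_le_sylow
    refine ⟨P, ?_⟩
    obtain ⟨k, hk⟩ := IsPGroup.iff_card.mp P.2
    have hk2 : k < 2 := by
      by_contra hcon
      apply hp2
      have h1 : p ^ 2 ∣ p ^ k := pow_dvd_pow p (by omega)
      have h2 : p ^ k ∣ Nat.card H := by
        rw [← hk]
        exact Subgroup.card_subgroup_dvd_card _
      exact h1.trans h2
    have hk1 : 1 ≤ k := by
      by_contra hcon
      have hk0 : k = 0 := by omega
      rw [hk0, pow_zero] at hk
      have h1 : Nat.card (zpowers c) ∣ Nat.card (P : Subgroup H) := Subgroup.card_dvd_of_le hP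
      rw [hcard, hk] at h1
      exact hp.out.one_lt.ne' (Nat.dvd_one.mp h1)
    have hk' : k = 1 := by omega
    rw [hk', pow_one] at hk
    exact (Subgroup.eq_of_le_of_card_ge hP (by rw [hk, hcard])).symm
  obtain ⟨Pa, hPa⟩ := key a ha
  obtain ⟨Pb, hPb⟩ := key b hb
  obtain ⟨h, hh⟩ := MulAction.exists_smul_eq H Pa Pb
  refine ⟨h, ?_⟩
  rw [← hPb, ← hh, Sylow.smul_def, Sylow.pointwise_smul_def]
  have h1 : a ∈ (Pa : Subgroup H) := by
    rw [hPa]
    exact mem_zpowers a
  have h2 := Subgroup.smul_mem_pointwise_smul a (MulAut.conj h) (Pa : Subgroup H) h1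
  rwa [MulAut.smul_def, MulAut.conj_apply] at h2

/-- conjugating a generator of a finite cyclic group into the group puts the conjugator in the
normaliser -/
theorem helper63_mem_normalizer_of_conj_mem {G : Type*} [Group G] [Finite G] (y k : G)
    (h : k * y * k⁻¹ ∈ zpowers y) : k ∈ normalizer ((zpowers y : Subgroup G) : Set G) := by
  have hmap : (zpowers y).map (MulAut.conj k).toMonoidHom = zpowers y := by
    apply Subgroup.eq_of_le_of_card_ge
    · rw [MonoidHom.map_zpowers, Subgroup.zpowers_le]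
      exact h
    · rw [Subgroup.card_map_of_injective (MulAut.conj k).injective]
  rw [Subgroup.mem_normalizer_iff]
  intro g
  constructor
  · intro hg
    rw [← hmap]
    exact ⟨g, hg, rfl⟩
  · intro hg
    rw [← hmap] at hg
    obtain ⟨g', hg', hgg⟩ := hg
    have : g' = g := (MulAut.conj k).injective hgg
    rwa [← this]

variable {G : Type*} [Group G] [Finite G]

theorem helper63_factorization_11 : (7920 : ℕ).factorization 11 = 1 := by
  have h : (7920 : ℕ) = 11 * 720 := by norm_num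
  rw [h, Nat.factorization_mul (by norm_num) (by norm_num), Finsupp.add_apply,
    Nat.Prime.factorization_self (by norm_num),
    Nat.factorization_eq_zero_of_not_dvd (by norm_num)]

/-- a Sylow 11-subgroup is generated by an element of order 11 -/
theorem helper63_sylow11_gen (hc : Nat.card G = 7920) (Q : Sylow 11 G) :
    ∃ x : G, orderOf x = 11 ∧ zpowers x = (Q : Subgroup G) := by
  have : Fact (Nat.Prime 11) := ⟨by norm_num⟩
  have hQ : Nat.card (Q : Subgroup G) = 11 := by
    rw [Sylow.card_eq_multiplicity, hc, helper63_factorization_11, pow_one]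
  have hnt : (Q : Subgroup G) ≠ ⊥ := by
    intro h
    rw [h, Subgroup.card_bot] at hQ
    omega
  obtain ⟨⟨x, hxQ⟩, hx1⟩ := (Subgroup.ne_bot_iff_exists_ne_one).mp hnt
  have hx1' : x ≠ 1 := by
    intro h
    apply hx1
    exact Subtype.ext h
  have hle : zpowers x ≤ (Q : Subgroup G) := by
    rw [Subgroup.zpowers_le]
    exact hxQ
  have hdvd : orderOf x ∣ 11 := by
    rw [← Nat.card_zpowers, ← hQ]
    exact Subgroup.card_dvd_of_le hle
  have hox : orderOf x = 11 := by
    rcases (Nat.dvd_prime (by norm_num : Nat.Prime 11)).mp hdvd with h | h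
    · exact absurd (orderOf_eq_one_iff.mp h) hx1'
    · exact h
  exact ⟨x, hox, Subgroup.eq_of_le_of_card_ge hle (by rw [hQ, Nat.card_zpowers, hox])⟩

theorem pair_count (hc : Nat.card G = 7920)
    (h11 : ∀ x : G, orderOf x = 11 → Nat.card (Cen x) = 11)
    (h11n : ∀ x : G, orderOf x = 11 → Nat.card (Nor x) = 55)
    (y : G) (hy : orderOf y = 5) :
    Nat.card {Q : Sylow 11 G // y ∈ NorS (Q : Subgroup G)} * (Nor y).index = 1584 := by
  classical
  have : Fact (Nat.Prime 11) := ⟨by norm_num⟩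
  have : Fact (Nat.Prime 5) := ⟨by norm_num⟩
  have hG25 : ¬ 5 ^ 2 ∣ Nat.card G := by rw [hc]; norm_num
  -- normalisers of Sylow 11-subgroups have order 55
  have hN55 : ∀ Q : Sylow 11 G, Nat.card (NorS (Q : Subgroup G)) = 55 := by
    intro Q
    obtain ⟨x, hx, hxQ⟩ := helper63_sylow11_gen hc Q
    have := h11n x hx
    rwa [show Nor x = NorS (Q : Subgroup G) by
      show normalizer ((zpowers x : Subgroup G) : Set G) = _
      rw [hxQ]] at this
  -- `y` normalises some Sylow 11-subgroup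
  obtain ⟨Q0, hQ0⟩ : ∃ Q0 : Sylow 11 G, y ∈ NorS (Q0 : Subgroup G) := by
    obtain ⟨Q1⟩ : Nonempty (Sylow 11 G) := inferInstance
    have h5 : 5 ∣ Nat.card (NorS (Q1 : Subgroup G)) := by rw [hN55 Q1]; norm_num
    obtain ⟨z, hz⟩ := exists_prime_orderOf_dvd_card' 5 h5
    have hz' : orderOf (z : G) = 5 := by rw [Subgroup.orderOf_coe, hz]
    obtain ⟨g, hg⟩ := helper63_conj_mem_zpowers hG25 y (z : G) hy hz'
    -- `g y g⁻¹ ∈ ⟨z⟩ ≤ N(Q1)`, so `y ∈ N(g⁻¹ • Q1)`
    refine ⟨g⁻¹ • Q1, ?_⟩
    have h1 : g * y * g⁻¹ ∈ NorS (Q1 : Subgroup G) := by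
      have hle : zpowers (z : G) ≤ NorS (Q1 : Subgroup G) := by
        rw [Subgroup.zpowers_le]
        exact z.2
      exact hle hg
    have h2 : (g * y * g⁻¹) • Q1 = Q1 := Sylow.smul_eq_iff_mem_normalizer.mpr h1
    apply Sylow.smul_eq_iff_mem_normalizer.mp
    calc y • (g⁻¹ • Q1) = g⁻¹ • ((g * y * g⁻¹) • Q1) := by
          rw [smul_smul, smul_smul]
          congr 1
          group
      _ = g⁻¹ • Q1 := by rw [h2]
  set M : Subgroup G := Nor y with hM
  have hyM : y ∈ M := Subgroup.le_normalizer (mem_zpowers y)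
  -- the set of Sylow 11-subgroups normalised by `y` is an orbit of `M`
  have hset : {Q : Sylow 11 G | y ∈ NorS (Q : Subgroup G)} = MulAction.orbit M Q0 := by
    ext Q
    constructor
    · intro hQ
      have hQ' : y ∈ NorS (Q : Subgroup G) := hQ
      obtain ⟨g, hg⟩ := MulAction.exists_smul_eq G Q0 Q
      -- `g⁻¹ y g ∈ N(Q0)`
      have h1 : (g⁻¹ * y * g) • Q0 = Q0 := by
        have h2 : y • Q = Q := Sylow.smul_eq_iff_mem_normalizer.mpr hQ'
        rw [← hg] at h2
        calc (g⁻¹ * y * g) • Q0 = g⁻¹ • (y • (g • Q0)) := by rw [smul_smul, smul_smul]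
          _ = g⁻¹ • (g • Q0) := by rw [h2]
          _ = Q0 := inv_smul_smul g Q0
      have h1' : g⁻¹ * y * g ∈ NorS (Q0 : Subgroup G) := Sylow.smul_eq_iff_mem_normalizer.mp h1
      set N0 : Subgroup G := NorS (Q0 : Subgroup G) with hN0
      have hN25 : ¬ 5 ^ 2 ∣ Nat.card N0 := by rw [hN55 Q0]; norm_num
      have ha : orderOf (⟨g⁻¹ * y * g, h1'⟩ : N0) = 5 := by
        rw [← Subgroup.orderOf_coe]
        show orderOf (g⁻¹ * y * g) = 5
        have hsc : SemiconjBy g⁻¹ y (g⁻¹ * y * g) := by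
          unfold SemiconjBy
          group
        rw [← hsc.orderOf_eq, hy]
      have hb : orderOf (⟨y, hQ0⟩ : N0) = 5 := by
        rw [← Subgroup.orderOf_coe]
        exact hy
      obtain ⟨n, hn⟩ := helper63_conj_mem_zpowers hN25 (⟨g⁻¹ * y * g, h1'⟩ : N0) ⟨y, hQ0⟩ ha hb
      -- in `G`
      have hn' : (n : G) * (g⁻¹ * y * g) * (n : G)⁻¹ ∈ zpowers y := by
        obtain ⟨k, hk⟩ := Subgroup.mem_zpowers_iff.mp hn
        rw [Subgroup.mem_zpowers_iff]
        refine ⟨k, ?_⟩
        have := congrArg (Subtype.val : N0 → G) hk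
        simpa using this
      -- `m = g n⁻¹`
      have hm : (g * (n : G)⁻¹)⁻¹ ∈ M := by
        apply helper63_mem_normalizer_of_conj_mem
        have : (g * (n : G)⁻¹)⁻¹ * y * (g * (n : G)⁻¹)⁻¹⁻¹ =
            (n : G) * (g⁻¹ * y * g) * (n : G)⁻¹ := by group
        rw [this]
        exact hn'
      have hm' : g * (n : G)⁻¹ ∈ M := by
        have := M.inv_mem hm
        rwa [inv_inv] at this
      refine ⟨⟨g * (n : G)⁻¹, hm'⟩, ?_⟩
      show (g * (n : G)⁻¹) • Q0 = Q
      have hnQ : (n : G)⁻¹ • Q0 = Q0 :=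
        Sylow.smul_eq_iff_mem_normalizer.mpr (N0.inv_mem n.2)
      rw [mul_smul, hnQ, hg]
    · rintro ⟨m, rfl⟩
      show y ∈ NorS ((m • Q0 : Sylow 11 G) : Subgroup G)
      apply Sylow.smul_eq_iff_mem_normalizer.mp
      show y • ((m : G) • Q0) = (m : G) • Q0
      -- `m⁻¹ y m ∈ ⟨y⟩ ≤ N(Q0)`
      have h1 : (m : G)⁻¹ * y * (m : G)⁻¹⁻¹ ∈ zpowers y :=
        (Subgroup.mem_normalizer_iff.mp (M.inv_mem m.2) y).mp (mem_zpowers y)
      have hle : zpowers y ≤ NorS (Q0 : Subgroup G) := by
        rw [Subgroup.zpowers_le]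
        exact hQ0
      have h2 : ((m : G)⁻¹ * y * (m : G)⁻¹⁻¹) • Q0 = Q0 :=
        Sylow.smul_eq_iff_mem_normalizer.mpr (hle h1)
      rw [inv_inv] at h2
      calc y • ((m : G) • Q0) = (m : G) • (((m : G)⁻¹ * y * (m : G)) • Q0) := by
            rw [smul_smul, smul_smul]
            congr 1
            group
        _ = (m : G) • Q0 := by rw [h2]
  -- the stabiliser of `Q0` in `M` has order 5
  set T : Subgroup M := MulAction.stabilizer M Q0 with hT
  have hTmem : ∀ m : M, m ∈ T ↔ (m : G) ∈ NorS (Q0 : Subgroup G) := by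
    intro m
    rw [hT, MulAction.mem_stabilizer_iff]
    exact Sylow.smul_eq_iff_mem_normalizer
  have hT5 : 5 ∣ Nat.card T := by
    have hyT : (⟨y, hyM⟩ : M) ∈ T := (hTmem _).mpr hQ0
    have h1 : orderOf (⟨⟨y, hyM⟩, hyT⟩ : T) = 5 := by
      rw [← Subgroup.orderOf_coe, ← Subgroup.orderOf_coe]
      exact hy
    rw [← h1]
    exact orderOf_dvd_natCard _
  let f : T →* NorS (Q0 : Subgroup G) :=
    { toFun := fun t => ⟨((t : M) : G), (hTmem _).mp t.2⟩
      map_one' := rfl
      map_mul' := fun _ _ => rfl }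
  have hfinj : Function.Injective f := by
    intro t₁ t₂ h
    apply Subtype.ext
    apply Subtype.ext
    exact congrArg (fun w : NorS (Q0 : Subgroup G) => (w : G)) h
  have hT55 : Nat.card T ∣ 55 := by
    rw [← hN55 Q0]
    exact Subgroup.card_dvd_of_injective f hfinj
  have hTne : Nat.card T ≠ 55 := by
    intro h55
    -- then `N(Q0) ≤ M`
    have hbij : Function.Bijective f := by
      rw [Nat.bijective_iff_injective_and_card]
      exact ⟨hfinj, by rw [h55, hN55 Q0]⟩
    have hle : NorS (Q0 : Subgroup G) ≤ M := by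
      intro w hw
      obtain ⟨t, ht⟩ := hbij.2 ⟨w, hw⟩
      have : ((t : M) : G) = w := congrArg (fun w : NorS (Q0 : Subgroup G) => (w : G)) ht
      rw [← this]
      exact (t : M).2
    obtain ⟨x, hx, hxQ⟩ := helper63_sylow11_gen hc Q0
    have hxN : x ∈ NorS (Q0 : Subgroup G) := by
      apply Subgroup.le_normalizer
      rw [← hxQ]
      exact mem_zpowers x
    -- the commutator `x y x⁻¹ y⁻¹` lies in `⟨y⟩ ⊓ Q0`
    have hc1 : x * y * x⁻¹ * y⁻¹ ∈ zpowers y := by
      have h1 : x * y * x⁻¹ ∈ zpowers y :=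
        (Subgroup.mem_normalizer_iff.mp (hle hxN) y).mp (mem_zpowers y)
      exact (zpowers y).mul_mem h1 ((zpowers y).inv_mem (mem_zpowers y))
    have hc2 : x * y * x⁻¹ * y⁻¹ ∈ (Q0 : Subgroup G) := by
      have hxQ0 : x ∈ (Q0 : Subgroup G) := by rw [← hxQ]; exact mem_zpowers x
      have h1 : y * x⁻¹ * y⁻¹ ∈ (Q0 : Subgroup G) :=
        (Subgroup.mem_normalizer_iff.mp hQ0 x⁻¹).mp ((Q0 : Subgroup G).inv_mem hxQ0)
      have : x * y * x⁻¹ * y⁻¹ = x * (y * x⁻¹ * y⁻¹) := by group
      rw [this]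
      exact (Q0 : Subgroup G).mul_mem hxQ0 h1
    have hc3 : x * y * x⁻¹ * y⁻¹ = 1 := by
      have h1 : orderOf (x * y * x⁻¹ * y⁻¹) ∣ 5 := by
        rw [← hy, ← Nat.card_zpowers y]
        have hle' : zpowers (x * y * x⁻¹ * y⁻¹) ≤ zpowers y := by
          rw [Subgroup.zpowers_le]; exact hc1
        rw [← Nat.card_zpowers]
        exact Subgroup.card_dvd_of_le hle'
      have h2 : orderOf (x * y * x⁻¹ * y⁻¹) ∣ 11 := by
        rw [← hx, ← Nat.card_zpowers x, hxQ]
        have hle' : zpowers (x * y * x⁻¹ * y⁻¹) ≤ (Q0 : Subgroup G) := by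
          rw [Subgroup.zpowers_le]; exact hc2
        rw [← Nat.card_zpowers]
        exact Subgroup.card_dvd_of_le hle'
      have h3 : orderOf (x * y * x⁻¹ * y⁻¹) ∣ Nat.gcd 5 11 := Nat.dvd_gcd h1 h2
      have h4 : Nat.gcd 5 11 = 1 := by norm_num
      rw [h4, Nat.dvd_one] at h3
      exact orderOf_eq_one_iff.mp h3
    -- so `y ∈ C(x)`, of order 11
    have hyC : y ∈ Cen x := by
      show y ∈ centralizer ({x} : Set G)
      rw [Subgroup.mem_centralizer_iff]
      intro w hw
      rw [Set.mem_singleton_iff] at hw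
      subst hw
      -- goal `w * y = y * w`
      have : w * y = (w * y * w⁻¹ * y⁻¹) * (y * w) := by group
      rw [this, hc3, one_mul]
    have h5 : 5 ∣ Nat.card (Cen x) := by
      rw [← hy]
      have := orderOf_dvd_natCard (⟨y, hyC⟩ : Cen x)
      rwa [← Subgroup.orderOf_coe] at this
    rw [h11 x hx] at h5
    omega
  have hT : Nat.card T = 5 := by
    obtain ⟨k, hk⟩ := hT5
    rw [hk] at hT55 hTne ⊢
    have hk11 : k ∣ 11 := by
      have : 5 * k ∣ 5 * 11 := hT55
      exact Nat.dvd_of_mul_dvd_mul_left (by norm_num) this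
    rcases (Nat.dvd_prime (by norm_num : Nat.Prime 11)).mp hk11 with h | h
    · rw [h]
    · rw [h] at hTne
      exact absurd rfl hTne
  -- count
  have horb : Nat.card (MulAction.orbit M Q0) * 5 = Nat.card M := by
    have h1 := Subgroup.card_eq_card_quotient_mul_card_subgroup T
    rw [hT] at h1
    rw [h1]
    congr 1
    exact Nat.card_congr (MulAction.orbitEquivQuotientStabilizer M Q0)
  have hidx : M.index * Nat.card M = 7920 := by rw [Subgroup.index_mul_card, hc]
  show Nat.card ↥{Q : Sylow 11 G | y ∈ NorS (Q : Subgroup G)} * M.index = 1584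
  rw [hset]
  have h5 : (Nat.card (MulAction.orbit M Q0) * M.index) * 5 = 1584 * 5 := by
    calc (Nat.card (MulAction.orbit M Q0) * M.index) * 5
        = M.index * (Nat.card (MulAction.orbit M Q0) * 5) := by ring
      _ = M.index * Nat.card M := by rw [horb]
      _ = 7920 := hidx
      _ = 1584 * 5 := by norm_num
  exact Nat.eq_of_mul_eq_mul_right (by norm_num) h5

end Cfsg.Agent.Helper63.M11
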