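import Mathlib
import Cfsg.Agent.Lib.Helper7.M11UDefs
import Cfsg.Agent.Lib.Helper63.M11UG4

/-!
# (C5) `conf_sw12` of helper7's lemma server "M11U" (S0420)

`C(t)` (order 48) acts on the three Sylow 3-subgroups inverted by `t`; the stabiliser of `R` is `N(R) ⊓ C(t)` of order 16,
so the action is transitive.
-/

set_option autoImplicit false

namespace Cfsg.Agent.Helper63.M11U

open Subgroup Cfsg.Agent.Helper7.M11U
open scoped Pointwise

section C

variable {G : Type*} [Group G] [Finite G] {t : G} {R R2 R3 : Sylow 3 G}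

/-- (C5) some element of `C(t)` swaps `R` and `R2` and fixes `R3`. -/
theorem conf_sw12 (B : Base G) (L : Loc G) (T : Tri t R R2 R3)
    (hS : Nat.card (normalizer ((R : Subgroup G) : Set G) ⊓ centralizer ({t} : Set G) : Subgroup G) = 16)
    (hsw : ∃ s : G, s ∈ normalizer ((R : Subgroup G) : Set G) ∧ s * t = t * s ∧ s • R2 = R3 ∧ s • R3 = R2) :
    ∃ g : G, g * t = t * g ∧ g • R = R2 ∧ g • R2 = R ∧ g • R3 = R3 := by
  classical
  obtain ⟨s, hsN, hst, hs23, hs32⟩ := hsw
  set H : Subgroup G := centralizer ({t} : Set G) with hH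
  have hHmem : ∀ g, g ∈ H ↔ g * t = t * g := by
    intro g
    rw [hH, Subgroup.mem_centralizer_iff]
    constructor
    · intro h; exact (h t rfl).symm
    · intro h x hx
      rw [Set.mem_singleton_iff] at hx
      rw [hx]; exact h.symm
  have hH48 : Nat.card H = 48 := B.h48 t T.ht
  set I : Set (Sylow 3 G) := {P | Inverts t (P : Subgroup G)} with hI
  have hI3 : I.ncard = 3 := by
    rw [← Nat.card_coe_set_eq]
    exact L.three t T.ht
  have hIfin : I.Finite := Set.toFinite I
  have hpres : ∀ g ∈ H, ∀ P ∈ I, g • P ∈ I := by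
    intro g hg P hP
    have h1 := g4_inverts_smul (g := g) hP
    have e : g * t * g⁻¹ = t := by rw [(hHmem g).mp hg]; group
    rwa [e] at h1
  have horb : MulAction.orbit H R ⊆ I := by
    rintro _ ⟨h, rfl⟩
    exact hpres h h.2 R T.i1
  have hstab : Nat.card (MulAction.stabilizer H R) = 16 := by
    rw [← hS]
    apply Nat.card_congr
    exact
      { toFun := fun x => ⟨((x : H) : G),
          ⟨Sylow.smul_eq_iff_mem_normalizer.mp (MulAction.mem_stabilizer_iff.mp x.2), (x : H).2⟩⟩
        invFun := fun y => ⟨⟨(y : G), y.2.2⟩,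
          MulAction.mem_stabilizer_iff.mpr (Sylow.smul_eq_iff_mem_normalizer.mpr y.2.1)⟩
        left_inv := fun x => rfl
        right_inv := fun y => rfl }
  have hidx : (MulAction.stabilizer H R).index = 3 := by
    have h1 := Subgroup.card_mul_index (MulAction.stabilizer H R)
    rw [hstab, hH48] at h1
    omega
  have hon : (MulAction.orbit H R).ncard = 3 := by
    rw [← MulAction.index_stabilizer]; exact hidx
  have heq : MulAction.orbit H R = I :=
    Set.eq_of_subset_of_ncard_le horb (by rw [hon, hI3]) hIfin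
  -- `I = {R, R2, R3}`
  have hI' : ({R, R2, R3} : Set (Sylow 3 G)) = I := by
    apply Set.eq_of_subset_of_ncard_le _ _ hIfin
    · intro P hP
      rcases hP with rfl | rfl | rfl
      · exact T.i1
      · exact T.i2
      · exact T.i3
    · rw [hI3, Set.ncard_eq_toFinset_card']
      simp only [Set.toFinset_insert, Set.toFinset_singleton]
      rw [Finset.card_insert_of_notMem, Finset.card_insert_of_notMem, Finset.card_singleton]
      · simpa using T.ne23
      · simp only [Finset.mem_insert, Finset.mem_singleton, not_or]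
        exact ⟨T.ne12, T.ne13⟩
  have hcases : ∀ P ∈ I, P = R ∨ P = R2 ∨ P = R3 := by
    intro P hP
    rw [← hI'] at hP
    simpa using hP
  -- transitivity
  have hR2 : R2 ∈ MulAction.orbit H R := by rw [heq]; exact T.i2
  obtain ⟨h, hh⟩ := hR2
  have hg0 : (h : G) • R = R2 := hh
  have hg0H : (h : G) ∈ H := h.2
  have hinj := MulAction.injective (β := Sylow 3 G) (h : G)
  have h2I : (h : G) • R2 ∈ I := hpres _ hg0H R2 T.i2
  have h3I : (h : G) • R3 ∈ I := hpres _ hg0H R3 T.i3
  have h2ne : (h : G) • R2 ≠ R2 := by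
    intro e
    exact T.ne12 (hinj (e.trans hg0.symm)).symm
  have h3ne : (h : G) • R3 ≠ R2 := by
    intro e
    exact T.ne13 (hinj (e.trans hg0.symm)).symm
  have h23ne : (h : G) • R2 ≠ (h : G) • R3 := fun e => T.ne23 (hinj e)
  rcases hcases _ h2I with e2 | e2 | e2
  · -- `g₀ • R2 = R`
    refine ⟨(h : G), (hHmem _).mp hg0H, hg0, e2, ?_⟩
    rcases hcases _ h3I with e3 | e3 | e3
    · exact absurd (e2.trans e3.symm) h23ne
    · exact absurd e3 h3ne
    · exact e3
  · exact absurd e2 h2ne
  · -- `g₀ • R2 = R3`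
    have e3 : (h : G) • R3 = R := by
      rcases hcases _ h3I with e3 | e3 | e3
      · exact e3
      · exact absurd e3 h3ne
      · exact absurd (e2.trans e3.symm) h23ne
    refine ⟨(h : G) * s, ?_, ?_, ?_, ?_⟩
    · rw [mul_assoc, hst, ← mul_assoc, (hHmem _).mp hg0H, mul_assoc]
    · rw [mul_smul, Sylow.smul_eq_iff_mem_normalizer.mpr hsN, hg0]
    · rw [mul_smul, hs23, e3]
    · rw [mul_smul, hs32, e2]

end C

end Cfsg.Agent.Helper63.M11U
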