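import Mathlib

/-!
# (G6s) `no_srg_counts` of helper7's lemma server "M11U" (S0420): there is no strongly regular graph
with parameters `(55, 18, 1, 8)`.

Adjacency matrix `A` over `ℝ`, `J` the all-ones matrix: `A² = 10 - 7 A + 8 J`, `A J = J A = 18 J`, `J² = 55 J`.
With `s = √89`, `T = (s + 7) + 2 A - ((s + 43)/55) J` satisfies `T² = 2 s T`, so `P = T / (2 s)` is idempotent and its trace
`27 + 171 / s` is a natural number: `171² = 89 m²`, impossible.
-/

set_option autoImplicit false

namespace Cfsg.Agent.Helper63.M11U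

open Matrix

/-- the trace of an idempotent real matrix is a natural number -/
theorem helper63_trace_idem_nat {n : Type*} [Fintype n] [DecidableEq n] (P : Matrix n n ℝ)
    (hP : P * P = P) : ∃ m : ℕ, P.trace = m := by
  have hidem : IsIdempotentElem (Matrix.toLin' P) := by
    unfold IsIdempotentElem
    rw [Module.End.mul_eq_comp, ← Matrix.toLin'_mul, hP]
  have h := (LinearMap.IsIdempotentElem.isProj_range _ hidem).trace
  rw [Matrix.trace_toLin'_eq] at h
  exact ⟨_, h⟩

/-- expansion of a square in the span of `1, A, J` -/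
theorem helper63_expand {n : Type*} [Fintype n] [DecidableEq n] (a b c : ℝ) (A J : Matrix n n ℝ) :
    (a • (1 : Matrix n n ℝ) + b • A + c • J) * (a • (1 : Matrix n n ℝ) + b • A + c • J) =
      (a * a) • (1 : Matrix n n ℝ) + (2 * a * b) • A + (2 * a * c) • J + (b * b) • (A * A) +
        (b * c) • (A * J + J * A) + (c * c) • (J * J) := by
  simp only [add_mul, mul_add, smul_mul_assoc, mul_smul_comm, one_mul, mul_one]
  module

/-- (G6s) there is no strongly regular graph with parameters (55, 18, 1, 8). -/
theorem no_srg_counts {V : Type*} [Finite V] (adj : V → V → Prop)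
    (hsymm : ∀ x y, adj x y → adj y x) (hirr : ∀ x, ¬ adj x x) (hV : Nat.card V = 55)
    (hk : ∀ x, Nat.card {y // adj x y} = 18)
    (hl : ∀ x y, adj x y → Nat.card {z // adj x z ∧ adj y z} = 1)
    (hm : ∀ x y, x ≠ y → ¬ adj x y → Nat.card {z // adj x z ∧ adj y z} = 8) : False := by
  classical
  have : Fintype V := Fintype.ofFinite V
  have hVc : Fintype.card V = 55 := by rw [← Nat.card_eq_fintype_card]; exact hV
  set A : Matrix V V ℝ := Matrix.of fun x y => if adj x y then 1 else 0 with hA
  set J : Matrix V V ℝ := Matrix.of fun _ _ => 1 with hJ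
  have hAapp : ∀ x y, A x y = if adj x y then 1 else 0 := fun x y => rfl
  have hJapp : ∀ x y, J x y = 1 := fun x y => rfl
  have hsymm' : ∀ x y, adj x y ↔ adj y x := fun x y => ⟨hsymm x y, hsymm y x⟩
  -- counting
  have hcnt : ∀ x y, (A * A) x y = (Nat.card {z // adj x z ∧ adj y z} : ℝ) := by
    intro x y
    rw [Matrix.mul_apply]
    have h1 : ∀ z, A x z * A z y = if (adj x z ∧ adj y z) then 1 else 0 := by
      intro z
      rw [hAapp, hAapp, hsymm' z y]
      by_cases h1 : adj x z <;> by_cases h2 : adj y z <;> simp [h1, h2]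
    simp_rw [h1]
    rw [Finset.sum_boole, Nat.card_eq_fintype_card, Fintype.card_subtype]
  have hAA : A * A = (10 : ℝ) • (1 : Matrix V V ℝ) - (7 : ℝ) • A + (8 : ℝ) • J := by
    ext x y
    rw [hcnt]
    simp only [Matrix.add_apply, Matrix.sub_apply, Matrix.smul_apply, hAapp, hJapp, smul_eq_mul]
    by_cases hxy : x = y
    · subst hxy
      have h2 : Nat.card {z // adj x z ∧ adj x z} = 18 := by
        rw [← hk x]
        exact Nat.card_congr (Equiv.subtypeEquivRight (fun z => and_self_iff))
      rw [h2, Matrix.one_apply_eq, if_neg (hirr x)]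
      norm_num
    · rw [Matrix.one_apply_ne hxy]
      by_cases hadj : adj x y
      · rw [hl x y hadj, if_pos hadj]
        norm_num
      · rw [hm x y hxy hadj, if_neg hadj]
        norm_num
  have hAJ : A * J = (18 : ℝ) • J := by
    ext x y
    rw [Matrix.mul_apply]
    simp only [Matrix.smul_apply, hJapp, hAapp, smul_eq_mul, mul_one]
    rw [Finset.sum_boole, ← Fintype.card_subtype, ← Nat.card_eq_fintype_card, hk x]
    norm_num
  have hJA : J * A = (18 : ℝ) • J := by
    ext x y
    rw [Matrix.mul_apply]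
    simp only [Matrix.smul_apply, hJapp, hAapp, smul_eq_mul, mul_one, one_mul]
    simp_rw [hsymm' _ y]
    rw [Finset.sum_boole, ← Fintype.card_subtype, ← Nat.card_eq_fintype_card, hk y]
    norm_num
  have hJJ : J * J = (55 : ℝ) • J := by
    ext x y
    rw [Matrix.mul_apply]
    simp only [Matrix.smul_apply, hJapp, smul_eq_mul, mul_one, Finset.sum_const, Finset.card_univ,
      hVc, nsmul_eq_mul]
    norm_num
  have htrA : A.trace = 0 := by
    rw [Matrix.trace]
    apply Finset.sum_eq_zero
    intro x _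
    rw [Matrix.diag_apply, hAapp, if_neg (hirr x)]
  have htrJ : J.trace = 55 := by
    rw [Matrix.trace]
    simp only [Matrix.diag_apply, hJapp, Finset.sum_const, Finset.card_univ, hVc, nsmul_eq_mul]
    norm_num
  have htr1 : (1 : Matrix V V ℝ).trace = 55 := by
    rw [Matrix.trace_one, hVc]
    norm_num
  -- the idempotent
  obtain ⟨s, hs0, hs⟩ : ∃ s : ℝ, 0 < s ∧ s * s = 89 :=
    ⟨Real.sqrt 89, Real.sqrt_pos.mpr (by norm_num), Real.mul_self_sqrt (by norm_num)⟩
  set c : ℝ := -((s + 43) / 55) with hc
  set T : Matrix V V ℝ := (s + 7) • (1 : Matrix V V ℝ) + (2 : ℝ) • A + c • J with hT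
  have hTT : T * T = (2 * s) • T := by
    rw [hT, helper63_expand, hAA, hAJ, hJA, hJJ]
    match_scalars
    · linarith [hs]
    · ring
    · rw [hc]
      field_simp
      linarith [hs]
  set P : Matrix V V ℝ := (1 / (2 * s)) • T with hP
  have hPP : P * P = P := by
    rw [hP, smul_mul_assoc, mul_smul_comm, hTT, smul_smul, smul_smul]
    congr 1
    field_simp
  obtain ⟨m, hm⟩ := helper63_trace_idem_nat P hPP
  have htrP : P.trace = 27 + 171 / s := by
    rw [hP, Matrix.trace_smul, hT, Matrix.trace_add, Matrix.trace_add, Matrix.trace_smul,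
      Matrix.trace_smul, Matrix.trace_smul, htrA, htrJ, htr1, hc]
    simp only [smul_eq_mul]
    field_simp
    ring
  rw [htrP] at hm
  have h3 : (171 : ℝ) = ((m : ℝ) - 27) * s := by
    field_simp at hm
    linarith
  have h4 : (29241 : ℝ) = 89 * ((m : ℝ) - 27) ^ 2 := by
    have : (171 : ℝ) * 171 = (((m : ℝ) - 27) * s) * (((m : ℝ) - 27) * s) := by rw [← h3]
    nlinarith [this, hs]
  have h5 : (29241 : ℤ) = 89 * ((m : ℤ) - 27) ^ 2 := by exact_mod_cast h4
  generalize ((m : ℤ) - 27) ^ 2 = k at h5
  omega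

end Cfsg.Agent.Helper63.M11U
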