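import Mathlib
import Cfsg.Prelude.Def_OddOrderLocal
import Cfsg.Agent.Lib.Helper53.MC3Defs
import Cfsg.Agent.S0638

/-!
# (A2) `om1` of helper53's lemma server "MC3" (S4079): elementwise form of the landed S0638
-/

set_option autoImplicit false

namespace Cfsg.Agent.Helper63.MC3

open Cfsg.Agent.Helper53.MC3
open Subgroup

universe u

section A
variable {L : Type u} [Group L] [Finite L] {p : ℕ} [Fact p.Prime]

/-- (A2) `Ω₁`: restatement of the landed `Cfsg.Agent.S0638.result` in elementwise form. -/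
theorem om1 (hp : p ≠ 2) (hL : IsPGroup p L) (hmc : Cfsg.IsMetacyclic L) (hncyc : ¬ IsCyclic L) :
    (∀ x y : L, x ^ p = 1 → y ^ p = 1 → (x * y) ^ p = 1 ∧ x * y = y * x) ∧
      Nat.card {x : L // x ^ p = 1} = p ^ 2 := by
  obtain ⟨K, hK, hKcard⟩ := Cfsg.Agent.S0638.main hp hL hmc hncyc
  refine ⟨?_, ?_⟩
  · intro x y hx hy
    have hxK := (hK x).mpr hx
    have hyK := (hK y).mpr hy
    refine ⟨(hK _).mp (K.mul_mem hxK hyK), ?_⟩
    have := (IsPGroup.isMulCommutative_of_card_eq_prime_sq hKcard).is_comm.comm ⟨x, hxK⟩ ⟨y, hyK⟩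
    exact congrArg Subtype.val this
  · rw [← hKcard]
    apply Nat.card_congr
    exact Equiv.subtypeEquivRight (fun x => (hK x).symm)

end A

end Cfsg.Agent.Helper63.MC3
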