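import Mathlib
import Cfsg.Prelude.Def_OddOrderLocal
import Cfsg.Agent.Lib.Helper53.MC3Defs
import Cfsg.Agent.S0638
import Cfsg.Agent.Lib.Helper24.MetaBasic

/-!
# (A6) `quot` of helper53's lemma server "MC3" (S4079): the quotient `L ⧸ Ω₁`
-/

set_option autoImplicit false

namespace Cfsg.Agent.Helper63.MC3

open Cfsg.Agent.Helper53.MC3
open Subgroup

universe u

section A
variable {L : Type u} [Group L] [Finite L] {p : ℕ} [Fact p.Prime]

/-- a cyclic group of exponent dividing `p` has at most `p` elements -/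
theorem helper63_card_le_of_cyclic_exp {C : Type*} [Group C] [Finite C] (hC : IsCyclic C)
    (hexp : ∀ c : C, c ^ p = 1) : Nat.card C ≤ p := by
  have hpp : p.Prime := Fact.out
  obtain ⟨z, hz⟩ := hC.exists_generator
  have h1 : orderOf z = Nat.card C := orderOf_eq_card_of_forall_mem_zpowers hz
  rw [← h1]
  exact Nat.le_of_dvd hpp.pos (orderOf_dvd_of_pow_eq_one (hexp z))

/-- (A6) the quotient piece. -/
theorem quot (hp : p ≠ 2) (hL : IsPGroup p L) (hmc : Cfsg.IsMetacyclic L)
    (hnc : ∀ C : Subgroup L, IsCyclic C → C.index ≠ p)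
    (h1 : ∀ x y : L, x ^ p = 1 → y ^ p = 1 → (x * y) ^ p = 1)
    (hc1 : Nat.card {x : L // x ^ p = 1} = p ^ 2) :
    Nat.card {x : L // x ^ p ^ 2 = 1} = p ^ 4 ∧
      ∀ x y : L, x ^ p ^ 2 = 1 → y ^ p ^ 2 = 1 → (y * x * y⁻¹ * x⁻¹) ^ p = 1 := by
  classical
  have hpp : p.Prime := Fact.out
  -- the subgroup `W = Ω₁`
  let W : Subgroup L :=
    { carrier := {x | x ^ p = 1}
      mul_mem' := fun {a b} ha hb => h1 a b ha hb
      one_mem' := one_pow p
      inv_mem' := fun {a} ha => by
        show (a⁻¹) ^ p = 1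
        rw [inv_pow, ha, inv_one] }
  have hWmem : ∀ x, x ∈ W ↔ x ^ p = 1 := fun x => Iff.rfl
  have hWn : W.Normal := ⟨fun n hn g => by
    rw [hWmem] at hn ⊢
    rw [conj_pow, hn, mul_one, mul_inv_cancel]⟩
  have hWcard : Nat.card W = p ^ 2 := by
    rw [← hc1]
    exact Nat.card_congr (Equiv.subtypeEquivRight (fun x => hWmem x))
  have hLcard : Nat.card L = Nat.card (L ⧸ W) * p ^ 2 := by
    rw [← hWcard]
    exact Subgroup.card_eq_card_quotient_mul_card_subgroup W
  have hmk1 : ∀ x : L, (QuotientGroup.mk x : L ⧸ W) = 1 ↔ x ^ p = 1 := by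
    intro x
    rw [QuotientGroup.eq_one_iff, hWmem]
  -- the quotient
  have hQmc : Cfsg.IsMetacyclic (L ⧸ W) :=
    Cfsg.Agent.Helper24.Meta.isMetacyclic_of_surjective (QuotientGroup.mk' W)
      (QuotientGroup.mk'_surjective W) hmc
  have hQp : IsPGroup p (L ⧸ W) := hL.to_quotient W
  have hQnc : ¬ IsCyclic (L ⧸ W) := by
    intro hcyc
    obtain ⟨q, hq⟩ := hcyc.exists_generator
    obtain ⟨g, rfl⟩ := QuotientGroup.mk_surjective q
    by_cases hg : g = 1
    · -- `L = W` of order `p ^ 2`
      have hall : ∀ x : L, x ^ p = 1 := by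
        intro x
        rw [← hmk1]
        obtain ⟨k, hk⟩ := Subgroup.mem_zpowers_iff.mp (hq (QuotientGroup.mk x))
        rw [← hk, hg, QuotientGroup.mk_one, one_zpow]
      have hLc : Nat.card L = p ^ 2 := by
        rw [← hc1]
        exact (Nat.card_congr (Equiv.subtypeUnivEquiv hall)).symm
      have hnt : Nontrivial L := by
        rw [← Finite.one_lt_card_iff_nontrivial, hLc]
        exact Nat.one_lt_pow (by norm_num) hpp.one_lt
      obtain ⟨w, hw⟩ := exists_ne (1 : L)
      have how : orderOf w = p := orderOf_eq_prime (hall w) hw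
      have hidx := Subgroup.card_mul_index (Subgroup.zpowers w)
      rw [Nat.card_zpowers, how, hLc, pow_two] at hidx
      have : (Subgroup.zpowers w).index = p := Nat.eq_of_mul_eq_mul_left hpp.pos hidx
      exact hnc _ (Subgroup.isCyclic_zpowers w) this
    · -- `C = ⟨g⟩` has index `p`
      set C : Subgroup L := Subgroup.zpowers g with hC
      have hsup : C ⊔ W = ⊤ := by
        rw [eq_top_iff]
        intro x _
        obtain ⟨k, hk⟩ := Subgroup.mem_zpowers_iff.mp (hq (QuotientGroup.mk x))
        have h2 : (QuotientGroup.mk ((g ^ k)⁻¹ * x) : L ⧸ W) = 1 := by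
          rw [QuotientGroup.mk_mul, QuotientGroup.mk_inv, QuotientGroup.mk_zpow, hk, inv_mul_cancel]
        rw [QuotientGroup.eq_one_iff] at h2
        have e : x = g ^ k * ((g ^ k)⁻¹ * x) := by group
        rw [e]
        exact Subgroup.mul_mem _ (Subgroup.mem_sup_left (Subgroup.zpow_mem _ (Subgroup.mem_zpowers g) k))
          (Subgroup.mem_sup_right h2)
      have hrel : W.relIndex C = Nat.card (L ⧸ W) := by
        have := Subgroup.relIndex_sup_right (H := C) (K := W)
        rw [hsup, Subgroup.relIndex_top_right, Subgroup.index_eq_card] at this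
        exact this.symm
      -- `|C| = |W ⊓ C| * |L/W|`
      have hCcard : Nat.card (W.subgroupOf C) * Nat.card (L ⧸ W) = Nat.card C := by
        rw [← hrel]
        exact Subgroup.card_mul_index (W.subgroupOf C)
      have hidx := Subgroup.card_mul_index C
      -- `|W ⊓ C| ≤ p`
      have hle : Nat.card (W.subgroupOf C) ≤ p := by
        apply helper63_card_le_of_cyclic_exp (p := p)
        · have : IsCyclic C := Subgroup.isCyclic_zpowers g
          exact Subgroup.isCyclic _
        · rintro ⟨c, hc⟩
          apply Subtype.ext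
          apply Subtype.ext
          have : (c : L) ^ p = 1 := (hWmem _).mp (Subgroup.mem_subgroupOf.mp hc)
          simpa using this
      -- `|W ⊓ C| ≠ 1`
      have hne1 : Nat.card (W.subgroupOf C) ≠ 1 := by
        intro h1c
        obtain ⟨k, hk⟩ := (IsPGroup.iff_orderOf.mp hL) g
        have hk0 : k ≠ 0 := by
          intro h0
          rw [h0, pow_zero, orderOf_eq_one_iff] at hk
          exact hg hk
        have hzC : g ^ p ^ (k - 1) ∈ C := Subgroup.pow_mem _ (Subgroup.mem_zpowers g) _
        have hzp : (g ^ p ^ (k - 1)) ^ p = 1 := by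
          rw [← pow_mul, ← pow_succ, Nat.sub_add_cancel (Nat.one_le_iff_ne_zero.mpr hk0), ← hk,
            pow_orderOf_eq_one]
        have hz1 : g ^ p ^ (k - 1) ≠ 1 := by
          apply pow_ne_one_of_lt_orderOf (pow_pos hpp.pos _).ne'
          rw [hk]
          exact Nat.pow_lt_pow_right hpp.one_lt (by omega)
        have hsub : Subsingleton (W.subgroupOf C) :=
          Finite.card_le_one_iff_subsingleton.mp h1c.le
        have hzW : (⟨g ^ p ^ (k - 1), hzC⟩ : C) ∈ W.subgroupOf C :=
          Subgroup.mem_subgroupOf.mpr ((hWmem _).mpr hzp)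
        have := hsub.elim ⟨_, hzW⟩ 1
        apply hz1
        have h3 := congrArg (fun t : W.subgroupOf C => ((t : C) : L)) this
        simpa using h3
      have hQpos : 0 < Nat.card (L ⧸ W) := Nat.card_pos
      have hprod : Nat.card (W.subgroupOf C) * C.index = p ^ 2 := by
        have h5 : Nat.card (L ⧸ W) * (Nat.card (W.subgroupOf C) * C.index) =
            Nat.card (L ⧸ W) * p ^ 2 := by
          rw [← hLcard, ← hidx, ← hCcard]
          ring
        exact Nat.eq_of_mul_eq_mul_left hQpos h5
      have hdvd : Nat.card (W.subgroupOf C) ∣ p ^ 2 := Dvd.intro _ hprod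
      obtain ⟨j, hj2, hj⟩ := (Nat.dvd_prime_pow hpp).mp hdvd
      have hjp : Nat.card (W.subgroupOf C) = p := by
        interval_cases j
        · exact absurd (by simpa using hj) hne1
        · simpa using hj
        · exfalso
          rw [hj] at hle
          have := hpp.one_lt
          nlinarith
      rw [hjp, pow_two] at hprod
      have : C.index = p := Nat.eq_of_mul_eq_mul_left hpp.pos hprod
      exact hnc _ (Subgroup.isCyclic_zpowers g) this
  -- S0638 on the quotient
  obtain ⟨K, hK, hKcard⟩ := Cfsg.Agent.S0638.main hp hQp hQmc hQnc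
  have hmem2 : ∀ x : L, (QuotientGroup.mk' W x) ∈ K ↔ x ^ p ^ 2 = 1 := by
    intro x
    rw [hK, QuotientGroup.mk'_apply, ← QuotientGroup.mk_pow, hmk1, ← pow_mul, ← pow_two]
  refine ⟨?_, ?_⟩
  · have hcongr : Nat.card {x : L // x ^ p ^ 2 = 1} = Nat.card (K.comap (QuotientGroup.mk' W)) := by
      apply Nat.card_congr
      exact Equiv.subtypeEquivRight (fun x => by rw [Subgroup.mem_comap, hmem2])
    rw [hcongr]
    have hi : (K.comap (QuotientGroup.mk' W)).index = K.index :=
      Subgroup.index_comap_of_surjective K (QuotientGroup.mk'_surjective W)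
    have h6 := Subgroup.card_mul_index (K.comap (QuotientGroup.mk' W))
    have h7 := Subgroup.card_mul_index K
    rw [hi, hLcard, ← h7, hKcard] at h6
    have hKi : 0 < K.index := Nat.pos_of_ne_zero (Subgroup.index_ne_zero_of_finite)
    have h8 : K.index * Nat.card (K.comap (QuotientGroup.mk' W)) = K.index * p ^ 4 := by
      rw [mul_comm, h6]
      ring
    exact Nat.eq_of_mul_eq_mul_left hKi h8
  · intro x y hx hy
    have hxK := (hmem2 x).mpr hx
    have hyK := (hmem2 y).mpr hy
    have hcomm := (IsPGroup.isMulCommutative_of_card_eq_prime_sq hKcard).is_comm.comm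
      ⟨_, hyK⟩ ⟨_, hxK⟩
    have hcomm' : QuotientGroup.mk' W y * QuotientGroup.mk' W x =
        QuotientGroup.mk' W x * QuotientGroup.mk' W y := congrArg Subtype.val hcomm
    rw [← hmk1, ← QuotientGroup.mk'_apply, map_mul, map_mul, map_mul, hcomm', map_inv, map_inv]
    group

end A

end Cfsg.Agent.Helper63.MC3
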