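import Mathlib
import Cfsg.Prelude.Def_CaseTheorems
import Cfsg.Agent.Lib.Helper4.NormalFour3
import Cfsg.Agent.Lib.Helper53.UniqueInvol4
import Cfsg.Agent.S1349

set_option autoImplicit false

namespace Cfsg.Agent.Helper63.NoNormalFour

open Cfsg

variable {P : Type*} [Group P] [Finite P]

/-- A finite `2`-group which is not cyclic, generalized quaternion, dihedral or quasi-dihedral has
a normal Klein four-subgroup. -/
theorem exists_normal_klein (hP : IsPGroup 2 P) (hnc : ¬ IsCyclic P)
    (hnq : ∀ n : ℕ, ¬ Nonempty (P ≃* QuaternionGroup n))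
    (hnd : ∀ n : ℕ, ¬ Nonempty (P ≃* DihedralGroup n)) (hnsd : ¬ Cfsg.IsQuasiDihedral P) :
    ∃ V : Subgroup P, V.Normal ∧ IsKleinFour V := by
  by_contra hno
  push Not at hno
  obtain ⟨n, a, ha, han, hcase⟩ :=
    Cfsg.Agent.Helper4.structure_of_no_normal_four hP (fun V hV hK => hno V hV hK)
  rcases hcase with hall | ⟨hn2, t, htA, hidx, hact, hsq⟩
  · apply hnc
    exact ⟨⟨a, fun x => Subgroup.mem_zpowers_iff.mp (hall x)⟩⟩
  · have htinv : t⁻¹ ∉ Subgroup.zpowers a := fun h => htA (by simpa using Subgroup.inv_mem _ h)
    have hindex : (Subgroup.zpowers a).index = 2 := by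
      rw [Subgroup.index_eq_two_iff]
      refine ⟨t, fun b => ?_⟩
      by_cases hb : b ∈ Subgroup.zpowers a
      · refine Or.inr ⟨hb, fun h => htA ?_⟩
        have := Subgroup.mul_mem _ (Subgroup.inv_mem _ hb) h
        simpa using this
      · exact Or.inl ⟨hidx b t hb htA, hb⟩
    have hcard : Nat.card P = 2 ^ (n + 1) := by
      rw [← Subgroup.card_mul_index (Subgroup.zpowers a), hindex, Nat.card_zpowers, ha, pow_succ]
    have ha2 : a ^ 2 ≠ 1 := by
      intro h
      have := orderOf_dvd_of_pow_eq_one h
      rw [ha] at this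
      have h4 : 4 ≤ 2 ^ n := by
        calc 4 = 2 ^ 2 := by norm_num
          _ ≤ 2 ^ n := Nat.pow_le_pow_right (by norm_num) hn2
      have := Nat.le_of_dvd (by norm_num) this
      omega
    have htop : Subgroup.zpowers t ⊔ Subgroup.zpowers a = ⊤ := by
      rw [eq_top_iff]
      intro g _
      by_cases hg : g ∈ Subgroup.zpowers a
      · exact (le_sup_right : Subgroup.zpowers a ≤ _) hg
      · have h1 := hidx g t hg htA
        have h2 : g = (g * t) * t⁻¹ := by group
        rw [h2]
        apply Subgroup.mul_mem
        · exact (le_sup_right : Subgroup.zpowers a ≤ _) h1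
        · apply Subgroup.inv_mem
          exact (le_sup_left : Subgroup.zpowers t ≤ _) (Subgroup.mem_zpowers t)
    have ht1 : t ≠ 1 := fun h => htA (h ▸ Subgroup.one_mem _)
    rcases hact with hinv | ⟨hn3, hsd⟩
    · rcases hsq with hsq | hsq
      · -- dihedral
        have hb : t ^ 2 = 1 := by rw [sq]; exact hsq
        obtain ⟨e⟩ := Cfsg.Agent.S1349.dihedral_of_inverts hb ha2 hinv
        apply hnd (orderOf a)
        exact ⟨(Subgroup.topEquiv.symm.trans (MulEquiv.subgroupCongr htop.symm)).trans e⟩
      · -- quaternion
        have hQ : Cfsg.Agent.Helper53.QuatType n a t :=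
          { two_le := hn2
            orderOf_a := ha
            g_not_mem := htA
            cover := by
              intro h
              by_cases hh : h ∈ Subgroup.zpowers a
              · exact Or.inl hh
              · refine Or.inr ⟨t⁻¹ * h, hidx _ _ htinv hh, by group⟩
            conj := hinv
            sq := hsq }
        exact hnq _ hQ.nonempty_mulEquiv
    · -- quasi-dihedral
      apply hnsd
      have hapow : a ^ (2 ^ n) = 1 := by rw [← ha]; exact pow_orderOf_eq_one a
      rcases hsq with hsq | hsq
      · refine ⟨n, hn3, hcard, a, t, ha, ?_, hsd⟩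
        exact orderOf_eq_prime (by rw [sq]; exact hsq) ht1
      · refine ⟨n, hn3, hcard, a, t * a, ha, ?_, ?_⟩
        · apply orderOf_eq_prime
          · have h1 : (t * a) ^ 2 = (t * a * t⁻¹) * (t * t) * a := by
              rw [sq]; group
            rw [h1, hsd, hsq, ← pow_add, ← pow_succ]
            have h2 : 2 ^ (n - 1) - 1 + 2 ^ (n - 1) + 1 = 2 ^ n := by
              have h3 : 2 ^ n = 2 * 2 ^ (n - 1) := by
                rw [← pow_succ']
                congr 1
                omega
              have h4 : 1 ≤ 2 ^ (n - 1) := Nat.one_le_two_pow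
              omega
            rw [h2, hapow]
          · intro h
            apply htA
            have : t = a⁻¹ := eq_inv_of_mul_eq_one_left h
            rw [this]
            exact Subgroup.inv_mem _ (Subgroup.mem_zpowers a)
        · have : t * a * a * (t * a)⁻¹ = t * a * t⁻¹ := by group
          rw [this, hsd]

end Cfsg.Agent.Helper63.NoNormalFour
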