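import Mathlib
import Cfsg.Agent.Lib.Helper87.SVKit

/-!
# O175560 (N7980): no simple group of order 7980 = 2^2 * 3 * 5 * 7 * 19 (helper24 server, S4274)

It dies at `p = 5` alone: `n_5 = 266`, `|N(Q)| = 30`, `|C(Q)| = 15` for every Sylow 5-subgroup `Q`.
An element `u` of order 3 in `C(P)` centralizes every Sylow 5-subgroup it normalizes
(`|N(Q) : C(Q)| = 2`), so `|C(u)| = f * m'` with `f = |Fix_{Syl_5} u|`, `f = 1 mod 5`, `f = 2 mod 3`,
`f < 266`, `15 ∣ m'`: `f ∣ 532`, impossible.
-/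

set_option autoImplicit false

namespace Cfsg.Agent.Helper63.O175560

open Cfsg MulAction Cfsg.Agent.Helper17 Cfsg.Agent.Helper17.Sieve Cfsg.Agent.Helper75.FixKill
  Cfsg.Agent.Helper87.SV

universe u

set_option maxRecDepth 100000 in
theorem h63_7980_adm5 : ∀ d ∈ List.range (1596 + 1), d ∣ 1596 → d % 5 = 1 →
    ¬ Bad (5 ^ 1 * 1596) 5 1 1596 d → d = 266 := by
  decide +kernel

set_option maxRecDepth 100000 in
theorem h63_7980_arith : ∀ f ∈ List.range 266, f % 5 = 1 → f % 3 = 2 → ¬ (f * 15 ∣ 7980) := by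
  decide +kernel

/-- If `u ∈ C(P)` centralizes every Sylow `p`-subgroup it normalizes, then
`|C(u)| = |Fix u| * |N(P) ⊓ C(u)|` (no size condition, unlike `S1017.card_centralizer_eq`). -/
theorem h63_card_centralizer_eq {G : Type*} [Group G] [Finite G] {p : ℕ} [hp : Fact p.Prime]
    (P : Sylow p G) (u : G) (hu : u ∈ Subgroup.centralizer ((P : Subgroup G) : Set G))
    (hNC : ∀ Q : Sylow p G, u ∈ Subgroup.normalizer ((Q : Subgroup G) : Set G) →
      u ∈ Subgroup.centralizer ((Q : Subgroup G) : Set G)) :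
    Nat.card (Subgroup.centralizer ({u} : Set G)) = Nat.card (fixedBy (Sylow p G) u) *
      Nat.card ↥(Subgroup.normalizer ((P : Subgroup G) : Set G) ⊓
        Subgroup.centralizer ({u} : Set G)) := by
  have hPH : (P : Subgroup G) ≤ Subgroup.centralizer ({u} : Set G) :=
    (Cfsg.Agent.S1017.le_centralizer_singleton_iff _ u).2 hu
  rw [Cfsg.Agent.S1017.card_eq_card_mul _ P hPH]
  congr 1
  apply Nat.card_congr
  refine Equiv.subtypeEquivRight ?_
  intro Q
  rw [Cfsg.Agent.S1017.le_centralizer_singleton_iff, mem_fixedBy]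
  constructor
  · intro h
    exact Sylow.smul_eq_iff_mem_normalizer.mpr (Subgroup.centralizer_le_normalizer _ h)
  · intro h
    exact hNC Q (Sylow.smul_eq_iff_mem_normalizer.mp h)

/-- an element with `u ^ 3 = 1` of `N` lies in any subgroup `C ≤ N` with `|N| = 2 |C|`. -/
theorem h63_mem_of_index_two {G : Type*} [Group G] [Finite G] (N C : Subgroup G) (hCN : C ≤ N)
    (hidx : Nat.card N = 2 * Nat.card C) (u : G) (hu3 : u ^ 3 = 1) (huN : u ∈ N) : u ∈ C := by
  have hidx2 : (C.subgroupOf N).index = 2 := by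
    have h1 := Subgroup.card_mul_index (C.subgroupOf N)
    have h2 : Nat.card ↥(C.subgroupOf N) = Nat.card C :=
      Nat.card_congr (Subgroup.subgroupOfEquivOfLe hCN).toEquiv
    rw [h2, hidx] at h1
    have hpos : 0 < Nat.card C := Nat.card_pos
    have h3 : Nat.card C * (C.subgroupOf N).index = Nat.card C * 2 := by rw [h1]; ring
    exact Nat.eq_of_mul_eq_mul_left hpos h3
  have h1 : (⟨u, huN⟩ : ↥N) * ⟨u, huN⟩ ∈ C.subgroupOf N := by
    rw [Subgroup.mul_mem_iff_of_index_two hidx2]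
  have h2 : u * u ∈ C := Subgroup.mem_subgroupOf.1 h1
  have h3 : u = (u * u) * (u * u) := by
    calc u = u ^ 3 * u := by rw [hu3, one_mul]
      _ = (u * u) * (u * u) := by
        simp only [pow_succ, pow_zero, one_mul, mul_assoc]
  rw [h3]
  exact mul_mem h2 h2

theorem no_7980 {G : Type u} [Group G] [Finite G] [IsSimpleGroup G] : Nat.card G ≠ 7980 := by
  intro hn0
  have hna : ¬ IsMulCommutative G := not_comm_of_not_prime (by rw [hn0]; norm_num)
  have h5 : Fact (Nat.Prime 5) := ⟨by norm_num⟩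
  have h3 : Fact (Nat.Prime 3) := ⟨by norm_num⟩
  have hn5 : Nat.card G = 5 ^ 1 * 1596 := by rw [hn0]; norm_num
  obtain ⟨hP5, hr5, hd5, hm5, hb5, hone5, he5⟩ :=
    h87_data hna 5 1596 (by norm_num) hn5 (by norm_num)
  have h266 : Nat.card (Sylow 5 G) = 266 := h63_7980_adm5 _ hr5 hd5 hm5 hb5
  have hNall : ∀ Q : Sylow 5 G,
      Nat.card ↥(Subgroup.normalizer ((Q : Subgroup G) : Set G)) = 30 := by
    intro Q
    have h0 := h87_card_normalizer Q
    rw [hn0, h266] at h0
    omega
  have hCall : ∀ Q : Sylow 5 G,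
      Nat.card ↥(Subgroup.centralizer ((Q : Subgroup G) : Set G)) = 15 := by
    intro Q
    obtain ⟨e, he1, he2, he3⟩ := he5 Q
    rw [h266] at he3
    have hle : e ≤ 4 := Nat.le_of_dvd (by norm_num) he1
    have h5d : 5 ∣ Nat.card ↥(Subgroup.centralizer ((Q : Subgroup G) : Set G)) := by
      have hcyc : IsCyclic ↥(Q : Subgroup G) := isCyclic_of_prime_card (hP5 Q)
      have hcomm : IsMulCommutative ↥(Q : Subgroup G) := ⟨⟨IsCyclic.commGroup.mul_comm⟩⟩
      have hQC : (Q : Subgroup G) ≤ Subgroup.centralizer ((Q : Subgroup G) : Set G) :=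
        Subgroup.le_centralizer_iff_isMulCommutative.2 hcomm
      conv_lhs => rw [← hP5 Q]
      exact Subgroup.card_dvd_of_le hQC
    obtain ⟨c, hc⟩ := h5d
    rw [hc] at he3 ⊢
    have h6 : c * e = 6 := by
      have h7 : 1330 * (c * e) = 1330 * 6 := by linarith [he3]
      exact Nat.eq_of_mul_eq_mul_left (by norm_num) h7
    clear he3
    interval_cases e <;> omega
  obtain ⟨P⟩ : Nonempty (Sylow 5 G) := inferInstance
  obtain ⟨u', hu'⟩ := exists_prime_orderOf_dvd_card'
    (G := ↥(Subgroup.centralizer ((P : Subgroup G) : Set G))) 3 (by rw [hCall P]; norm_num)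
  obtain ⟨u, hudef⟩ : ∃ u : G, u = (u' : G) := ⟨_, rfl⟩
  have huo : orderOf u = 3 := by rw [hudef, Subgroup.orderOf_coe]; exact hu'
  have huC : u ∈ Subgroup.centralizer ((P : Subgroup G) : Set G) := by rw [hudef]; exact u'.2
  have hu1 : u ≠ 1 := Cfsg.Agent.S1017.ne_one_of_orderOf_prime u (by norm_num) huo
  have hu3 : u ^ 3 = 1 := by rw [← huo]; exact pow_orderOf_eq_one u
  have hNC : ∀ Q : Sylow 5 G, u ∈ Subgroup.normalizer ((Q : Subgroup G) : Set G) →
      u ∈ Subgroup.centralizer ((Q : Subgroup G) : Set G) := by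
    intro Q hQ
    exact h63_mem_of_index_two _ _ (Subgroup.centralizer_le_normalizer _)
      (by rw [hNall Q, hCall Q]) u hu3 hQ
  have hcard := h63_card_centralizer_eq P u huC hNC
  have hf1 := Cfsg.Agent.S1017.card_fixedBy_sylow_modEq P (hP5 P) u huC
  have hf2 := Cfsg.Agent.S1017.card_modEq_card_fixedBy (α := Sylow 5 G) u huo
  have hf3 := Cfsg.Agent.S1017.card_fixedBy_le (α := Sylow 5 G) u
  have hf4 := Cfsg.Agent.S1017.card_fixedBy_ne (α := Sylow 5 G)
    (Cfsg.Agent.S1017.sylow_action_nontrivial hone5) u hu1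
  rw [h266] at hf2 hf3 hf4
  have hm2 : 15 ∣ Nat.card ↥(Subgroup.normalizer ((P : Subgroup G) : Set G) ⊓
      Subgroup.centralizer ({u} : Set G)) := by
    have h5d : 5 ∣ Nat.card ↥(Subgroup.normalizer ((P : Subgroup G) : Set G) ⊓
        Subgroup.centralizer ({u} : Set G)) := by
      conv_lhs => rw [← hP5 P]
      exact Subgroup.card_dvd_of_le (le_inf Subgroup.le_normalizer
        ((Cfsg.Agent.S1017.le_centralizer_singleton_iff _ u).2 huC))
    have h3d : 3 ∣ Nat.card ↥(Subgroup.normalizer ((P : Subgroup G) : Set G) ⊓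
        Subgroup.centralizer ({u} : Set G)) := by
      rw [← huo]
      refine Subgroup.orderOf_dvd_natCard _ ⟨Subgroup.centralizer_le_normalizer _ huC, ?_⟩
      show u ∈ Subgroup.centralizer ({u} : Set G)
      rw [Subgroup.mem_centralizer_iff]
      intro y hy
      rw [Set.mem_singleton_iff] at hy
      rw [hy]
    omega
  have hdvd : Nat.card ↥(Subgroup.centralizer ({u} : Set G)) ∣ 7980 := by
    rw [← hn0]; exact Subgroup.card_subgroup_dvd_card _
  rw [hcard] at hdvd
  obtain ⟨k, hk⟩ := hm2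
  rw [hk] at hdvd
  unfold Nat.ModEq at hf1 hf2
  refine h63_7980_arith (Nat.card (fixedBy (Sylow 5 G) u)) (List.mem_range.2 (by omega))
    (by omega) (by omega) ?_
  exact Dvd.dvd.trans ⟨k, by ring⟩ hdvd

end Cfsg.Agent.Helper63.O175560
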