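import Mathlib
import Cfsg.Agent.Lib.Helper87.SVKit

/-!
# O459648 (A): a simple group of order 459648 = 2^7 * 3^3 * 7 * 19 has no 96 Sylow 19-subgroups
(S1022; statement of helper8 #7592, also case (A) of helper53's O459648 server)

`n_19 = 96` gives `|N(P)| = 4788 = 2^2 * 3^2 * 7 * 19` and `|C(P)| * e = 4788` with `e ∣ 18`, so
`7 ∣ |C(P)|`. An element `u` of order 7 of `C(P)` acts on the 96 Sylow 19-subgroups with
`f = |Fix u|`, `f = 1 mod 19` (as `P` permutes `Fix u` with the only fixed point `P`),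
`f = 96 = 5 mod 7`, `f < 96` (the action is faithful): none of `1, 20, 39, 58, 77` is `5 mod 7`.
-/

set_option autoImplicit false

namespace Cfsg.Agent.Helper63.O459648

open Cfsg MulAction Cfsg.Agent.Helper17 Cfsg.Agent.Helper17.Sieve Cfsg.Agent.Helper75.FixKill
  Cfsg.Agent.Helper87.SV

universe u

theorem false_of_ninetysix {G : Type u} [Group G] [Finite G] [IsSimpleGroup G]
    (hG : Nat.card G = 459648) (h96 : Nat.card (Sylow 19 G) = 96) : False := by
  have hna : ¬ IsMulCommutative G := not_comm_of_not_prime (by rw [hG]; norm_num)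
  have h19 : Fact (Nat.Prime 19) := ⟨by norm_num⟩
  have h7 : Fact (Nat.Prime 7) := ⟨by norm_num⟩
  have hn19 : Nat.card G = 19 ^ 1 * 24192 := by rw [hG]; norm_num
  obtain ⟨hP19, -, -, -, -, hone19, he19⟩ :=
    h87_data hna 19 24192 (by norm_num) hn19 (by norm_num)
  obtain ⟨P⟩ : Nonempty (Sylow 19 G) := inferInstance
  have h7C : 7 ∣ Nat.card ↥(Subgroup.centralizer ((P : Subgroup G) : Set G)) := by
    obtain ⟨e, he1, he2, he3⟩ := he19 P
    rw [h96] at he3
    have hle : e ≤ 18 := Nat.le_of_dvd (by norm_num) he1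
    have h4788 : Nat.card ↥(Subgroup.centralizer ((P : Subgroup G) : Set G)) * e = 4788 := by
      have h0 : 96 * (Nat.card ↥(Subgroup.centralizer ((P : Subgroup G) : Set G)) * e) =
          96 * 4788 := by linarith [he3]
      exact Nat.eq_of_mul_eq_mul_left (by norm_num) h0
    clear he3
    generalize Nat.card ↥(Subgroup.centralizer ((P : Subgroup G) : Set G)) = c at h4788 ⊢
    interval_cases e <;> omega
  obtain ⟨u', hu'⟩ := exists_prime_orderOf_dvd_card'
    (G := ↥(Subgroup.centralizer ((P : Subgroup G) : Set G))) 7 h7C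
  obtain ⟨u, hudef⟩ : ∃ u : G, u = (u' : G) := ⟨_, rfl⟩
  have huo : orderOf u = 7 := by rw [hudef, Subgroup.orderOf_coe]; exact hu'
  have huC : u ∈ Subgroup.centralizer ((P : Subgroup G) : Set G) := by rw [hudef]; exact u'.2
  have hu1 : u ≠ 1 := Cfsg.Agent.S1017.ne_one_of_orderOf_prime u (by norm_num) huo
  have hf1 := Cfsg.Agent.S1017.card_fixedBy_sylow_modEq P (hP19 P) u huC
  have hf2 := Cfsg.Agent.S1017.card_modEq_card_fixedBy (α := Sylow 19 G) u huo
  have hf3 := Cfsg.Agent.S1017.card_fixedBy_le (α := Sylow 19 G) u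
  have hf4 := Cfsg.Agent.S1017.card_fixedBy_ne (α := Sylow 19 G)
    (Cfsg.Agent.S1017.sylow_action_nontrivial hone19) u hu1
  rw [h96] at hf2 hf3 hf4
  unfold Nat.ModEq at hf1 hf2
  omega

end Cfsg.Agent.Helper63.O459648
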