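import Mathlib
import Cfsg.Agent.Lib.Helper63.O459648KEY

/-!
# O459648 (B4c) endgame_final (helper53 server for S1022; piece by helper63)

`L = C_G(z)` contains `P`, `S0` and `g`; by the overgroup lemma `key_of_le` (`T = S0`) either
`L ≤ N` (but `g ∈ L`, `g ∉ N`) or `L = ⊤` (then `z` is central, so `z = 1` as `G` is simple and
not commutative).
-/

set_option autoImplicit false

namespace Cfsg.Agent.Helper63.O459648

open Cfsg MulAction Cfsg.Agent.Helper17

theorem endgame_final {G : Type*} [Group G] [Finite G] [IsSimpleGroup G]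
    (hG : Nat.card G = 459648) (P : Sylow 19 G) (hP : Nat.card (P : Subgroup G) = 19)
    (hN : Nat.card (Subgroup.normalizer ((P : Subgroup G) : Set G)) = 456)
    (S0 : Subgroup G) (hS0 : Nat.card S0 = 8)
    (hSN : S0 ≤ Subgroup.normalizer ((P : Subgroup G) : Set G)) (z g : G) (hz1 : z ≠ 1)
    (hzP : z ∈ Subgroup.centralizer ((P : Subgroup G) : Set G))
    (hzS : ∀ s ∈ S0, s * z = z * s) (hgz : g * z = z * g)
    (hgN : g ∉ Subgroup.normalizer ((P : Subgroup G) : Set G)) : False := by
  have hna : ¬ IsMulCommutative G := not_comm_of_not_prime (by rw [hG]; norm_num)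
  have hmemL : ∀ x : G, x * z = z * x → x ∈ Subgroup.centralizer ({z} : Set G) := by
    intro x hx
    rw [Subgroup.mem_centralizer_iff]
    intro y hy
    rw [Set.mem_singleton_iff] at hy
    rw [hy]
    exact hx.symm
  have hPL : (P : Subgroup G) ≤ Subgroup.centralizer ({z} : Set G) :=
    (Cfsg.Agent.S1017.le_centralizer_singleton_iff _ z).2 hzP
  have hSL : S0 ≤ Subgroup.centralizer ({z} : Set G) := fun s hs => hmemL s (hzS s hs)
  have hgL : g ∈ Subgroup.centralizer ({z} : Set G) := hmemL g hgz
  rcases key_of_le hG P (Subgroup.centralizer ({z} : Set G)) S0 hPL hS0 hSN hSL with h | h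
  · exact hgN (h hgL)
  · have hzc : z ∈ Subgroup.center G := by
      rw [Subgroup.mem_center_iff]
      intro x
      have hx : x ∈ Subgroup.centralizer ({z} : Set G) := by rw [h]; exact Subgroup.mem_top x
      rw [Subgroup.mem_centralizer_iff] at hx
      exact (hx z (Set.mem_singleton z)).symm
    rcases (inferInstance : (Subgroup.center G).Normal).eq_bot_or_eq_top with hb | ht
    · rw [hb, Subgroup.mem_bot] at hzc
      exact hz1 hzc
    · apply hna
      refine ⟨⟨fun a b => ?_⟩⟩
      have ha : a ∈ Subgroup.center G := by rw [ht]; exact Subgroup.mem_top a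
      rw [Subgroup.mem_center_iff] at ha
      exact (ha b).symm

end Cfsg.Agent.Helper63.O459648
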