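import Mathlib
import Cfsg.Agent.Lib.Helper87.SVKit
import Cfsg.Agent.Lib.Helper63.O459648A

/-!
# O459648 (NC) cardNC and (A) no96 (helper53 server for S1022; pieces by helper63)
-/

set_option autoImplicit false

namespace Cfsg.Agent.Helper63.O459648

open Cfsg MulAction Cfsg.Agent.Helper17 Cfsg.Agent.Helper17.Sieve Cfsg.Agent.Helper87.SV

theorem no96 {G : Type*} [Group G] [Finite G] [IsSimpleGroup G] (hG : Nat.card G = 459648) :
    Nat.card (Sylow 19 G) ≠ 96 := fun h96 => false_of_ninetysix hG h96

theorem cardNC {G : Type*} [Group G] [Finite G] [IsSimpleGroup G] (hG : Nat.card G = 459648)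
    (h1008 : Nat.card (Sylow 19 G) = 1008) (P : Sylow 19 G) :
    Nat.card (Subgroup.normalizer ((P : Subgroup G) : Set G)) = 456 ∧
    (Nat.card (Subgroup.centralizer ((P : Subgroup G) : Set G)) = 76 ∨
     Nat.card (Subgroup.centralizer ((P : Subgroup G) : Set G)) = 152 ∨
     Nat.card (Subgroup.centralizer ((P : Subgroup G) : Set G)) = 228) := by
  have hna : ¬ IsMulCommutative G := not_comm_of_not_prime (by rw [hG]; norm_num)
  have h19 : Fact (Nat.Prime 19) := ⟨by norm_num⟩
  have hn19 : Nat.card G = 19 ^ 1 * 24192 := by rw [hG]; norm_num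
  obtain ⟨-, -, -, -, -, -, he19⟩ :=
    h87_data hna 19 24192 (by norm_num) hn19 (by norm_num)
  refine ⟨?_, ?_⟩
  · have h0 := h87_card_normalizer P
    rw [hG, h1008] at h0
    omega
  · obtain ⟨e, he1, he2, he3⟩ := he19 P
    rw [h1008] at he3
    have hle : e ≤ 18 := Nat.le_of_dvd (by norm_num) he1
    have h456 : Nat.card ↥(Subgroup.centralizer ((P : Subgroup G) : Set G)) * e = 456 := by
      have h0 : 1008 * (Nat.card ↥(Subgroup.centralizer ((P : Subgroup G) : Set G)) * e) =
          1008 * 456 := by linarith [he3]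
      exact Nat.eq_of_mul_eq_mul_left (by norm_num) h0
    clear he3
    generalize Nat.card ↥(Subgroup.centralizer ((P : Subgroup G) : Set G)) = c at h456 ⊢
    have he18 : (18 : ℕ) % e = 0 := Nat.mod_eq_zero_of_dvd he1
    interval_cases e <;> omega

end Cfsg.Agent.Helper63.O459648
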