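import Mathlib
import Cfsg.Agent.Lib.Helper5.OMFChar2
import Cfsg.Agent.Lib.Helper40.AutPOmFieldCent

/-!
# (F2a) of helper5's OMF server: the centraliser in `PGO` of the standard field automorphism of the
minus-type form is the image of `GO` over the fixed field (all characteristics, no Gram matrices).
-/

set_option autoImplicit false
set_option linter.unusedSectionVars false
set_option linter.unusedSimpArgs false
set_option linter.unusedVariables false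

namespace Cfsg.Agent.Helper63.OMF

open Matrix QuadraticMap Cfsg.Agent.Helper43 Cfsg.Agent.Helper5.OrthAut Cfsg.Agent.Helper40.AutPOm
  Cfsg.Agent.Helper40.H90 Cfsg.Agent.Helper40.AutPSLNorm Cfsg.Agent.Helper40.FixK
  Cfsg.Agent.Helper40.LangO

section Gen

variable {F₀ : Type*} [Field F₀] {F : Type*} [Field F] {ι : Type} [Fintype ι] [DecidableEq ι]
  {emb : F₀ →+* F} {Q₀ : QuadraticForm F₀ (ι → F₀)} {Q : QuadraticForm F (ι → F)}

local notation "Mι" => Matrix ι ι F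
local notation "Mι₀" => Matrix ι ι F₀

/-- commuting with the field automorphism, in matrix terms -/
theorem helper63_comm_iff
    (hperf : commutator ↥(Cfsg.Omega F ⇑Q) = ⊤)
    (hcent : ∀ Z : Matrix ι ι F, (∀ s : ↥(Cfsg.Omega F ⇑Q), Z * omat (⇑Q) s = omat (⇑Q) s * Z) →
      ∃ c : F, Z = c • (1 : Matrix ι ι F))
    (σ : ↥(QAut ⇑Q)) (g : ↥(GO Q)) :
    (PhiGO (⇑Q) g * fieldAutPOm (⇑Q) σ = fieldAutPOm (⇑Q) σ * PhiGO (⇑Q) g) ↔
      ((sigmaGO (⇑Q) σ g : ↥(GO Q)) : GL ι F)⁻¹ * g.1 ∈ Cfsg.Geo.scalars ι F := by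
  rw [fieldAutPOm_mul_PhiGO, mul_left_inj, PhiGO_eq_iff Q hperf hcent]

/-- the generic statement: base change `Q₀ → Q`, `v₁` a vector with `Q₀ v₁ = 1` -/
theorem helper63_cent_iff_of_bc [Nonempty ι] (hB : IsBC emb ⇑Q₀ ⇑Q)
    (hperf : commutator ↥(Cfsg.Omega F ⇑Q) = ⊤)
    (hcent : ∀ Z : Matrix ι ι F, (∀ s : ↥(Cfsg.Omega F ⇑Q), Z * omat (⇑Q) s = omat (⇑Q) s * Z) →
      ∃ c : F, Z = c • (1 : Matrix ι ι F))
    (v₁ : ι → F₀) (hv₁ : Q₀ v₁ = 1)
    (σ : ↥(QAut ⇑Q)) {r : ℕ} (hr : 0 < r) (hσ : orderOf σ.1 = r)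
    (hι1 : ∀ x, σ.1 (emb x) = emb x) (hι2 : ∀ y, σ.1 y = y → ∃ x, emb x = y)
    (g : ↥(GO Q)) :
    (PhiGO (⇑Q) g * fieldAutPOm (⇑Q) σ = fieldAutPOm (⇑Q) σ * PhiGO (⇑Q) g) ↔
      ∃ (g₀ : GL ι F₀) (c : Fˣ), g₀ ∈ GO Q₀ ∧
        (g : GL ι F) = sclHom c * Matrix.GeneralLinearGroup.map emb g₀ := by
  classical
  rw [helper63_comm_iff hperf hcent]
  set gM : Mι := ((g.1 : GL ι F) : Mι) with hgM
  constructor
  · intro hc
    rw [Cfsg.Geo.mem_scalars_iff] at hc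
    obtain ⟨c, hc⟩ := hc
    -- `σ(g) = c⁻¹ g`
    have hrel : smI σ.1 gM = ((c⁻¹ : Fˣ) : F) • gM := by
      rw [Units.val_mul] at hc
      have h1 : ((sigmaGO (⇑Q) σ g : ↥(GO Q)) : GL ι F).val *
          ((((sigmaGO (⇑Q) σ g : ↥(GO Q)) : GL ι F)⁻¹ : GL ι F).val * gM) =
          ((sigmaGO (⇑Q) σ g : ↥(GO Q)) : GL ι F).val * ((c : F) • (1 : Mι)) := by rw [hc]
      rw [← Matrix.mul_assoc, ← Units.val_mul, mul_inv_cancel, Units.val_one, Matrix.one_mul,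
        Matrix.mul_smul, Matrix.mul_one, sigmaGO_coe] at h1
      show gM.map σ.1 = _
      have h1' : gM = (c : F) • gM.map σ.1 := h1
      conv_rhs => rw [h1']
      rw [smul_smul, ← Units.val_mul, inv_mul_cancel, Units.val_one, one_smul]
    obtain ⟨d, hd⟩ := exists_fixed_smul_I σ.1 hr hσ g.1 c⁻¹ hrel
    set g₂ : Mι := (d : F) • gM with hg₂
    -- the multiplier of `d • g`
    have hmul : ∀ v, Q (g₂ *ᵥ v) = ((d * d * mult Q g : Fˣ) : F) * Q v := by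
      intro v
      rw [hg₂, Matrix.smul_mulVec, QuadraticMap.map_smul, hgM]
      have := mult_spec Q g v
      rw [show gmat Q g = ((g.1 : GL ι F) : Mι) from rfl] at this
      rw [this, smul_eq_mul, Units.val_mul, Units.val_mul]
      ring
    -- descend to `F₀`
    choose G₀ hG₀ using fun i j => hι2 (g₂ i j) (congrFun (congrFun hd i) j)
    have hG₀map : (Matrix.of G₀ : Mι₀).map emb = g₂ := by
      ext i j
      exact hG₀ i j
    have hgMdet : gM.det ≠ 0 := by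
      intro h0
      have h1 : gM * ((g.1⁻¹ : GL ι F) : Mι) = 1 := by
        rw [hgM, ← Units.val_mul, mul_inv_cancel, Units.val_one]
      have := congrArg Matrix.det h1
      rw [Matrix.det_mul, h0, zero_mul, Matrix.det_one] at this
      exact zero_ne_one this
    have hg₂det : g₂.det ≠ 0 := by
      rw [hg₂, Matrix.det_smul]
      exact mul_ne_zero (pow_ne_zero _ d.ne_zero) hgMdet
    have hG₀det : (Matrix.of G₀ : Mι₀).det ≠ 0 := by
      intro h0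
      have h1 : emb (Matrix.of G₀ : Mι₀).det = ((Matrix.of G₀ : Mι₀).map emb).det :=
        RingHom.map_det _ _
      rw [h0, map_zero, hG₀map] at h1
      exact hg₂det h1.symm
    let g₀ : GL ι F₀ := Matrix.GeneralLinearGroup.mkOfDetNeZero (Matrix.of G₀) hG₀det
    have hg₀coe : ((Matrix.GeneralLinearGroup.map emb g₀ : GL ι F) : Mι) = g₂ := hG₀map
    -- the similarity relation over `F₀`
    have hkey : ∀ v : ι → F₀, emb (Q₀ ((Matrix.of G₀ : Mι₀) *ᵥ v)) =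
        ((d * d * mult Q g : Fˣ) : F) * emb (Q₀ v) := by
      intro v
      rw [← hB, mapV_mulVec, hG₀map, hmul, hB]
    set c₀ : F₀ := Q₀ ((Matrix.of G₀ : Mι₀) *ᵥ v₁) with hc₀def
    have hc₀ : emb c₀ = ((d * d * mult Q g : Fˣ) : F) := by
      rw [hc₀def, hkey v₁, hv₁, map_one, mul_one]
    have hc₀0 : c₀ ≠ 0 := by
      intro h0
      rw [h0, map_zero] at hc₀
      exact (d * d * mult Q g).ne_zero hc₀.symm
    have hg₀GO : g₀ ∈ GO Q₀ := by
      refine ⟨Units.mk0 c₀ hc₀0, fun v => ?_⟩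
      apply emb.injective
      show emb (Q₀ ((Matrix.of G₀ : Mι₀) *ᵥ v)) = emb (c₀ * Q₀ v)
      rw [hkey v, map_mul, hc₀]
    refine ⟨g₀, d⁻¹, hg₀GO, ?_⟩
    apply Units.ext
    rw [Units.val_mul, sclHom_coe, hg₀coe, hg₂, Matrix.smul_mul, Matrix.one_mul, smul_smul,
      ← Units.val_mul, inv_mul_cancel, Units.val_one, one_smul]
  · rintro ⟨g₀, c, hg₀, hg⟩
    set A : Mι := ((Matrix.GeneralLinearGroup.map emb g₀ : GL ι F) : Mι) with hA
    have hAfix : smI σ.1 A = A := by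
      ext i j
      exact hι1 _
    have hgMeq : gM = (c : F) • A := by
      rw [hgM, hg, Units.val_mul, sclHom_coe, Matrix.smul_mul, Matrix.one_mul]
    -- `σ(g) = g * scalar`
    have hsig : ((sigmaGO (⇑Q) σ g : ↥(GO Q)) : GL ι F) =
        g.1 * sclHom (Units.map (σ.1 : F →* F) c * c⁻¹) := by
      apply Units.ext
      rw [sigmaGO_coe, mapGL_coe, Units.val_mul, sclHom_coe, Matrix.mul_smul, Matrix.mul_one]
      show smI σ.1 gM = _ • gM
      rw [hgMeq, smI_smul, hAfix, smul_smul]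
      congr 1
      rw [Units.val_mul]
      have h6 : ((Units.map (σ.1 : F →* F) c : Fˣ) : F) = σ.1 (c : F) := rfl
      rw [h6, mul_assoc, ← Units.val_mul, inv_mul_cancel, Units.val_one, mul_one]
    rw [hsig, _root_.mul_inv_rev, inv_mul_cancel_right]
    exact Subgroup.inv_mem _ (sclHom_mem _)

end Gen

/-- (F2a) -/
theorem cent_pgo_minus {F₀ : Type*} [Field F₀] [Fintype F₀] {F : Type*} [Field F] [Fintype F]
    {m : ℕ} (hm : 3 ≤ m) (emb : F₀ →+* F) (a₀ b₀ : F₀)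
    (hab : ∀ z₁ z₂ : F, z₁ ^ 2 + emb a₀ * z₁ * z₂ + emb b₀ * z₂ ^ 2 = 0 → z₁ = 0 ∧ z₂ = 0)
    (σ : F ≃+* F) {r : ℕ} (hr : 0 < r) (hσ : orderOf σ = r)
    (hι1 : ∀ x, σ (emb x) = emb x) (hι2 : ∀ y, σ y = y → ∃ x, emb x = y)
    (hσQ : σ ∈ QAut ⇑(stdMinus F m (emb a₀) (emb b₀)))
    (g : ↥(GO (stdMinus F m (emb a₀) (emb b₀)))) :
    (PhiGO ⇑(stdMinus F m (emb a₀) (emb b₀)) g *
        fieldAutPOm ⇑(stdMinus F m (emb a₀) (emb b₀)) ⟨σ, hσQ⟩ =
      fieldAutPOm ⇑(stdMinus F m (emb a₀) (emb b₀)) ⟨σ, hσQ⟩ *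
        PhiGO ⇑(stdMinus F m (emb a₀) (emb b₀)) g) ↔
    ∃ (g₀ : GL ((Fin m ⊕ Fin m) ⊕ Fin 2) F₀) (c : Fˣ), g₀ ∈ GO (stdMinus F₀ m a₀ b₀) ∧
      (g : GL ((Fin m ⊕ Fin m) ⊕ Fin 2) F) = sclHom c * Matrix.GeneralLinearGroup.map emb g₀ := by
  have : Nonempty ((Fin m ⊕ Fin m) ⊕ Fin 2) := ⟨Sum.inr 0⟩
  have hv₁ : stdMinus F₀ m a₀ b₀ (Pi.single (Sum.inr 0) 1) = 1 := by
    rw [stdMinus_apply]
    unfold Cfsg.quadFormMinus
    simp
  exact helper63_cent_iff_of_bc (Cfsg.Agent.Helper5.OMF.isBC_stdMinus m emb a₀ b₀)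
    (Cfsg.Agent.Helper5.OMF.minus_hperf hm (emb a₀) (emb b₀) hab)
    (Cfsg.Agent.Helper5.OMF.minus_hcent hm (emb a₀) (emb b₀))
    (Pi.single (Sum.inr 0) 1) hv₁ ⟨σ, hσQ⟩ hr hσ hι1 hι2 g

end Cfsg.Agent.Helper63.OMF
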