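import Mathlib
import Cfsg.Agent.Lib.Helper5.PFADefs

/-!
# PFA piece (DEC) `exists_decomp` for helper5's server (S2715)

A class-preserving similarity over `F₀` (odd characteristic), `μ₀` a non-square:
`g₀ = c • δ(μ₀)^e • s` with `e ∈ {0,1}` and `s` a class-preserving isometry.
-/

set_option autoImplicit false

namespace Cfsg.Agent.Helper63.PFA

open Matrix QuadraticMap Cfsg.Agent.Helper43 Cfsg.Agent.Helper5.OrthAut Cfsg.Agent.Helper40.AutPOm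
  Cfsg.Agent.Helper40.FieldCent Cfsg.Agent.Helper5.PFA

universe u u₀

variable {F₀ : Type u₀} [Field F₀] [Fintype F₀] {F : Type u} [Field F] [Fintype F]

/-- in a finite field the product of two non-squares is a square -/
theorem h63_isSquare_mul_of_not_isSquare {x y : F₀} (hx : ¬ IsSquare x) (hy : ¬ IsSquare y) :
    IsSquare (x * y) := by
  classical
  have hx0 : x ≠ 0 := by
    rintro rfl
    exact hx ⟨0, by simp⟩
  have hy0 : y ≠ 0 := by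
    rintro rfl
    exact hy ⟨0, by simp⟩
  rw [← quadraticChar_one_iff_isSquare (mul_ne_zero hx0 hy0), map_mul,
    quadraticChar_neg_one_iff_not_isSquare.mpr hx, quadraticChar_neg_one_iff_not_isSquare.mpr hy]
  norm_num

/-- every unit is `c * c * μ₀ ^ e`, `e ∈ {0, 1}`, for a non-square `μ₀` -/
theorem h63_unit_decomp (μ₀ : F₀ˣ) (hμ₀ : ¬ IsSquare (μ₀ : F₀)) (μ : F₀ˣ) :
    ∃ (e : ℕ) (c : F₀ˣ), (e = 0 ∨ e = 1) ∧ μ = c * c * μ₀ ^ e := by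
  by_cases hsq : IsSquare (μ : F₀)
  · obtain ⟨d, hd⟩ := hsq
    have hd0 : d ≠ 0 := by
      rintro rfl
      rw [mul_zero] at hd
      exact μ.ne_zero hd
    refine ⟨0, Units.mk0 d hd0, Or.inl rfl, ?_⟩
    apply Units.ext
    rw [pow_zero, mul_one, Units.val_mul, Units.val_mk0]
    exact hd
  · obtain ⟨d, hd⟩ := h63_isSquare_mul_of_not_isSquare hsq hμ₀
    have hd0 : d ≠ 0 := by
      rintro rfl
      rw [mul_zero] at hd
      exact (mul_ne_zero μ.ne_zero μ₀.ne_zero) hd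
    refine ⟨1, Units.mk0 (d / (μ₀ : F₀)) (div_ne_zero hd0 μ₀.ne_zero), Or.inr rfl, ?_⟩
    apply Units.ext
    rw [pow_one, Units.val_mul, Units.val_mul, Units.val_mk0]
    have h0 : (μ₀ : F₀) ≠ 0 := μ₀.ne_zero
    field_simp
    rw [hd]
    ring

/-- `deltaPlus` over `F₀` preserves the two classes -/
theorem h63_preserves_deltaPlus (h2 : (2 : F₀) ≠ 0) {m : ℕ} (hm : 3 ≤ m) (μ₀ : F₀ˣ) :
    Cfsg.PreservesSingularClasses (Cfsg.quadFormPlus m F₀)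
      ((deltaPlus m μ₀ : GL (Fin m ⊕ Fin m) F₀) : Matrix (Fin m ⊕ Fin m) (Fin m ⊕ Fin m) F₀) := by
  classical
  have hfam := stdPlus_isHypFamily F₀ m
  have hQ0 : ∃ v : Fin m ⊕ Fin m → F₀, stdPlus F₀ m v ≠ 0 :=
    hQ0_of_hyp (stdPlus F₀ m) hfam (by omega)
  rw [preserves_iff_dHom_plus m h2 hQ0 _ (deltaPlus_mem m μ₀)]
  have hmD : mult (stdPlus F₀ m) ⟨deltaPlus m μ₀, deltaPlus_mem m μ₀⟩ = μ₀ :=
    mult_unique _ hQ0 _ _ (deltaPlus_sim m μ₀)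
  apply Units.ext
  rw [dHom_coe, hmD, Units.val_one]
  show ((deltaPlus m μ₀ : GL (Fin m ⊕ Fin m) F₀) : Matrix (Fin m ⊕ Fin m) (Fin m ⊕ Fin m) F₀).det * _ = 1
  rw [deltaPlus_det]
  exact mul_inv_cancel₀ (pow_ne_zero _ (Units.ne_zero _))

/-- (DEC) -/
theorem exists_decomp (h2 : (2 : F₀) ≠ 0) {m : ℕ} (hm : 3 ≤ m) (μ₀ : F₀ˣ)
    (hμ₀ : ¬ IsSquare (μ₀ : F₀)) (g₀ : GL (Fin m ⊕ Fin m) F₀)
    (hg₀ : g₀ ∈ Cfsg.Geo.quadSimilarityGroup (F := F₀) (Cfsg.quadFormPlus m F₀))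
    (hp : Cfsg.PreservesSingularClasses (Cfsg.quadFormPlus m F₀)
      (g₀ : Matrix (Fin m ⊕ Fin m) (Fin m ⊕ Fin m) F₀)) :
    ∃ (e : ℕ) (c : F₀ˣ) (s : GL (Fin m ⊕ Fin m) F₀), (e = 0 ∨ e = 1) ∧
      s ∈ Cfsg.isometryGroup F₀ (Cfsg.quadFormPlus m F₀) ∧
      Cfsg.PreservesSingularClasses (Cfsg.quadFormPlus m F₀)
        (s : Matrix (Fin m ⊕ Fin m) (Fin m ⊕ Fin m) F₀) ∧
      g₀ = sclHom c * deltaPlus m μ₀ ^ e * s := by
  classical
  have hfam := stdPlus_isHypFamily F₀ m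
  have hQ0 : ∃ v : Fin m ⊕ Fin m → F₀, stdPlus F₀ m v ≠ 0 :=
    hQ0_of_hyp (stdPlus F₀ m) hfam (by omega)
  have hg : g₀ ∈ GO (stdPlus F₀ m) := hg₀
  -- the elements of `GO`
  set G0 : ↥(GO (stdPlus F₀ m)) := ⟨g₀, hg⟩ with hG0
  obtain ⟨e, c, he, hμ⟩ := h63_unit_decomp μ₀ hμ₀ (mult (stdPlus F₀ m) G0)
  set C : ↥(GO (stdPlus F₀ m)) := ⟨sclHom c, sclHom_mem_GO (stdPlus F₀ m) c⟩ with hC
  set D : ↥(GO (stdPlus F₀ m)) := ⟨deltaPlus m μ₀, deltaPlus_mem m μ₀⟩ with hD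
  set S : ↥(GO (stdPlus F₀ m)) := (C * D ^ e)⁻¹ * G0 with hS
  have hmC : mult (stdPlus F₀ m) C = c * c := by
    apply mult_unique _ hQ0
    intro v
    show stdPlus F₀ m (((sclHom c : GL (Fin m ⊕ Fin m) F₀) : Matrix (Fin m ⊕ Fin m) (Fin m ⊕ Fin m) F₀) *ᵥ v) = _
    rw [sclHom_mulVec, QuadraticMap.map_smul, Units.val_mul, smul_eq_mul]
  have hmD : mult (stdPlus F₀ m) D = μ₀ := mult_unique _ hQ0 _ _ (deltaPlus_sim m μ₀)
  have hdC : dHom (stdPlus F₀ m) hQ0 m C = 1 := by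
    apply Units.ext
    rw [dHom_coe, hmC, Units.val_one]
    show ((sclHom c : GL (Fin m ⊕ Fin m) F₀) : Matrix (Fin m ⊕ Fin m) (Fin m ⊕ Fin m) F₀).det * _ = 1
    rw [sclHom_det, Units.val_mul]
    have hc0 : (c : F₀) ≠ 0 := c.ne_zero
    have hcard : Fintype.card (Fin m ⊕ Fin m) = 2 * m := by simp; ring
    rw [hcard, pow_mul, pow_two]
    exact mul_inv_cancel₀ (pow_ne_zero _ (mul_ne_zero hc0 hc0))
  have hdD : dHom (stdPlus F₀ m) hQ0 m D = 1 := by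
    apply Units.ext
    rw [dHom_coe, hmD, Units.val_one]
    show ((deltaPlus m μ₀ : GL (Fin m ⊕ Fin m) F₀) : Matrix (Fin m ⊕ Fin m) (Fin m ⊕ Fin m) F₀).det * _ = 1
    rw [deltaPlus_det]
    exact mul_inv_cancel₀ (pow_ne_zero _ (Units.ne_zero _))
  have hdG : dHom (stdPlus F₀ m) hQ0 m G0 = 1 :=
    (preserves_iff_dHom_plus m h2 hQ0 g₀ hg).1 hp
  have hdS : dHom (stdPlus F₀ m) hQ0 m S = 1 := by
    rw [hS, map_mul, map_inv, map_mul, map_pow, hdC, hdD, hdG]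
    simp
  have hmS : mult (stdPlus F₀ m) S = 1 := by
    have h1 : multHom (stdPlus F₀ m) hQ0 S = 1 := by
      rw [hS, map_mul, map_inv, map_mul, map_pow, multHom_apply, multHom_apply, multHom_apply,
        hmC, hmD, hμ]
      exact inv_mul_cancel _
    exact h1
  refine ⟨e, c, (S : GL (Fin m ⊕ Fin m) F₀), he, ?_, ?_, ?_⟩
  · rw [mem_iso_iff]
    intro v
    have h1 := mult_spec (stdPlus F₀ m) S v
    rw [hmS, Units.val_one, one_mul] at h1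
    exact h1
  · exact (preserves_iff_dHom_plus m h2 hQ0 (S : GL (Fin m ⊕ Fin m) F₀) S.2).2 hdS
  · have h1 : G0 = C * D ^ e * S := by rw [hS]; group
    have h2 := congrArg (Subtype.val) h1
    exact h2
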