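import Mathlib
import Cfsg.Agent.Lib.Helper5.PFADefs
import Cfsg.Agent.Lib.Helper63.PFADEC

/-!
# PFA piece (A) `cent_mem_or` for helper5's server (S2715)

Assembly of CENT + DEC + SO: every element of `C_Inndiag(φ_σ)` lies in `Inn` or in `d · Inn`,
`d = dP m (emb μ₀)`.
-/

set_option autoImplicit false

namespace Cfsg.Agent.Helper63.PFA

open Matrix QuadraticMap Cfsg.Agent.Helper43 Cfsg.Agent.Helper5.OrthAut Cfsg.Agent.Helper40.AutPOm
  Cfsg.Agent.Helper40.FieldCent Cfsg.Agent.Helper5.PFA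

universe u u₀

variable {F₀ : Type u₀} [Field F₀] [Fintype F₀] {F : Type u} [Field F] [Fintype F]

omit [Fintype F₀] [Fintype F] in
/-- base change of `deltaPlus` -/
theorem h63_map_deltaPlus (m : ℕ) (emb : F₀ →+* F) (μ₀ : F₀ˣ) :
    Matrix.GeneralLinearGroup.map emb (deltaPlus m μ₀) =
      deltaPlus m (Units.map (emb : F₀ →* F) μ₀) := by
  apply Units.ext
  show ((deltaPlus m μ₀ : GL (Fin m ⊕ Fin m) F₀) :
    Matrix (Fin m ⊕ Fin m) (Fin m ⊕ Fin m) F₀).map emb = _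
  unfold deltaPlus
  rw [diagGL_coe, diagGL_coe, Matrix.diagonal_map (map_zero emb)]
  congr 1
  funext i
  rcases i with i | i
  · simp
  · simp

omit [Fintype F₀] [Fintype F] in
/-- base change of scalar matrices -/
theorem h63_map_sclHom (m : ℕ) (emb : F₀ →+* F) (c : F₀ˣ) :
    Matrix.GeneralLinearGroup.map emb (sclHom (ι := Fin m ⊕ Fin m) c) =
      sclHom (Units.map (emb : F₀ →* F) c) := by
  apply Units.ext
  show ((sclHom (ι := Fin m ⊕ Fin m) c : GL (Fin m ⊕ Fin m) F₀) :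
    Matrix (Fin m ⊕ Fin m) (Fin m ⊕ Fin m) F₀).map emb = _
  rw [sclHom_coe, sclHom_coe]
  ext i j
  by_cases hij : i = j
  · subst hij; simp
  · simp [Matrix.one_apply_ne hij]

/-- (A) -/
theorem cent_mem_or {m : ℕ} (hm : 3 ≤ m) (emb : F₀ →+* F) (σ : F ≃+* F)
    (h2 : (2 : F) ≠ 0) (μ₀ : F₀ˣ)
    (hcent : ∀ c : MulAut (Cfsg.POmega F (Cfsg.quadFormPlus m F)),
      c ∈ HP m F ⊓ Subgroup.centralizer {phiP m σ} ↔
      ∃ (g₀ : GL (Fin m ⊕ Fin m) F₀)
        (g : ↥(Cfsg.Geo.quadSimilarityGroup (F := F) (Cfsg.quadFormPlus m F))),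
        g₀ ∈ Cfsg.Geo.quadSimilarityGroup (F := F₀) (Cfsg.quadFormPlus m F₀) ∧
        Cfsg.PreservesSingularClasses (Cfsg.quadFormPlus m F₀)
          (g₀ : Matrix (Fin m ⊕ Fin m) (Fin m ⊕ Fin m) F₀) ∧
        (g : GL (Fin m ⊕ Fin m) F) = Matrix.GeneralLinearGroup.map emb g₀ ∧
        c = PhiGO (Cfsg.quadFormPlus m F) g)
    (hdec : ∀ (g₀ : GL (Fin m ⊕ Fin m) F₀),
      g₀ ∈ Cfsg.Geo.quadSimilarityGroup (F := F₀) (Cfsg.quadFormPlus m F₀) →
      Cfsg.PreservesSingularClasses (Cfsg.quadFormPlus m F₀)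
        (g₀ : Matrix (Fin m ⊕ Fin m) (Fin m ⊕ Fin m) F₀) →
      ∃ (e : ℕ) (c : F₀ˣ) (s : GL (Fin m ⊕ Fin m) F₀), (e = 0 ∨ e = 1) ∧
        s ∈ Cfsg.isometryGroup F₀ (Cfsg.quadFormPlus m F₀) ∧
        Cfsg.PreservesSingularClasses (Cfsg.quadFormPlus m F₀)
          (s : Matrix (Fin m ⊕ Fin m) (Fin m ⊕ Fin m) F₀) ∧
        g₀ = sclHom c * deltaPlus m μ₀ ^ e * s)
    (hso : ∀ (s₀ : GL (Fin m ⊕ Fin m) F₀),
      s₀ ∈ Cfsg.isometryGroup F₀ (Cfsg.quadFormPlus m F₀) →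
      Cfsg.PreservesSingularClasses (Cfsg.quadFormPlus m F₀)
        (s₀ : Matrix (Fin m ⊕ Fin m) (Fin m ⊕ Fin m) F₀) →
      Matrix.GeneralLinearGroup.map emb s₀ ∈ OmGL (Cfsg.quadFormPlus m F)) :
    dP m (Units.map (emb : F₀ →* F) μ₀) ∈ HP m F ⊓ Subgroup.centralizer {phiP m σ} ∧
    ∀ c ∈ HP m F ⊓ Subgroup.centralizer {phiP m σ},
      c ∈ KP m F ∨ (dP m (Units.map (emb : F₀ →* F) μ₀))⁻¹ * c ∈ KP m F := by
  classical
  have h2' : (2 : F₀) ≠ 0 := two_ne_zero_of_emb emb h2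
  have hfam := stdPlus_isHypFamily F m
  have hnd := stdPlus_nondegenerate F m
  have hcard : Fintype.card (Fin m ⊕ Fin m) = 2 * m := by simp; ring
  have hperf := hperf_of_hyp (stdPlus F m) hnd _ _ hfam (by omega) (by rw [hcard]; omega)
  have hcentQ := hcent_of_hyp (stdPlus F m) hfam (by omega)
    (Cfsg.Agent.Lead.POmegaCard.hspan_plus m)
  constructor
  · rw [hcent]
    refine ⟨deltaPlus m μ₀, deltaGO m (Units.map (emb : F₀ →* F) μ₀), deltaPlus_mem m μ₀,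
      h63_preserves_deltaPlus h2' hm μ₀, ?_, rfl⟩
    rw [h63_map_deltaPlus]
    rfl
  · intro c hc
    obtain ⟨g₀, g, hg₀, hpres, hgmap, hcg⟩ := (hcent c).1 hc
    obtain ⟨e, c₀, s, he, hs, hps, hg₀eq⟩ := hdec g₀ hg₀ hpres
    have hsΩ := hso s hs hps
    -- the three factors in `GO` over `F`
    have hsGO : Matrix.GeneralLinearGroup.map emb s ∈ GO (stdPlus F m) := by
      obtain ⟨w, hw⟩ := (mem_OmGL (Cfsg.quadFormPlus m F) _).1 hsΩ
      rw [← hw]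
      exact iso_le_sim _ (w : ↥(Cfsg.isometryGroup F (Cfsg.quadFormPlus m F))).2
    set S : ↥(Cfsg.Geo.quadSimilarityGroup (F := F) (Cfsg.quadFormPlus m F)) := ⟨Matrix.GeneralLinearGroup.map emb s, hsGO⟩ with hS
    set C : ↥(Cfsg.Geo.quadSimilarityGroup (F := F) (Cfsg.quadFormPlus m F)) := scGO (stdPlus F m) (Units.map (emb : F₀ →* F) c₀) with hC
    set D : ↥(Cfsg.Geo.quadSimilarityGroup (F := F) (Cfsg.quadFormPlus m F)) := deltaGO m (Units.map (emb : F₀ →* F) μ₀) with hD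
    have hgeq : g = C * D ^ e * S := by
      apply Subtype.ext
      rw [hgmap, hg₀eq, map_mul, map_mul, map_pow, h63_map_deltaPlus, h63_map_sclHom]
      rfl
    have hPC : PhiGO (Cfsg.quadFormPlus m F) C = 1 :=
      PhiGO_scGO (stdPlus F m) hperf hcentQ _
    have hPS : PhiGO (Cfsg.quadFormPlus m F) S ∈ KP m F := by
      show PhiGO (Cfsg.quadFormPlus m F) S ∈ Cfsg.Inn (Cfsg.POmega F (Cfsg.quadFormPlus m F))
      rw [inn_eq]
      exact ⟨⟨Matrix.GeneralLinearGroup.map emb s, sim_le_NO _ hsGO⟩, hsΩ, rfl⟩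
    have hc' : c = dP m (Units.map (emb : F₀ →* F) μ₀) ^ e *
        PhiGO (Cfsg.quadFormPlus m F) S := by
      rw [hcg, hgeq, map_mul, map_mul, map_pow, hPC, one_mul]
      rfl
    rcases he with rfl | rfl
    · left
      rw [hc', pow_zero, one_mul]
      exact hPS
    · right
      rw [hc', pow_one, inv_mul_cancel_left]
      exact hPS
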