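import Mathlib

set_option autoImplicit false

namespace Cfsg.Agent.Helper63

variable {X : Type*} [Group X]

lemma card_mul_relIndex_of_le' {H K : Subgroup X} (h : H ≤ K) :
    Nat.card H * H.relIndex K = Nat.card K := by
  have := Subgroup.relIndex_mul_relIndex ⊥ H K bot_le h
  rwa [Subgroup.relIndex_bot_left, Subgroup.relIndex_bot_left] at this

/-- `|K| |L| ≤ |K ⊔ L| |K ⊓ L|`, and in case of equality every element of `K ⊔ L` is a product. -/
theorem card_mul_card_le_and_eq [Finite X] (K L : Subgroup X) :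
    Nat.card K * Nat.card L ≤ Nat.card (K ⊔ L : Subgroup X) * Nat.card (K ⊓ L : Subgroup X) ∧
    (Nat.card K * Nat.card L = Nat.card (K ⊔ L : Subgroup X) * Nat.card (K ⊓ L : Subgroup X) →
      ∀ g ∈ K ⊔ L, ∃ k ∈ K, ∃ l ∈ L, g = k * l) := by
  have h1 : Nat.card (K ⊓ L : Subgroup X) * L.relIndex K = Nat.card K := by
    rw [← Subgroup.inf_relIndex_left K L]
    exact card_mul_relIndex_of_le' inf_le_left
  have h2 : Nat.card L * L.relIndex (K ⊔ L) = Nat.card (K ⊔ L : Subgroup X) :=
    card_mul_relIndex_of_le' le_sup_right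
  have hpos1 : 0 < Nat.card (K ⊓ L : Subgroup X) := Nat.card_pos
  have hpos2 : 0 < Nat.card L := Nat.card_pos
  have hne : L.relIndex (K ⊔ L) ≠ 0 := by
    intro h0
    rw [h0, mul_zero] at h2
    exact (Nat.card_pos (α := (K ⊔ L : Subgroup X))).ne' h2.symm
  have h3 : L.relIndex K ≤ L.relIndex (K ⊔ L) :=
    Subgroup.relIndex_le_of_le_right le_sup_left hne
  constructor
  · calc Nat.card K * Nat.card L
        = Nat.card (K ⊓ L : Subgroup X) * L.relIndex K * Nat.card L := by rw [h1]
      _ ≤ Nat.card (K ⊓ L : Subgroup X) * L.relIndex (K ⊔ L) * Nat.card L := by gcongr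
      _ = Nat.card (K ⊔ L : Subgroup X) * Nat.card (K ⊓ L : Subgroup X) := by rw [← h2]; ring
  · intro heq g hg
    have h4 : L.relIndex K = L.relIndex (K ⊔ L) := by
      have : Nat.card (K ⊓ L : Subgroup X) * Nat.card L * L.relIndex K =
          Nat.card (K ⊓ L : Subgroup X) * Nat.card L * L.relIndex (K ⊔ L) := by
        calc Nat.card (K ⊓ L : Subgroup X) * Nat.card L * L.relIndex K
            = (Nat.card (K ⊓ L : Subgroup X) * L.relIndex K) * Nat.card L := by ring
          _ = Nat.card K * Nat.card L := by rw [h1]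
          _ = Nat.card (K ⊔ L : Subgroup X) * Nat.card (K ⊓ L : Subgroup X) := heq
          _ = Nat.card (K ⊓ L : Subgroup X) * Nat.card L * L.relIndex (K ⊔ L) := by
              rw [← h2]; ring
      exact Nat.eq_of_mul_eq_mul_left (Nat.mul_pos hpos1 hpos2) this
    -- the embedding is surjective
    let e := Subgroup.quotientSubgroupOfEmbeddingOfLE L (le_sup_left : K ≤ K ⊔ L)
    have hsurj : Function.Surjective e := by
      have hfin : Finite (↥(K ⊔ L) ⧸ L.subgroupOf (K ⊔ L)) := inferInstance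
      have hcard : Nat.card (↥(K ⊔ L) ⧸ L.subgroupOf (K ⊔ L)) ≤ Nat.card (↥K ⧸ L.subgroupOf K) := by
        have e1 : Nat.card (↥K ⧸ L.subgroupOf K) = L.relIndex K := (Subgroup.index_eq_card _).symm
        have e2 : Nat.card (↥(K ⊔ L) ⧸ L.subgroupOf (K ⊔ L)) = L.relIndex (K ⊔ L) :=
          (Subgroup.index_eq_card _).symm
        rw [e1, e2, h4]
      exact (Function.Injective.bijective_of_nat_card_le e.injective hcard).2
    obtain ⟨q, hq⟩ := hsurj (QuotientGroup.mk (⟨g, hg⟩ : ↥(K ⊔ L)))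
    induction q using QuotientGroup.induction_on with
    | H k =>
      have hq' : (QuotientGroup.mk (Subgroup.inclusion (le_sup_left : K ≤ K ⊔ L) k) :
          ↥(K ⊔ L) ⧸ L.subgroupOf (K ⊔ L)) = QuotientGroup.mk (⟨g, hg⟩ : ↥(K ⊔ L)) := hq
      rw [QuotientGroup.eq, Subgroup.mem_subgroupOf] at hq'
      have h5 : (k : X)⁻¹ * g ∈ L := hq'
      exact ⟨k, k.2, (k : X)⁻¹ * g, h5, by group⟩

end Cfsg.Agent.Helper63
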