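import Mathlib
import Cfsg.Prelude.Def_RootSubgroups
import Cfsg.Agent.Lib.Helper21.RankOneSpecial
import Cfsg.Agent.Lib.Helper83.R2Defs

/-!
# R2 piece (E) `mul_mem_comm` for helper83's server (S5020): core, with (N2) and (M) as hypotheses
-/

set_option autoImplicit false

namespace Cfsg.Agent.Helper63.R2

open Cfsg Cfsg.Agent.Helper83 Cfsg.Agent.Helper83.R2 Cfsg.Agent.Helper21.RankOneSpecial
open scoped commutatorElement

variable {X : Type*} [Group X] {A B : Subgroup X}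

/-- `γ (y⁻¹) = (γ y)⁻¹` for `y ∈ B` (`γ = bmap B A`). -/
theorem h63_gamma_inv (hs : IsSpecialRankOnePair A B) {y : X} (hy : y ∈ B) :
    bmap B A y⁻¹ = (bmap B A y)⁻¹ := by
  have h := hs.1
  have hx : bmap B A y ∈ A := bmap_mem B A y
  have e1 : bmap A B (bmap B A y) = y := bmap_bmap (RankOnePair_symm h) hy
  have e2 : bmap A B (bmap B A y)⁻¹ = y⁻¹ := by rw [bmap_inv hs hx, e1]
  rw [← e2, bmap_bmap h (A.inv_mem hx)]

/-- the element `P(a,d) = d * γ((β a)⁻¹ β d)` lies in `[A, H]` -/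
theorem h63_P_mem (hs : IsSpecialRankOnePair A B) (hab : HasAbelianUnipotents A B)
    (hN2 : ∀ {a c : X}, a ∈ A → a ≠ 1 → c ∈ A → c ≠ 1 →
      nEl A B a * (nEl A B c)⁻¹ ∈ rankOneDiagonal A B)
    (hM : ∀ {a c : X}, a ∈ A → a ≠ 1 → c ∈ A → c ≠ 1 → c ≠ a →
      (nEl A B a * (nEl A B c)⁻¹) * c * (nEl A B a * (nEl A B c)⁻¹)⁻¹ =
        a * bmap B A ((bmap A B a)⁻¹ * bmap A B (a * c⁻¹)))
    {a d : X} (ha : a ∈ A) (ha1 : a ≠ 1) (hd : d ∈ A) (hd1 : d ≠ 1) (had : a ≠ d) :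
    d * bmap B A ((bmap A B a)⁻¹ * bmap A B d) ∈ ⁅A, rankOneDiagonal A B⁆ := by
  set c : X := d⁻¹ * a with hc
  have hcA : c ∈ A := A.mul_mem (A.inv_mem hd) ha
  have hc1 : c ≠ 1 := by
    intro h1
    apply had
    have : d⁻¹ * a = d⁻¹ * d := by rw [inv_mul_cancel]; exact h1
    exact mul_left_cancel this
  have hca : c ≠ a := by
    intro h1
    apply hd1
    have : d⁻¹ * a = 1 * a := by rw [one_mul]; exact h1
    have h2 : d⁻¹ = 1 := mul_right_cancel this
    exact inv_eq_one.mp h2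
  have hacd : a * c⁻¹ = d := by rw [hc]; group
  set g : X := bmap B A ((bmap A B a)⁻¹ * bmap A B d) with hg
  have hgA : g ∈ A := bmap_mem B A _
  set η : X := nEl A B a * (nEl A B c)⁻¹ with hη
  have hηH : η ∈ rankOneDiagonal A B := hN2 ha ha1 hcA hc1
  have hform : η * c * η⁻¹ = a * g := by
    have := hM ha ha1 hcA hc1 hca
    rw [hacd] at this
    exact this
  have hcomm : ⁅η, c⁆ = d * g := by
    rw [commutatorElement_def, hform]
    have hcinv : c⁻¹ = a⁻¹ * d := by rw [hc]; group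
    rw [hcinv]
    have hag : a * g = g * a := comm_of_mem hab.1 ha hgA
    have hgd : g * d = d * g := comm_of_mem hab.1 hgA hd
    calc a * g * (a⁻¹ * d) = (a * g) * a⁻¹ * d := by group
      _ = (g * a) * a⁻¹ * d := by rw [hag]
      _ = g * d := by group
      _ = d * g := hgd
  rw [← hcomm, Subgroup.commutator_comm]
  exact Subgroup.commutator_mem_commutator hηH hcA

/-- (E) with (N2) and (M) as hypotheses. -/
theorem mul_mem_comm_core (hs : IsSpecialRankOnePair A B) (hab : HasAbelianUnipotents A B)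
    (hN2 : ∀ {a c : X}, a ∈ A → a ≠ 1 → c ∈ A → c ≠ 1 →
      nEl A B a * (nEl A B c)⁻¹ ∈ rankOneDiagonal A B)
    (hM : ∀ {a c : X}, a ∈ A → a ≠ 1 → c ∈ A → c ≠ 1 → c ≠ a →
      (nEl A B a * (nEl A B c)⁻¹) * c * (nEl A B a * (nEl A B c)⁻¹)⁻¹ =
        a * bmap B A ((bmap A B a)⁻¹ * bmap A B (a * c⁻¹)))
    {a d : X} (ha : a ∈ A) (ha1 : a ≠ 1) (hd : d ∈ A) (hd1 : d ≠ 1) (had : a ≠ d) :
    a * d ∈ ⁅A, rankOneDiagonal A B⁆ := by
  have h1 := h63_P_mem hs hab hN2 hM ha ha1 hd hd1 had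
  have h2 := h63_P_mem hs hab hN2 hM hd hd1 ha ha1 (Ne.symm had)
  set y : X := (bmap A B a)⁻¹ * bmap A B d with hy
  have hyB : y ∈ B := B.mul_mem (B.inv_mem (bmap_mem A B a)) (bmap_mem A B d)
  have hyinv : (bmap A B d)⁻¹ * bmap A B a = y⁻¹ := by rw [hy]; group
  rw [hyinv, h63_gamma_inv hs hyB] at h2
  set g : X := bmap B A y with hg
  have hgA : g ∈ A := bmap_mem B A y
  have hga : g * a = a * g := comm_of_mem hab.1 hgA ha
  have hda : d * a = a * d := comm_of_mem hab.1 hd ha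
  have hprod : (d * g) * (a * g⁻¹) = a * d := by
    calc (d * g) * (a * g⁻¹) = d * (g * a) * g⁻¹ := by group
      _ = d * (a * g) * g⁻¹ := by rw [hga]
      _ = d * a := by group
      _ = a * d := hda
  rw [← hprod]
  exact Subgroup.mul_mem _ h1 h2

end Cfsg.Agent.Helper63.R2
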