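import Mathlib
import Cfsg.Prelude.Def_RootSubgroups
import Cfsg.Agent.Lib.Helper21.RankOneSpecial
import Cfsg.Agent.Lib.Helper83.R2Defs
import Cfsg.Agent.Lib.Helper83.R2N1
import Cfsg.Agent.Lib.Helper83.R2M
import Cfsg.Agent.Lib.Helper63.R2ECore

/-!
# R2 piece (E) `mul_mem_comm` for helper83's server (S5020)

Verbatim statement; uses helper83's (N1) `nEl_conj`, (M) `mu_formula` and a private copy of (N2).
-/

set_option autoImplicit false

namespace Cfsg.Agent.Helper63.R2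

open Cfsg Cfsg.Agent.Helper83 Cfsg.Agent.Helper83.R2 Cfsg.Agent.Helper21.RankOneSpecial
open scoped commutatorElement

variable {X : Type*} [Group X] {A B : Subgroup X}

theorem h63_nEl_mem_sup (a : X) (ha : a ∈ A) : nEl A B a ∈ A ⊔ B := by
  unfold nEl
  have h1 : a ∈ A ⊔ B := (le_sup_left : A ≤ A ⊔ B) ha
  have h2 : bmap A B a ∈ A ⊔ B := (le_sup_right : B ≤ A ⊔ B) (bmap_mem A B a)
  exact Subgroup.mul_mem _ (Subgroup.mul_mem _ h1 (Subgroup.inv_mem _ h2)) h1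

/-- private copy of (N2): `n(a) n(c)⁻¹ ∈ H`. -/
theorem h63_nEl_mul_inv_mem_diag (hs : IsSpecialRankOnePair A B) {a c : X} (ha : a ∈ A)
    (ha1 : a ≠ 1) (hc : c ∈ A) (hc1 : c ≠ 1) :
    nEl A B a * (nEl A B c)⁻¹ ∈ rankOneDiagonal A B := by
  obtain ⟨a1, a2, -⟩ := nEl_conj hs ha ha1
  obtain ⟨c1, c2, -⟩ := nEl_conj hs hc hc1
  -- `conjBy A n(c)⁻¹ = B`, `conjBy B n(c)⁻¹ = A`
  have c1' : conjBy B (nEl A B c)⁻¹ = A := (conjBy_eq_iff.mp c1).symm
  have c2' : conjBy A (nEl A B c)⁻¹ = B := (conjBy_eq_iff.mp c2).symm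
  refine ⟨⟨?_, ?_⟩, ?_⟩
  · exact Subgroup.mul_mem _ (h63_nEl_mem_sup a ha) (Subgroup.inv_mem _ (h63_nEl_mem_sup c hc))
  · show nEl A B a * (nEl A B c)⁻¹ ∈ Subgroup.normalizer (A : Set X)
    rw [← conjBy_eq_self_iff, ← conjBy_conjBy, c2', a2]
  · show nEl A B a * (nEl A B c)⁻¹ ∈ Subgroup.normalizer (B : Set X)
    rw [← conjBy_eq_self_iff, ← conjBy_conjBy, c1', a1]

/-- (E) products of two different non-identity elements of `A` lie in `[A, H]`. -/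
theorem mul_mem_comm (hs : IsSpecialRankOnePair A B) (hab : HasAbelianUnipotents A B) {a d : X}
    (ha : a ∈ A) (ha1 : a ≠ 1) (hd : d ∈ A) (hd1 : d ≠ 1) (had : a ≠ d) :
    a * d ∈ ⁅A, rankOneDiagonal A B⁆ :=
  mul_mem_comm_core hs hab
    (fun ha ha1 hc hc1 => h63_nEl_mul_inv_mem_diag hs ha ha1 hc hc1)
    (fun ha ha1 hc hc1 hca => mu_formula hs ha ha1 hc hc1 hca)
    ha ha1 hd hd1 had

end Cfsg.Agent.Helper63.R2
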