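import Mathlib
import Cfsg.Prelude.Def_RootSubgroups
import Cfsg.Agent.Lib.Helper21.Quasisimple
import Cfsg.Agent.S5017

/-!
# R2 piece (G) `big_case` for helper83's server (S5020)
-/

set_option autoImplicit false

namespace Cfsg.Agent.Helper63.R2

open Cfsg
open scoped commutatorElement

variable {X : Type*} [Group X] {A B : Subgroup X}

/-- `[A, H] ≤ A` : the diagonal subgroup normalises `A`. -/
theorem h63_comm_diag_le : ⁅A, rankOneDiagonal A B⁆ ≤ A := by
  rw [Subgroup.commutator_le]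
  intro a ha g hg
  have hgN : g ∈ Subgroup.normalizer (A : Set X) := hg.1.2
  have h1 : g * a⁻¹ * g⁻¹ ∈ A :=
    (Subgroup.mem_normalizer_iff.mp hgN a⁻¹).mp (A.inv_mem ha)
  have h2 : ⁅a, g⁆ = a * (g * a⁻¹ * g⁻¹) := by
    rw [commutatorElement_def]; group
  rw [h2]
  exact A.mul_mem ha h1

/-- (G) the big case. -/
theorem big_case (h : IsRankOneGroup X A B) (hAE : A ≤ ⁅A, rankOneDiagonal A B⁆)
    (hcard : 3 < ENat.card A) (hconj : ∃ n : X, conjBy A n = B) :
    commutator X ⊔ A = ⊤ ∧ Cfsg.IsQuasisimple (commutator X) ∧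
      3 < ENat.card ↥(⁅A, Cfsg.rankOneDiagonal A B⁆ : Subgroup X) := by
  have hEq : ⁅A, rankOneDiagonal A B⁆ = A := le_antisymm h63_comm_diag_le hAE
  have hA : A ≤ commutator X := by
    calc A ≤ ⁅A, rankOneDiagonal A B⁆ := hAE
      _ ≤ ⁅(⊤ : Subgroup X), ⊤⁆ := Subgroup.commutator_mono le_top le_top
      _ = commutator X := rfl
  have hnorm : (commutator X).Normal := inferInstance
  have hB : B ≤ commutator X := by
    obtain ⟨n, hn⟩ := hconj
    rw [← hn]
    rintro x ⟨a, ha, rfl⟩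
    exact hnorm.conj_mem a (hA ha) n
  have htop : commutator X = ⊤ := by
    apply top_le_iff.mp
    rw [← h.1]
    exact sup_le hA hB
  have hperf : Group.IsPerfect X := Group.isPerfect_def.mpr htop
  have hq : IsQuasisimple X := (Cfsg.Agent.S5017.result h).2 hperf
  refine ⟨?_, ?_, ?_⟩
  · rw [htop]; exact top_sup_eq _
  · have e : ↥(commutator X) ≃* X := (MulEquiv.subgroupCongr htop).trans Subgroup.topEquiv
    exact Cfsg.Agent.Helper21.isQuasisimple_of_mulEquiv e.symm hq
  · rw [hEq]; exact hcard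

end Cfsg.Agent.Helper63.R2
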