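import Mathlib
import Cfsg.Prelude.Def_LieExceptional
import Cfsg.Agent.Lib.Helper6.BNSimple

/-!
# REE piece (SIMPLE) `simple_rank_one` for helper36's server (S1069 / S1091 / S1073)
-/

set_option autoImplicit false

namespace Cfsg.Agent.Helper63.REE

open Cfsg

universe u

/-- (SIMPLE) a rank one BN-pair with solvable `B`, `G` perfect and `B` core-free is simple. -/
theorem simple_rank_one {G : Type u} [Group G] [Nontrivial G] (P : Cfsg.BNPair G) (s : G) (hS : P.S = {s})
    (hsolv : Group.IsSolvable ↥P.B) (hperf : commutator G = ⊤) (hcore : P.B.normalCore = ⊥) :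
    IsSimpleGroup G ∧ ¬ IsMulCommutative G := by
  have hirr : P.Irreducible := by
    intro J hJ hJne hdiff
    exfalso
    obtain ⟨a, ha⟩ := hJne
    obtain ⟨c, hc, hcJ⟩ := hdiff
    have h1 : a = s := by
      have := hJ ha
      rw [hS] at this
      exact this
    have h2 : c = s := by
      rw [hS] at hc
      exact hc
    exact hcJ (h2 ▸ h1 ▸ ha)
  refine ⟨Cfsg.Agent.Helper6.simple_of_irreducible P hirr hsolv hperf hcore, ?_⟩
  intro hcomm
  have h1 : commutator G = ⊥ := by
    rw [commutator_def, Subgroup.commutator_eq_bot_iff_le_centralizer]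
    intro x _
    rw [Subgroup.mem_centralizer_iff]
    intro y _
    exact hcomm.is_comm.comm y x
  rw [hperf] at h1
  exact top_ne_bot h1

end Cfsg.Agent.Helper63.REE
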