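import Cfsg.Agent.Lib.Helper64.S4017Defs
import Cfsg.Agent.Lib.Helper3.S4017DDefs
import Cfsg.Agent.Lib.Helper17.S4017Defs
import Cfsg.Agent.Lib.Helper63.S4017CQ
import Cfsg.Agent.Lib.Helper63.S4017D1

/-!
# (D2) `D_unique_inv` of helper64's lemma server "S4017M" (S4017)
-/

set_option autoImplicit false

namespace Cfsg.Agent.Helper63.S4017M

open Cfsg.Agent.Helper64.S4017

variable {G : Type*} [Group G] [Finite G] {a p : ℕ} {Q : Subgroup G} {x : G}

/-- (D2) -/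
theorem D_unique_inv (h : Setting a p Q x) (T : Tools a p Q x) (ha : a = 2)
    (hP1 : ¬ P1ne p Q) {t z u : G} (ht : t ∈ Q) (ht1 : t ≠ 1) (hz : IsPel p z) (hz1 : z ≠ 1)
    (hzt : z * t = t * z) (hu : IsInv u) (huz : u * z = z * u) (hut : u * t = t * u) : u = t := by
  obtain ⟨z', s', hz', hz't, hs', hu_eq⟩ := T.ct1 t ht ht1 u hut
  obtain ⟨Z, hZmem, hZcomm⟩ := T.ct t ht ht1
  have hp2 := p_ne_two h
  have hp := h.prime
  have e : z' * s' * (z' * s') = 1 := by rw [← hu_eq]; exact hu.2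
  have e2 : s' * z' * s'⁻¹ = z'⁻¹ := by
    rw [Q_inv h hs']
    calc s' * z' * s' = z'⁻¹ * (z' * s' * (z' * s')) := by group
      _ = z'⁻¹ := by rw [e, mul_one]
  by_cases hs'1 : s' = 1
  · exfalso
    rw [hs'1, mul_one] at hu_eq
    rw [← hu_eq] at hz'
    exact hu.1 (pel_sq_eq_one hp hp2 hz' hu.2)
  by_cases hs't : s' = t
  · rw [hs't] at e2
    have e3 : t * z' * t⁻¹ = z' := by rw [← hz't]; group
    rw [e3] at e2
    have e4 : z' * z' = 1 := by
      calc z' * z' = z' * z'⁻¹ := by rw [← e2]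
        _ = 1 := mul_inv_cancel z'
    have hz'1 : z' = 1 := pel_sq_eq_one hp hp2 hz' e4
    rw [hu_eq, hz'1, one_mul, hs't]
  · exfalso
    have hinv := D_inverts h T ha hP1 ht ht1 hs' hs'1 hs't hz hzt
    have hzZ : z ∈ Z := (hZmem z).mpr ⟨hzt, hz⟩
    have hz'Z : z' ∈ Z := (hZmem z').mpr ⟨hz't, hz'⟩
    have hzz' : z' * z = z * z' := hZcomm _ hz'Z _ hzZ
    have hs'eq : s' = z'⁻¹ * u := by rw [hu_eq]; group
    have hs'z : s' * z * s'⁻¹ = z := by
      rw [hs'eq]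
      calc z'⁻¹ * u * z * (z'⁻¹ * u)⁻¹ = z'⁻¹ * (u * z) * u⁻¹ * z' := by group
        _ = z'⁻¹ * (z * u) * u⁻¹ * z' := by rw [huz]
        _ = z'⁻¹ * (z * z') := by group
        _ = z'⁻¹ * (z' * z) := by rw [hzz']
        _ = z := by group
    rw [hs'z] at hinv
    have e4 : z * z = 1 := by
      calc z * z = z * z⁻¹ := by rw [← hinv]
        _ = 1 := mul_inv_cancel z
    exact hz1 (pel_sq_eq_one hp hp2 hz e4)

end Cfsg.Agent.Helper63.S4017M
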