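import Mathlib
import Cfsg.Agent.Lib.Helper14.SPIDefs

/-!
# SPI piece (FIX) `fix_decomp` for helper14's server (S5961)
-/

set_option autoImplicit false

namespace Cfsg.Agent.Helper63.SPI

open Module Polynomial Cfsg.Agent.Helper14.SPI

/-- (FIX) fixed/moved decomposition of an invariant nondegenerate subspace `W`.
`N = ∑_{m<r} x^m`, `N (x-1) = 0`, `N = r` on `ker (x-1)`; `w = r⁻¹ N w + (w - r⁻¹ N w)`. -/
theorem fix_decomp {F V : Type*} [Field F] [AddCommGroup V] [Module F V]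
    (B : LinearMap.BilinForm F V) (hB : B.IsAlt) (x : V →ₗ[F] V) (hx : IsIsom B x)
    (r : ℕ) (hr0 : (r : F) ≠ 0) (hxr : x ^ r = 1)
    (W : Submodule F V) (hWx : W.map x ≤ W) (hW : NondegOn B W) :
    (W ⊓ LinearMap.ker (x - 1)) ⊓ W.map (x - 1) = ⊥ ∧
    (W ⊓ LinearMap.ker (x - 1)) ⊔ W.map (x - 1) = W ∧
    (∀ u ∈ W ⊓ LinearMap.ker (x - 1), ∀ w ∈ W.map (x - 1), B u w = 0) ∧
    NondegOn B (W ⊓ LinearMap.ker (x - 1)) ∧ NondegOn B (W.map (x - 1)) ∧
    (W.map (x - 1)).map x ≤ W.map (x - 1) ∧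
    (∀ v ∈ W.map (x - 1), x v = v → v = 0) := by
  set N : Module.End F V := ∑ m ∈ Finset.range r, x ^ m with hN
  set T : Module.End F V := ∑ m ∈ Finset.range r, ∑ j ∈ Finset.range m, x ^ j with hT
  have hN1 : N * (x - 1) = 0 := by rw [hN, geom_sum_mul, hxr, sub_self]
  have hN2 : (x - 1) * N = 0 := by rw [hN, mul_geom_sum, hxr, sub_self]
  have hTN : (x - 1) * T = N - r • (1 : Module.End F V) := by
    rw [hT, Finset.mul_sum]
    have h1 : ∀ m ∈ Finset.range r, (x - 1) * ∑ j ∈ Finset.range m, x ^ j = x ^ m - 1 :=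
      fun m _ => mul_geom_sum x m
    rw [Finset.sum_congr rfl h1, Finset.sum_sub_distrib, Finset.sum_const, Finset.card_range]
  have hWxm : ∀ m : ℕ, ∀ w ∈ W, (x ^ m) w ∈ W := by
    intro m
    induction m with
    | zero => intro u hu; simpa using hu
    | succ m ih =>
      intro u hu
      rw [pow_succ', Module.End.mul_apply]
      exact hWx ⟨_, ih u hu, rfl⟩
  have hWN : ∀ w ∈ W, N w ∈ W := by
    intro w hw
    rw [hN, LinearMap.sum_apply]
    exact W.sum_mem fun m _ => hWxm m w hw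
  have hWT : ∀ w ∈ W, T w ∈ W := by
    intro w hw
    rw [hT, LinearMap.sum_apply]
    refine W.sum_mem fun m _ => ?_
    rw [LinearMap.sum_apply]
    exact W.sum_mem fun j _ => hWxm j w hw
  have hxN : ∀ w, x (N w) = N w := by
    intro w
    have h1 := congrArg (fun f : Module.End F V => f w) hN2
    simp only [Module.End.mul_apply, LinearMap.sub_apply, Module.End.one_apply,
      LinearMap.zero_apply] at h1
    exact sub_eq_zero.mp h1
  have hNfix : ∀ v, x v = v → N v = (r : F) • v := by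
    intro v hv
    have hxm : ∀ m : ℕ, (x ^ m) v = v := by
      intro m
      induction m with
      | zero => simp
      | succ m ih => rw [pow_succ, Module.End.mul_apply, hv, ih]
    rw [hN, LinearMap.sum_apply, Finset.sum_congr rfl (fun m _ => hxm m), Finset.sum_const,
      Finset.card_range, Nat.cast_smul_eq_nsmul]
  have hNM : ∀ w, N (x w - w) = 0 := by
    intro w
    have h1 := congrArg (fun f : Module.End F V => f w) hN1
    simp only [Module.End.mul_apply, LinearMap.sub_apply, Module.End.one_apply,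
      LinearMap.zero_apply] at h1
    exact h1
  have hdec : ∀ w, (r : F) • w = N w - (x (T w) - T w) := by
    intro w
    have h1 := congrArg (fun f : Module.End F V => f w) hTN
    simp only [Module.End.mul_apply, LinearMap.sub_apply, LinearMap.smul_apply,
      Module.End.one_apply] at h1
    rw [h1, Nat.cast_smul_eq_nsmul]
    abel
  have hKiff : ∀ u, u ∈ W ⊓ LinearMap.ker (x - 1) ↔ u ∈ W ∧ x u = u := by
    intro u
    rw [Submodule.mem_inf, LinearMap.mem_ker, LinearMap.sub_apply, Module.End.one_apply,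
      sub_eq_zero]
  have hMiff : ∀ v, v ∈ W.map (x - 1) ↔ ∃ w ∈ W, x w - w = v := by
    intro v
    rw [Submodule.mem_map]
    simp only [LinearMap.sub_apply, Module.End.one_apply]
  have hMW : W.map (x - 1) ≤ W := by
    intro v hv
    obtain ⟨w, hw, rfl⟩ := (hMiff v).1 hv
    exact W.sub_mem (hWx ⟨w, hw, rfl⟩) hw
  -- (i)
  have hi : (W ⊓ LinearMap.ker (x - 1)) ⊓ W.map (x - 1) = ⊥ := by
    rw [eq_bot_iff]
    rintro v ⟨hvK, hvM⟩
    obtain ⟨-, hxv⟩ := (hKiff v).1 hvK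
    obtain ⟨w, -, rfl⟩ := (hMiff v).1 hvM
    have h1 := hNfix _ hxv
    rw [hNM] at h1
    rw [Submodule.mem_bot]
    rcases smul_eq_zero.mp h1.symm with h2 | h2
    · exact absurd h2 hr0
    · exact h2
  -- decomposition of `w ∈ W`
  have hsplit : ∀ w ∈ W, ∃ k ∈ W ⊓ LinearMap.ker (x - 1), ∃ m ∈ W.map (x - 1), k + m = w := by
    intro w hw
    refine ⟨(r : F)⁻¹ • N w, (hKiff _).2 ⟨W.smul_mem _ (hWN w hw), ?_⟩,
      x (-((r : F)⁻¹ • T w)) - (-((r : F)⁻¹ • T w)),
      (hMiff _).2 ⟨-((r : F)⁻¹ • T w), W.neg_mem (W.smul_mem _ (hWT w hw)), rfl⟩, ?_⟩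
    · rw [map_smul, hxN]
    · have h1 := hdec w
      have h3 : (r : F)⁻¹ • N w + (x (-((r : F)⁻¹ • T w)) - (-((r : F)⁻¹ • T w))) =
          (r : F)⁻¹ • (N w - (x (T w) - T w)) := by
        rw [map_neg, map_smul, smul_sub, smul_sub]
        abel
      rw [h3, ← h1, smul_smul, inv_mul_cancel₀ hr0, one_smul]
  -- (iii)
  have hiii : ∀ u ∈ W ⊓ LinearMap.ker (x - 1), ∀ w ∈ W.map (x - 1), B u w = 0 := by
    intro u hu v hv
    obtain ⟨-, hxu⟩ := (hKiff u).1 hu
    obtain ⟨w, -, rfl⟩ := (hMiff v).1 hv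
    rw [map_sub]
    have h1 : B u (x w) = B u w := by
      conv_lhs => rw [← hxu]
      exact hx u w
    rw [h1, sub_self]
  have hiii' : ∀ u ∈ W ⊓ LinearMap.ker (x - 1), ∀ w ∈ W.map (x - 1), B w u = 0 := by
    intro u hu w hw
    rw [← hB.neg_eq, hiii u hu w hw, neg_zero]
  refine ⟨hi, ?_, hiii, ?_, ?_, ?_, ?_⟩
  · apply le_antisymm (sup_le inf_le_left hMW)
    intro w hw
    obtain ⟨k, hk, m, hm, rfl⟩ := hsplit w hw
    exact Submodule.add_mem_sup hk hm
  · intro u hu hu0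
    obtain ⟨v, hv, hBv⟩ := hW u ((hKiff u).1 hu).1 hu0
    obtain ⟨k, hk, m, hm, rfl⟩ := hsplit v hv
    refine ⟨k, hk, ?_⟩
    rw [map_add, hiii u hu m hm, add_zero] at hBv
    exact hBv
  · intro u hu hu0
    obtain ⟨v, hv, hBv⟩ := hW u (hMW hu) hu0
    obtain ⟨k, hk, m, hm, rfl⟩ := hsplit v hv
    refine ⟨m, hm, ?_⟩
    rw [map_add, hiii' k hk u hu, zero_add] at hBv
    exact hBv
  · rintro _ ⟨v, hv, rfl⟩
    obtain ⟨w, hw, rfl⟩ := (hMiff v).1 hv
    refine (hMiff _).2 ⟨x w, hWx ⟨w, hw, rfl⟩, ?_⟩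
    rw [map_sub]
  · intro v hv hxv
    have h1 : v ∈ (W ⊓ LinearMap.ker (x - 1)) ⊓ W.map (x - 1) :=
      ⟨(hKiff v).2 ⟨hMW hv, hxv⟩, hv⟩
    rw [hi] at h1
    exact (Submodule.mem_bot F).1 h1

end Cfsg.Agent.Helper63.SPI
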