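import Mathlib
import Cfsg.Agent.Lib.Helper2.SR0
import Cfsg.Agent.Lib.Helper63.SRK1

/-!
# SR (K2) seed  (helper2 server, S2281; piece by helper63)
-/

set_option autoImplicit false

namespace Cfsg.Agent.Helper63.SR

open Matrix Cfsg Cfsg.Agent.Helper13 Cfsg.Agent.Helper84.SpRoot Cfsg.Agent.Helper5.SpAut
open Cfsg.Agent.Helper2.SR

section A
variable {F : Type*} [Field F] {n : ℕ}
  {H : Subgroup (Matrix.symplecticGroup (Fin n) F)} {e0 : Fin n ⊕ Fin n → F}

/-- local copy of (A3): transvections with centre in the orbit and parameter in `MM` lie in `H` -/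
theorem h63_tv_of_orb {x : Fin n ⊕ Fin n → F} (hx : x ∈ Orb H e0) {c : F} (hc : c ∈ MM H e0) :
    sympT x c ∈ H := by
  obtain ⟨h, hh, rfl⟩ := hx
  rw [← conj_sympT]
  exact mul_mem (mul_mem hh hc) (inv_mem hh)

/-- `MM` is closed under negation -/
theorem h63_MM_neg {c : F} (hc : c ∈ MM H e0) : -c ∈ MM H e0 := by
  show sympT e0 (-c) ∈ H
  rw [← sympT_inv]
  exact inv_mem hc

end A

section K
variable {F : Type*} [Field F] {n : ℕ}
  {H : Subgroup (Matrix.symplecticGroup (Fin n) F)} {u l : Matrix.symplecticGroup (Fin n) F}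
  {e0 e1 p : Fin n ⊕ Fin n → F} {κ γ : F}

/-- the identity behind (K2) -/
theorem h63_seed_identity (h10 : Cfsg.sympForm n F e1 e0 = 0) (c : F) :
    sympT (e1 + e0) c * sympT e1 (-c) = eich e0 (c • e1) c := by
  have h : Cfsg.sympForm n F (c • e1) e0 = 0 := by rw [sympForm_smul_left, h10, mul_zero]
  apply sp_ext
  intro x
  rw [mul_act, sympT_act, sympT_act, eich_act h]
  simp only [sympForm_add_left, sympForm_add_right, sympForm_smul_left, sympForm_smul_right,
    sympForm_self, h10]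
  module

/-- (K2) `sympT (e1 + e0) c * sympT e1 (-c) = eich e0 (c • e1) c` -/
theorem seed (hyp : Hyp H u l e0 e1 p κ γ) {c : F} (hc : c ∈ MM H e0) :
    c • e1 ∈ QQ H e0 := by
  obtain ⟨h1, h2, -⟩ := orb_basic hyp
  refine ⟨by rw [sympForm_smul_left, hyp.e1e0, mul_zero], c, ?_⟩
  rw [← h63_seed_identity hyp.e1e0 c]
  exact mul_mem (h63_tv_of_orb h2 hc) (h63_tv_of_orb h1 (h63_MM_neg hc))

end K

end Cfsg.Agent.Helper63.SR
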