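import Cfsg.Agent.Lib.Helper63.SU3Inv

/-!
# The commuting involution graph of `SU₃(q)`, `q` odd: vector counts
-/

set_option autoImplicit false
set_option linter.unusedSectionVars false
open Cfsg

namespace Cfsg.Agent.Helper63.SU3

open Matrix Module Cfsg.Agent.Lead Cfsg.Agent.Helper19

variable {K : Type*} [Field K] [Fintype K] {q : ℕ} {hK : Fintype.card K = q ^ 2}

/-- transfer of counts from involutions to their axes -/
theorem card_transfer (hq : Odd q) (t : Cfsg.SU 3 K q) (ht : t ≠ 1) (ht2 : t * t = 1)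
    (P : Cfsg.SU 3 K q → Prop) (Q : (Fin 3 → K) → Prop)
    (hPQ : ∀ (x : Cfsg.SU 3 K q) (v : Fin 3 → K), x ≠ 1 → x * x = 1 → IsRefl hK (mat x) v →
      (P x ↔ Q v)) :
    Nat.card {x : Cfsg.SU 3 K q // (x ≠ 1 ∧ x * x = 1) ∧ P x} * (q ^ 2 - 1)
      = Nat.card {v : Fin 3 → K // stdHerm hK 3 v v ≠ 0 ∧ Q v} := by
  classical
  have h2 : (2 : K) ≠ 0 := two_ne_zero_of_odd hK hq
  have hex : ∀ u : {v : Fin 3 → K // stdHerm hK 3 v v ≠ 0 ∧ Q v},
      ∃ x : {x : Cfsg.SU 3 K q // (x ≠ 1 ∧ x * x = 1) ∧ P x}, IsRefl hK (mat x.1) u.1 := by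
    intro u
    obtain ⟨x, h1, h2, h3⟩ := exists_involution_of_aniso hq t ht ht2 u.2.1
    exact ⟨⟨x, ⟨h1, h2⟩, (hPQ x u.1 h1 h2 h3).mpr u.2.2⟩, h3⟩
  choose f hf using hex
  rw [← Nat.card_congr (Equiv.sigmaFiberEquiv f), Nat.card_sigma]
  have hfib : ∀ x : {x : Cfsg.SU 3 K q // (x ≠ 1 ∧ x * x = 1) ∧ P x},
      Nat.card {u : {v : Fin 3 → K // stdHerm hK 3 v v ≠ 0 ∧ Q v} // f u = x} = q ^ 2 - 1 := by
    intro x
    obtain ⟨u₀, hu₀⟩ := exists_isRefl (hK := hK) hq x.1 x.2.1.1 x.2.1.2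
    have hu00 : u₀ ≠ 0 := by
      rintro rfl
      exact hu₀.1 ((stdHerm hK 3).zero_left 0)
    let φ : Kˣ → {u : {v : Fin 3 → K // stdHerm hK 3 v v ≠ 0 ∧ Q v} // f u = x} := fun c =>
      ⟨⟨(c : K) • u₀, (hu₀.smul c.ne_zero).1,
          (hPQ x.1 _ x.2.1.1 x.2.1.2 (hu₀.smul c.ne_zero)).mp x.2.2⟩, by
        apply Subtype.ext
        apply mat_injective
        exact (hf _).unique (hu₀.smul c.ne_zero)⟩
    have hφ : Function.Bijective φ := by
      constructor
      · intro c c' hcc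
        have h3 : (c : K) • u₀ = (c' : K) • u₀ :=
          congrArg (fun z : {u : {v : Fin 3 → K // stdHerm hK 3 v v ≠ 0 ∧ Q v} // f u = x} =>
            z.1.1) hcc
        have h4 : ((c : K) - (c' : K)) • u₀ = 0 := by rw [sub_smul, h3, sub_self]
        apply Units.ext
        exact sub_eq_zero.mp ((smul_eq_zero.mp h4).resolve_right hu00)
      · intro u
        have h3 : IsRefl hK (mat x.1) u.1.1 := by
          have := hf u.1
          rwa [u.2] at this
        obtain ⟨c, hc0, hc⟩ := hu₀.axis_unique h2 h3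
        refine ⟨Units.mk0 c hc0, ?_⟩
        apply Subtype.ext
        apply Subtype.ext
        exact hc.symm
    rw [← Nat.card_eq_of_bijective φ hφ, Nat.card_units, Nat.card_eq_fintype_card, hK]
  simp only [hfib, Finset.sum_const, Finset.card_univ, smul_eq_mul, Nat.card_eq_fintype_card]

/-- three independent vectors span `K³` -/
lemma span_of_indep3 {a b c : Fin 3 → K}
    (hind : ∀ α β γ : K, α • a + β • b + γ • c = 0 → α = 0 ∧ β = 0 ∧ γ = 0) (x : Fin 3 → K) :
    ∃ α β γ : K, x = α • a + β • b + γ • c := by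
  have hli : LinearIndependent K ![a, b, c] := by
    rw [Fintype.linearIndependent_iff]
    intro g hg
    rw [Fin.sum_univ_three] at hg
    obtain ⟨h0, h1, h2⟩ := hind (g 0) (g 1) (g 2) (by simpa using hg)
    intro i
    fin_cases i
    · exact h0
    · exact h1
    · exact h2
  have htop := hli.span_eq_top_of_card_eq_finrank' (by simp)
  have hu : x ∈ Submodule.span K (Set.range ![a, b, c]) := by rw [htop]; trivial
  obtain ⟨g, hg⟩ := (Submodule.mem_span_range_iff_exists_fun K).mp hu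
  rw [Fin.sum_univ_three] at hg
  exact ⟨g 0, g 1, g 2, by simpa using hg.symm⟩

/-- an isotropic vector perpendicular to two perpendicular anisotropic vectors vanishes -/
lemma eq_zero_of_iso_perp {u r w : Fin 3 → K} (hu : stdHerm hK 3 u u ≠ 0)
    (hr : stdHerm hK 3 r r ≠ 0) (hur : stdHerm hK 3 u r = 0) (hwu : stdHerm hK 3 w u = 0)
    (hwr : stdHerm hK 3 w r = 0) (hww : stdHerm hK 3 w w = 0) : w = 0 := by
  set B := stdHerm hK 3
  have hq0 := q_ne_zero hK
  have hru : B r u = 0 := B.eq_zero_symm hur hq0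
  have huw : B u w = 0 := B.eq_zero_symm hwu hq0
  have hrw : B r w = 0 := B.eq_zero_symm hwr hq0
  by_contra hw0
  have hind : ∀ α β γ : K, α • u + β • r + γ • w = 0 → α = 0 ∧ β = 0 ∧ γ = 0 := by
    intro α β γ h
    have h1 : B (α • u + β • r + γ • w) u = 0 := by rw [h, B.zero_left]
    have h2 : B (α • u + β • r + γ • w) r = 0 := by rw [h, B.zero_left]
    simp only [B.add_left, B.smul_left] at h1 h2
    rw [hru, hwu] at h1
    rw [hur, hwr] at h2
    have hα : α = 0 := by
      have : α * B u u = 0 := by linear_combination h1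
      exact (mul_eq_zero.mp this).resolve_right hu
    have hβ : β = 0 := by
      have : β * B r r = 0 := by linear_combination h2
      exact (mul_eq_zero.mp this).resolve_right hr
    rw [hα, hβ, zero_smul, zero_smul, zero_add, zero_add] at h
    exact ⟨hα, hβ, (smul_eq_zero.mp h).resolve_right hw0⟩
  apply hw0
  apply stdHerm_nondeg hK 3
  intro x
  obtain ⟨α, β, γ, rfl⟩ := span_of_indep3 hind x
  show B (α • u + β • r + γ • w) w = 0
  simp only [B.add_left, B.smul_left]
  rw [huw, hrw, hww]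
  ring


section perpcounts

variable {u : Fin 3 → K} (hu : stdHerm hK 3 u u = 1)
include hu

/-- the number of isotropic vectors perpendicular to a vector of norm one -/
theorem card_iso_perp :
    Nat.card {w : Fin 3 → K // stdHerm hK 3 w u = 0 ∧ stdHerm hK 3 w w = 0} + q
      = q ^ 3 + q ^ 2 := by
  set B := stdHerm hK 3 with hB
  have hfr : finrank K (B.perp u) = 2 := by
    rw [HermForm.finrank_perp hu, Module.finrank_fin_fun]
  have h1 : Nat.card {w : B.perp u // (B.restrict (B.perp u)) w w = 0} = hermCount K q 2 0 :=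
    card_norm hK 2 (B.perp u) (B.restrict (B.perp u))
      (HermForm.nondeg_restrict_perp hK (stdHerm_nondeg hK 3) hu) hfr 0
  have e : {w : B.perp u // (B.restrict (B.perp u)) w w = 0}
      ≃ {w : Fin 3 → K // B w u = 0 ∧ B w w = 0} :=
    (Equiv.subtypeSubtypeEquivSubtypeInter (fun w : Fin 3 → K => w ∈ B.perp u)
      (fun w => B w w = 0)).trans
      (Equiv.subtypeEquivRight (fun w => by rw [HermForm.mem_perp]))
  rw [← Nat.card_congr e, h1]
  have h2 := (hermCount_formula hK 2).1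
  have hq0 : (q : ℤ) ≠ 0 := by
    have := q_ne_zero hK
    exact_mod_cast this
  have h3 : (hermCount K q 2 0 : ℤ) + (q : ℤ) = (q : ℤ) ^ 3 + (q : ℤ) ^ 2 := by
    apply mul_left_cancel₀ hq0
    rw [mul_add, h2]
    ring
  exact_mod_cast h3

/-- the number of vectors perpendicular to a vector of norm one -/
theorem card_perp : Nat.card {w : Fin 3 → K // stdHerm hK 3 w u = 0} = q ^ 4 := by
  classical
  set B := stdHerm hK 3 with hB
  have hfr : finrank K (B.perp u) = 2 := by
    rw [HermForm.finrank_perp hu, Module.finrank_fin_fun]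
  have e : (B.perp u) ≃ {w : Fin 3 → K // B w u = 0} :=
    Equiv.subtypeEquivRight (fun w => by rw [HermForm.mem_perp])
  rw [← Nat.card_congr e, Nat.card_eq_fintype_card, Module.card_eq_pow_finrank (K := K), hfr, hK]
  ring

/-- the number of anisotropic vectors perpendicular to a vector of norm one -/
theorem card_aniso_perp :
    Nat.card {w : Fin 3 → K // stdHerm hK 3 w w ≠ 0 ∧ stdHerm hK 3 w u = 0} + q ^ 3 + q ^ 2
      = q ^ 4 + q := by
  classical
  set B := stdHerm hK 3 with hB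
  have h1 := Nat.card_congr (Equiv.sumCompl
    (fun w : {w : Fin 3 → K // B w u = 0} => B w.1 w.1 = 0))
  rw [Nat.card_sum, card_perp hu] at h1
  have e1 : {w : {w : Fin 3 → K // B w u = 0} // B w.1 w.1 = 0}
      ≃ {w : Fin 3 → K // B w u = 0 ∧ B w w = 0} :=
    Equiv.subtypeSubtypeEquivSubtypeInter (fun w : Fin 3 → K => B w u = 0) (fun w => B w w = 0)
  have e2 : {w : {w : Fin 3 → K // B w u = 0} // ¬ B w.1 w.1 = 0}
      ≃ {w : Fin 3 → K // B w w ≠ 0 ∧ B w u = 0} :=
    (Equiv.subtypeSubtypeEquivSubtypeInter (fun w : Fin 3 → K => B w u = 0)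
      (fun w => ¬ B w w = 0)).trans (Equiv.subtypeEquivRight (fun w => by
        constructor
        · rintro ⟨a, b⟩; exact ⟨b, a⟩
        · rintro ⟨a, b⟩; exact ⟨b, a⟩))
  rw [Nat.card_congr e1, Nat.card_congr e2] at h1
  have h2 : Nat.card {w : Fin 3 → K // B w u = 0 ∧ B w w = 0} + q = q ^ 3 + q ^ 2 :=
    card_iso_perp hu
  omega

/-- the number of vectors `α u + w` with `α ≠ 0` and `w ≠ 0` isotropic perpendicular to `u` -/
theorem card_tangent :
    Nat.card {v : Fin 3 → K // stdHerm hK 3 v v ≠ 0 ∧ ∃ (α : K) (w : Fin 3 → K), α ≠ 0 ∧ w ≠ 0 ∧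
        stdHerm hK 3 w u = 0 ∧ stdHerm hK 3 w w = 0 ∧ v = α • u + w} + (q ^ 2 - 1) * (q + 1)
      = (q ^ 2 - 1) * (q ^ 3 + q ^ 2) := by
  classical
  set B := stdHerm hK 3 with hB
  have hq0 := q_ne_zero hK
  -- nonzero isotropic vectors of the perp
  have h1 := Nat.card_congr (Equiv.sumCompl
    (fun w : {w : Fin 3 → K // B w u = 0 ∧ B w w = 0} => w.1 = 0))
  rw [Nat.card_sum] at h1
  have hone : Nat.card {w : {w : Fin 3 → K // B w u = 0 ∧ B w w = 0} // w.1 = 0} = 1 := by
    rw [Nat.card_eq_one_iff_unique]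
    refine ⟨⟨?_⟩, ⟨⟨⟨0, B.zero_left _, B.zero_left _⟩, rfl⟩⟩⟩
    rintro ⟨⟨a, ha⟩, ha0⟩ ⟨⟨b, hb⟩, hb0⟩
    apply Subtype.ext
    apply Subtype.ext
    show a = b
    rw [show a = 0 from ha0, show b = 0 from hb0]
  rw [hone] at h1
  have h2 : Nat.card {w : Fin 3 → K // B w u = 0 ∧ B w w = 0} + q = q ^ 3 + q ^ 2 :=
    card_iso_perp hu
  -- the parametrisation
  let ψ : Kˣ × {w : {w : Fin 3 → K // B w u = 0 ∧ B w w = 0} // ¬ w.1 = 0} →
      {v : Fin 3 → K // B v v ≠ 0 ∧ ∃ (α : K) (w : Fin 3 → K), α ≠ 0 ∧ w ≠ 0 ∧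
        B w u = 0 ∧ B w w = 0 ∧ v = α • u + w} := fun p =>
    ⟨(p.1 : K) • u + p.2.1.1, by
      have huw : B u p.2.1.1 = 0 := B.eq_zero_symm p.2.1.2.1 hq0
      show B ((p.1 : K) • u + p.2.1.1) ((p.1 : K) • u + p.2.1.1) ≠ 0
      simp only [B.add_left, B.add_right hK, B.smul_left, B.smul_right]
      rw [hu, huw, p.2.1.2.1, p.2.1.2.2]
      simp only [mul_zero, add_zero, mul_one]
      exact mul_ne_zero p.1.ne_zero (pow_ne_zero q p.1.ne_zero),
      (p.1 : K), p.2.1.1, p.1.ne_zero, p.2.2, p.2.1.2.1, p.2.1.2.2, rfl⟩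
  have hψ : Function.Bijective ψ := by
    constructor
    · rintro ⟨a, ⟨⟨w, hw⟩, hw0⟩⟩ ⟨a', ⟨⟨w', hw'⟩, hw'0⟩⟩ h
      have h3 : (a : K) • u + w = (a' : K) • u + w' := congrArg Subtype.val h
      have h4 : B ((a : K) • u + w) u = B ((a' : K) • u + w') u := by rw [h3]
      simp only [B.add_left, B.smul_left] at h4
      rw [hu, hw.1, hw'.1] at h4
      have h5 : (a : K) = (a' : K) := by linear_combination h4
      have h6 : w = w' := by
        rw [h5] at h3
        exact add_left_cancel h3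
      have h7 : a = a' := Units.ext h5
      subst h7
      subst h6
      rfl
    · rintro ⟨v, hv, α, w, hα, hw0, hwu, hww, rfl⟩
      exact ⟨⟨Units.mk0 α hα, ⟨⟨w, hwu, hww⟩, hw0⟩⟩, rfl⟩
  rw [← Nat.card_eq_of_bijective ψ hψ, Nat.card_prod, Nat.card_units, Nat.card_eq_fintype_card (α := K),
    hK]
  set n := Nat.card {w : {w : Fin 3 → K // B w u = 0 ∧ B w w = 0} // ¬ w.1 = 0}
  have hn : n + 1 + q = q ^ 3 + q ^ 2 := by omega
  have : n + (q + 1) = q ^ 3 + q ^ 2 := by omega
  rw [← Nat.mul_add, this]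

end perpcounts


section graph

variable (hq : Odd q) {t : Cfsg.SU 3 K q} (ht : t ≠ 1) (ht2 : t * t = 1) {u : Fin 3 → K}
  (hu : IsRefl hK (mat t) u)
include hq ht ht2 hu

/-- commuting with `t` and different from `t` means: axis perpendicular to the axis of `t` -/
theorem commute_iff_perp {x : Cfsg.SU 3 K q} {v : Fin 3 → K} (hx2 : x * x = 1)
    (hv : IsRefl hK (mat x) v) : (x ≠ t ∧ Commute t x) ↔ stdHerm hK 3 v u = 0 := by
  have h2 : (2 : K) ≠ 0 := two_ne_zero_of_odd hK hq
  have hq0 := q_ne_zero hK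
  constructor
  · rintro ⟨hne, hc⟩
    exact (stdHerm hK 3).eq_zero_symm (perp_of_commute hq hu hv hx2 (Ne.symm hne) hc) hq0
  · intro hperp
    refine ⟨?_, commute_of_perp hu hv ((stdHerm hK 3).eq_zero_symm hperp hq0)⟩
    rintro rfl
    obtain ⟨c, hc0, hc⟩ := hu.axis_unique h2 hv
    rw [hc, (stdHerm hK 3).smul_left] at hperp
    exact hu.1 ((mul_eq_zero.mp hperp).resolve_left hc0)

/-- a common neighbour of `t` and the involution with axis `w`, for `w` perpendicular to `u` -/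
theorem exists_common_neighbor {w : Fin 3 → K} (hw : stdHerm hK 3 w w ≠ 0)
    (hwu : stdHerm hK 3 w u = 0) :
    ∃ (y : Cfsg.SU 3 K q) (r : Fin 3 → K), y ≠ 1 ∧ y * y = 1 ∧ Commute t y ∧
      IsRefl hK (mat y) r ∧ stdHerm hK 3 r u = 0 ∧ stdHerm hK 3 r w = 0 := by
  have hq0 := q_ne_zero hK
  obtain ⟨x', hx'1, hx'2, hx'⟩ := exists_involution_of_aniso hq t ht ht2 hw
  obtain ⟨hne, hc⟩ := (commute_iff_perp hq ht ht2 hu hx'2 hx').mpr hwu
  have hc' : t * x' = x' * t := hc.eq
  have hy1 : t * x' ≠ 1 := by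
    intro h
    apply hne
    have htinv : t⁻¹ = t := inv_eq_of_mul_eq_one_right ht2
    rw [← htinv]; exact eq_inv_of_mul_eq_one_right h
  have hy2 : t * x' * (t * x') = 1 := by
    calc t * x' * (t * x') = t * (x' * t) * x' := by group
      _ = t * (t * x') * x' := by rw [hc']
      _ = (t * t) * (x' * x') := by group
      _ = 1 := by rw [ht2, hx'2]; group
  have hcy : Commute t (t * x') := by
    show t * (t * x') = t * x' * t
    rw [mul_assoc, hc']
  have hcy' : Commute x' (t * x') := by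
    show x' * (t * x') = t * x' * x'
    rw [← mul_assoc, hc']
  have hyt : t ≠ t * x' := by
    intro h
    apply hx'1
    have : t * 1 = t * x' := by rw [mul_one]; exact h
    exact (mul_left_cancel this).symm
  have hyx : x' ≠ t * x' := by
    intro h
    apply ht
    have : 1 * x' = t * x' := by rw [one_mul]; exact h
    exact (mul_right_cancel this).symm
  obtain ⟨r, hr⟩ := exists_isRefl (hK := hK) hq (t * x') hy1 hy2
  refine ⟨t * x', r, hy1, hy2, hcy, hr, ?_, ?_⟩
  · exact (stdHerm hK 3).eq_zero_symm (perp_of_commute hq hu hr hy2 hyt hcy) hq0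
  · exact (stdHerm hK 3).eq_zero_symm (perp_of_commute hq hx' hr hy2 hyx hcy') hq0

/-- the involutions at distance three from `t` are those whose axis is `α u + w` with `α ≠ 0`
and `w ≠ 0` isotropic and perpendicular to `u` -/
theorem dist_three_iff {x : Cfsg.SU 3 K q} {v : Fin 3 → K} (hx1 : x ≠ 1) (hx2 : x * x = 1)
    (hv : IsRefl hK (mat x) v) :
    (¬ Commute t x ∧ ∀ y : Cfsg.SU 3 K q, y ≠ 1 → y * y = 1 → ¬ (Commute t y ∧ Commute y x)) ↔
      ∃ (α : K) (w : Fin 3 → K), α ≠ 0 ∧ w ≠ 0 ∧ stdHerm hK 3 w u = 0 ∧ stdHerm hK 3 w w = 0 ∧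
        v = α • u + w := by
  have h2 : (2 : K) ≠ 0 := two_ne_zero_of_odd hK hq
  have hq0 := q_ne_zero hK
  set B := stdHerm hK 3 with hB
  constructor
  · rintro ⟨hnc, hall⟩
    set α := B v u / B u u with hα
    set w := v - α • u with hw
    have hwu : B w u = 0 := perp_part hu.1 v
    have hve : v = α • u + w := by rw [hw]; abel
    have hα0 : α ≠ 0 := by
      intro h0
      apply hnc
      have hvu : B v u = 0 := by
        have : B v u = α * B u u := by rw [hα, div_mul_cancel₀ _ hu.1]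
        rw [this, h0, zero_mul]
      exact ((commute_iff_perp hq ht ht2 hu hx2 hv).mpr hvu).2
    have hw0 : w ≠ 0 := by
      intro h0
      apply hnc
      rw [h0, add_zero] at hve
      have h3 : IsRefl hK (mat t) v := by rw [hve]; exact hu.smul hα0
      have : t = x := mat_injective (h3.unique hv)
      rw [this]
    refine ⟨α, w, hα0, hw0, hwu, ?_, hve⟩
    by_contra hww
    obtain ⟨y, r, hy1, hy2, hcy, hr, hru, hrw⟩ := exists_common_neighbor hq ht ht2 hu hww hwu
    apply hall y hy1 hy2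
    refine ⟨hcy, ?_⟩
    apply commute_of_perp hr hv
    rw [hve, B.add_right hK, B.smul_right, hru, hrw]
    ring
  · rintro ⟨α, w, hα0, hw0, hwu, hww, hve⟩
    have hvu : B v u = α * B u u := by
      rw [hve, B.add_left, B.smul_left, hwu, add_zero]
    have hnc : ¬ Commute t x := by
      intro hc
      by_cases hxt : x = t
      · subst hxt
        obtain ⟨c, hc0, hcv⟩ := hu.axis_unique h2 hv
        have h3 : w = (c - α) • u := by
          rw [sub_smul, ← hcv, hve]; abel
        rw [h3, B.smul_left] at hwu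
        have h4 : c - α = 0 := (mul_eq_zero.mp hwu).resolve_right hu.1
        rw [h4, zero_smul] at h3
        exact hw0 h3
      · have := (commute_iff_perp hq ht ht2 hu hx2 hv).mp ⟨hxt, hc⟩
        rw [hvu] at this
        exact hα0 ((mul_eq_zero.mp this).resolve_right hu.1)
    refine ⟨hnc, ?_⟩
    rintro y hy1 hy2 ⟨hcy, hcyx⟩
    obtain ⟨r, hr⟩ := exists_isRefl (hK := hK) hq y hy1 hy2
    have hyt : y ≠ t := by
      rintro rfl
      exact hnc hcyx
    have hyx : y ≠ x := by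
      rintro rfl
      exact hnc hcy
    have hru : B r u = 0 := (commute_iff_perp hq ht ht2 hu hy2 hr).mp ⟨hyt, hcy⟩
    have hrv : B r v = 0 := perp_of_commute hq hr hv hx2 hyx hcyx
    have hrw : B r w = 0 := by
      rw [hve, B.add_right hK, B.smul_right, hru, mul_zero, zero_add] at hrv
      exact hrv
    apply hw0
    exact eq_zero_of_iso_perp hu.1 hr.1 (B.eq_zero_symm hru hq0) hwu (B.eq_zero_symm hrw hq0) hww


/-- an anisotropic vector perpendicular to `u` -/
theorem exists_aniso_perp : ∃ y₀ : Fin 3 → K, stdHerm hK 3 y₀ y₀ ≠ 0 ∧ stdHerm hK 3 y₀ u = 0 := by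
  obtain ⟨l, hl0, hl⟩ := exists_smul_norm_one hu.1
  obtain ⟨x, hx, hx0⟩ := exists_frame hl
  refine ⟨x 1, ?_, ?_⟩
  · rw [hx 1 1]; simp
  · have h1 : stdHerm hK 3 (x 1) (x 0) = 0 := by rw [hx 1 0]; simp
    rw [hx0, (stdHerm hK 3).smul_right] at h1
    exact (mul_eq_zero.mp h1).resolve_left (pow_ne_zero q hl0)

/-- a path of length three from `t` to an involution at distance three -/
theorem exists_path_three {x : Cfsg.SU 3 K q} {v : Fin 3 → K} (hv : IsRefl hK (mat x) v)
    {α : K} {w : Fin 3 → K} (hα0 : α ≠ 0) (hw0 : w ≠ 0) (hwu : stdHerm hK 3 w u = 0)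
    (hww : stdHerm hK 3 w w = 0) (hve : v = α • u + w) :
    ∃ y z : Cfsg.SU 3 K q, y ≠ 1 ∧ y * y = 1 ∧ z ≠ 1 ∧ z * z = 1 ∧
      Commute t y ∧ Commute y z ∧ Commute z x := by
  have h2 : (2 : K) ≠ 0 := two_ne_zero_of_odd hK hq
  have hq0 := q_ne_zero hK
  set B := stdHerm hK 3 with hB
  have huw : B u w = 0 := B.eq_zero_symm hwu hq0
  obtain ⟨y₀, hy₀, hy₀u⟩ := exists_aniso_perp hq ht ht2 hu
  have huy₀ : B u y₀ = 0 := B.eq_zero_symm hy₀u hq0
  set β₀ := B y₀ w with hβ₀
  have hβ₀0 : β₀ ≠ 0 := by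
    intro h0
    apply hw0
    exact eq_zero_of_iso_perp hu.1 hy₀ huy₀ hwu (B.eq_zero_symm h0 hq0) hww
  have hwy₀ : B w y₀ = β₀ ^ q := B.conj y₀ w
  set n₀ := B y₀ y₀ with hn₀
  set a : K := -β₀ / (α ^ q * B u u) with ha
  have hden : α ^ q * B u u ≠ 0 := mul_ne_zero (pow_ne_zero q hα0) hu.1
  have ha0 : a ≠ 0 := div_ne_zero (neg_ne_zero.mpr hβ₀0) hden
  set κ : K := a * a ^ q * B u u with hκ
  have hκ0 : κ ≠ 0 := mul_ne_zero (mul_ne_zero ha0 (pow_ne_zero q ha0)) hu.1
  obtain ⟨c₀, hc₀⟩ := HermForm.exists_trace_ne_zero (F := K) hK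
  set τ := c₀ + c₀ ^ q with hτ
  have h2τ : τ + τ ≠ 0 := by
    intro h
    have : (2 : K) * τ = 0 := by linear_combination h
    exact hc₀ ((mul_eq_zero.mp this).resolve_left h2)
  -- choose `μ` with a good trace
  obtain ⟨μ, hg1, hg2⟩ : ∃ μ : K, n₀ + (μ + μ ^ q) ≠ 0 ∧ κ + n₀ + (μ + μ ^ q) ≠ 0 := by
    by_contra hcon
    push Not at hcon
    have e0 := hcon 0
    have e1 := hcon c₀
    have e2 := hcon (-c₀)
    rw [zero_pow hq0, add_zero] at e0
    rw [Odd.neg_pow hq] at e2
    have t2 : -c₀ + -c₀ ^ q = -τ := by rw [hτ]; ring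
    rw [t2] at e2
    rw [← hτ] at e1
    by_cases A0 : n₀ + 0 = 0
    · by_cases A1 : n₀ + τ = 0
      · exact hc₀ (by linear_combination A1 - A0)
      · have B1 := e1 A1
        by_cases A2 : n₀ + -τ = 0
        · exact hc₀ (by linear_combination A0 - A2)
        · have B2 := e2 A2
          exact h2τ (by linear_combination B1 - B2)
    · have B0 := e0 A0
      by_cases A1 : n₀ + τ = 0
      · by_cases A2 : n₀ + -τ = 0
        · exact h2τ (by linear_combination A1 - A2)
        · have B2 := e2 A2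
          exact hc₀ (by linear_combination B0 - B2)
      · have B1 := e1 A1
        exact hc₀ (by linear_combination B1 - B0)
  set lam : K := μ / β₀ ^ q with hlam
  have hβq : β₀ ^ q ≠ 0 := pow_ne_zero q hβ₀0
  have hlam1 : lam * β₀ ^ q = μ := by rw [hlam, div_mul_cancel₀ _ hβq]
  have hβqq : (β₀ ^ q) ^ q = β₀ := by
    have := FiniteField.pow_card β₀
    rw [hK] at this
    rw [← pow_mul, ← sq, this]
  have hlam2 : lam ^ q * β₀ = μ ^ q := by
    rw [← hlam1, mul_pow, hβqq]
  set y' := y₀ + lam • w with hy'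
  have hy'u : B y' u = 0 := by
    rw [hy', B.add_left, B.smul_left, hy₀u, hwu]; ring
  have hy'w : B y' w = β₀ := by
    rw [hy', B.add_left, B.smul_left, hww]; ring
  have hy'y' : B y' y' = n₀ + (μ + μ ^ q) := by
    rw [hy']
    simp only [B.add_left, B.add_right hK, B.smul_left, B.smul_right]
    rw [hww, hwy₀, ← hβ₀, ← hn₀]
    linear_combination hlam1 + hlam2
  set z := a • u + y' with hz
  have huy' : B u y' = 0 := B.eq_zero_symm hy'u hq0
  have hzz : B z z = κ + n₀ + (μ + μ ^ q) := by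
    rw [hz]
    simp only [B.add_left, B.add_right hK, B.smul_left, B.smul_right]
    rw [huy', hy'u, hy'y', hκ]
    ring
  have hzv : B z v = 0 := by
    rw [hz, hve]
    simp only [B.add_left, B.add_right hK, B.smul_left, B.smul_right]
    rw [huw, hy'u, hy'w, ha]
    have huu : B u u ≠ 0 := hu.1
    have hαq : α ^ q ≠ 0 := pow_ne_zero q hα0
    field_simp
    ring
  have hy'an : B y' y' ≠ 0 := by rw [hy'y']; exact hg1
  have hzan : B z z ≠ 0 := by rw [hzz]; exact hg2
  obtain ⟨Y, r, hY1, hY2, hcY, hr, hru, hry'⟩ := exists_common_neighbor hq ht ht2 hu hy'an hy'u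
  obtain ⟨Z, hZ1, hZ2, hZ⟩ := exists_involution_of_aniso hq t ht ht2 hzan
  refine ⟨Y, Z, hY1, hY2, hZ1, hZ2, hcY, ?_, ?_⟩
  · apply commute_of_perp hr hZ
    rw [hz, B.add_right hK, B.smul_right, hru, hry']
    ring
  · exact commute_of_perp hZ hv hzv

end graph

end Cfsg.Agent.Helper63.SU3
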