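import Cfsg.Prelude.Def_Classical
import Cfsg.Agent.Lib.Lead.UnitaryGroupCard

/-!
# `p`-local structure of `SU₃(q)` in the defining characteristic

For a nontrivial `p`-subgroup `P` of `SU₃(q)` (`q` a power of `p`), `P` fixes a unique isotropic
point, `N(P)` is contained in the stabilizer `B` of that point, and `B' ` is a group of exponent
dividing `p ^ 2`.
-/

set_option autoImplicit false
set_option linter.unusedSectionVars false
open Cfsg

namespace Cfsg.Agent.Helper63.SU3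

open Matrix Module Cfsg.Agent.Lead Cfsg.Agent.Helper19
open scoped commutatorElement

variable {K : Type*} [Field K] [Fintype K] {q : ℕ}

/-- the matrix of an element of `SU₃` -/
def mat (g : Cfsg.SU 3 K q) : Matrix (Fin 3) (Fin 3) K := g.1.1

lemma mat_mul (g h : Cfsg.SU 3 K q) : mat (g * h) = mat g * mat h := rfl

lemma mat_one : mat (1 : Cfsg.SU 3 K q) = 1 := rfl

lemma mat_inv_mul (g : Cfsg.SU 3 K q) : mat g⁻¹ * mat g = 1 := by
  rw [← mat_mul, inv_mul_cancel, mat_one]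

lemma mat_mul_inv (g : Cfsg.SU 3 K q) : mat g * mat g⁻¹ = 1 := by
  rw [← mat_mul, mul_inv_cancel, mat_one]

lemma mat_pow (g : Cfsg.SU 3 K q) (m : ℕ) : mat (g ^ m) = mat g ^ m := by
  induction m with
  | zero => simp [mat_one]
  | succ m ih => rw [pow_succ, pow_succ, mat_mul, ih]

lemma mat_injective : Function.Injective (mat (K := K) (q := q)) := by
  intro g h hgh
  apply Subtype.ext
  apply Subtype.ext
  exact hgh

lemma inv_mulVec_mulVec (g : Cfsg.SU 3 K q) (u : Fin 3 → K) : mat g⁻¹ *ᵥ (mat g *ᵥ u) = u := by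
  rw [Matrix.mulVec_mulVec, mat_inv_mul, Matrix.one_mulVec]

lemma mulVec_inv_mulVec (g : Cfsg.SU 3 K q) (u : Fin 3 → K) : mat g *ᵥ (mat g⁻¹ *ᵥ u) = u := by
  rw [Matrix.mulVec_mulVec, mat_mul_inv, Matrix.one_mulVec]

lemma mulVec_injective (g : Cfsg.SU 3 K q) {u u' : Fin 3 → K} (h : mat g *ᵥ u = mat g *ᵥ u') :
    u = u' := by
  rw [← inv_mulVec_mulVec g u, h, inv_mulVec_mulVec]

lemma herm_mat (g : Cfsg.SU 3 K q) (u u' : Fin 3 → K) :
    Cfsg.hermForm 3 K q (mat g *ᵥ u) (mat g *ᵥ u') = Cfsg.hermForm 3 K q u u' := g.2 u u'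

variable (hK : Fintype.card K = q ^ 2)

lemma std_mat (g : Cfsg.SU 3 K q) (u u' : Fin 3 → K) :
    stdHerm hK 3 (mat g *ᵥ u) (mat g *ᵥ u') = stdHerm hK 3 u u' := by
  rw [stdHerm_apply, stdHerm_apply, herm_mat]

/-- a matrix killing a spanning set is zero -/
lemma matrix_eq_zero_of_mulVec (M : Matrix (Fin 3) (Fin 3) K) (h : ∀ u, M *ᵥ u = 0) : M = 0 := by
  ext i j
  have := congrFun (h (Pi.single j 1)) i
  simpa using this


/-- a basis `v, w, v'` adapted to the isotropic vector `v` -/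
structure Adapted (v w v' : Fin 3 → K) : Prop where
  v0 : v ≠ 0
  vv : stdHerm hK 3 v v = 0
  wv : stdHerm hK 3 w v = 0
  v'v : stdHerm hK 3 v' v ≠ 0
  ww : stdHerm hK 3 w w ≠ 0
  span : ∀ u : Fin 3 → K, ∃ α β γ : K, u = α • v + β • w + γ • v'
  indep : ∀ α β γ : K, α • v + β • w + γ • v' = 0 → α = 0 ∧ β = 0 ∧ γ = 0

include hK in
lemma q_ne_zero : q ≠ 0 := by
  have := herm_two_le hK
  omega

theorem exists_adapted (v : Fin 3 → K) (hv0 : v ≠ 0) (hvv : stdHerm hK 3 v v = 0) :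
    ∃ w v', Adapted hK v w v' := by
  classical
  have hq := q_ne_zero hK
  set B := stdHerm hK 3 with hB
  -- a vector not perpendicular to `v`
  obtain ⟨v', hv'⟩ : ∃ v', B v' v ≠ 0 := by
    by_contra hcon
    push Not at hcon
    exact hv0 (stdHerm_nondeg hK 3 v hcon)
  -- the perp of `v` has dimension two
  have hsurj : Function.Surjective (B.lin v) := by
    intro c
    refine ⟨(c / B v' v) • v', ?_⟩
    rw [HermForm.lin_apply, B.smul_left]
    field_simp
  have hfr : finrank K (LinearMap.ker (B.lin v)) = 2 := by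
    have h := LinearMap.finrank_range_add_finrank_ker (B.lin v)
    rw [LinearMap.range_eq_top.mpr hsurj, finrank_top, Module.finrank_self,
      Module.finrank_fin_fun] at h
    omega
  -- a second vector in the perp
  obtain ⟨w, hwker, hwspan⟩ : ∃ w, w ∈ LinearMap.ker (B.lin v) ∧ w ∉ Submodule.span K {v} := by
    by_contra hcon
    push Not at hcon
    have hle : LinearMap.ker (B.lin v) ≤ Submodule.span K {v} := fun w hw => hcon w hw
    have h1 := Submodule.finrank_mono hle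
    rw [hfr, finrank_span_singleton hv0] at h1
    omega
  have hwv : B w v = 0 := by
    have := LinearMap.mem_ker.mp hwker
    rwa [HermForm.lin_apply] at this
  have hvw : B v w = 0 := B.eq_zero_symm hwv hq
  have hindep : ∀ α β γ : K, α • v + β • w + γ • v' = 0 → α = 0 ∧ β = 0 ∧ γ = 0 := by
    intro α β γ h
    have h1 : B (α • v + β • w + γ • v') v = 0 := by rw [h, B.zero_left]
    rw [B.add_left, B.add_left, B.smul_left, B.smul_left, B.smul_left, hvv, hwv, mul_zero,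
      mul_zero, zero_add, zero_add] at h1
    have hγ : γ = 0 := by
      rcases mul_eq_zero.mp h1 with h2 | h2
      · exact h2
      · exact absurd h2 hv'
    rw [hγ, zero_smul, add_zero] at h
    have hβ : β = 0 := by
      by_contra hβ
      apply hwspan
      rw [Submodule.mem_span_singleton]
      refine ⟨-(α / β), ?_⟩
      have h3 : β • w = -(α • v) := eq_neg_of_add_eq_zero_right h
      have h4 : w = β⁻¹ • (β • w) := by rw [smul_smul, inv_mul_cancel₀ hβ, one_smul]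
      rw [h4, h3, smul_neg, smul_smul, neg_smul]
      congr 2
      field_simp
    rw [hβ, zero_smul, add_zero] at h
    rcases smul_eq_zero.mp h with h5 | h5
    · exact ⟨h5, hβ, hγ⟩
    · exact absurd h5 hv0
  have hspan : ∀ u : Fin 3 → K, ∃ α β γ : K, u = α • v + β • w + γ • v' := by
    have hli : LinearIndependent K ![v, w, v'] := by
      rw [Fintype.linearIndependent_iff]
      intro g hg
      rw [Fin.sum_univ_three] at hg
      obtain ⟨h0, h1, h2⟩ := hindep (g 0) (g 1) (g 2) (by simpa using hg)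
      intro i
      fin_cases i
      · exact h0
      · exact h1
      · exact h2
    have htop := hli.span_eq_top_of_card_eq_finrank' (by simp)
    intro u
    have hu : u ∈ Submodule.span K (Set.range ![v, w, v']) := by rw [htop]; trivial
    obtain ⟨c, hc⟩ := (Submodule.mem_span_range_iff_exists_fun K).mp hu
    rw [Fin.sum_univ_three] at hc
    exact ⟨c 0, c 1, c 2, by simpa using hc.symm⟩
  have hww : B w w ≠ 0 := by
    intro hww
    set l : K := B v' w / B v' v with hl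
    -- `B u w = l * B u v` for all `u`
    have h1 : ∀ u, B u w = l * B u v := by
      intro u
      obtain ⟨α, β, γ, rfl⟩ := hspan u
      rw [B.add_left, B.add_left, B.smul_left, B.smul_left, B.smul_left, hvw, hww,
        B.add_left, B.add_left, B.smul_left, B.smul_left, B.smul_left, hvv, hwv, hl]
      field_simp
      ring
    have h2 : w - (l ^ q) • v = 0 := by
      apply stdHerm_nondeg hK 3
      intro u
      have h3 : B (w - (l ^ q) • v) u = 0 := by
        rw [B.sub_left, B.smul_left, B.conj u w, h1 u, mul_pow, ← B.conj]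
        ring
      exact B.eq_zero_symm h3 hq
    apply hwspan
    rw [Submodule.mem_span_singleton]
    exact ⟨l ^ q, (sub_eq_zero.mp h2).symm⟩
  exact ⟨w, v', ⟨hv0, hvv, hwv, hv', hww, hspan, hindep⟩⟩


/-- the stabilizer of the point spanned by `v` -/
def Bv (v : Fin 3 → K) (hv0 : v ≠ 0) : Subgroup (Cfsg.SU 3 K q) where
  carrier := {g | ∃ c : K, mat g *ᵥ v = c • v}
  mul_mem' := by
    rintro g h ⟨c, hc⟩ ⟨d, hd⟩
    refine ⟨d * c, ?_⟩
    rw [mat_mul, ← Matrix.mulVec_mulVec, hd, Matrix.mulVec_smul, hc, smul_smul]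
  one_mem' := ⟨1, by rw [mat_one, Matrix.one_mulVec, one_smul]⟩
  inv_mem' := by
    rintro g ⟨c, hc⟩
    have hc0 : c ≠ 0 := by
      rintro rfl
      rw [zero_smul] at hc
      apply hv0
      rw [← inv_mulVec_mulVec g v, hc, Matrix.mulVec_zero]
    refine ⟨c⁻¹, ?_⟩
    have h1 : v = c⁻¹ • (mat g *ᵥ v) := by rw [hc, smul_smul, inv_mul_cancel₀ hc0, one_smul]
    conv_lhs => rw [h1]
    rw [Matrix.mulVec_smul, inv_mulVec_mulVec]

/-- the unipotent radical of the stabilizer of the point spanned by `v` -/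
def Uv (v w : Fin 3 → K) : Subgroup (Cfsg.SU 3 K q) where
  carrier := {g | mat g *ᵥ v = v ∧ ∃ a : K, mat g *ᵥ w = w + a • v}
  mul_mem' := by
    rintro g h ⟨hg, a, ha⟩ ⟨hh, b, hb⟩
    refine ⟨by rw [mat_mul, ← Matrix.mulVec_mulVec, hh, hg], a + b, ?_⟩
    rw [mat_mul, ← Matrix.mulVec_mulVec, hb, Matrix.mulVec_add, Matrix.mulVec_smul, ha, hg,
      add_smul, add_assoc]
  one_mem' := ⟨by rw [mat_one, Matrix.one_mulVec], 0, by rw [mat_one, Matrix.one_mulVec,
    zero_smul, add_zero]⟩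
  inv_mem' := by
    rintro g ⟨hg, a, ha⟩
    have hgi : mat g⁻¹ *ᵥ v = v := by
      conv_lhs => rw [← hg]
      rw [inv_mulVec_mulVec]
    refine ⟨hgi, -a, ?_⟩
    have h1 : w = mat g *ᵥ w - a • v := by rw [ha]; abel
    conv_lhs => rw [h1]
    rw [Matrix.mulVec_sub, inv_mulVec_mulVec, Matrix.mulVec_smul, hgi, neg_smul, sub_eq_add_neg]

variable {hK}

section adapted

variable {v w v' : Fin 3 → K} (had : Adapted hK v w v')
include had

lemma Adapted.vw : stdHerm hK 3 v w = 0 := (stdHerm hK 3).eq_zero_symm had.wv (q_ne_zero hK)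

lemma Adapted.vv' : stdHerm hK 3 v v' ≠ 0 := by
  intro h
  exact had.v'v ((stdHerm hK 3).eq_zero_symm h (q_ne_zero hK))

/-- uniqueness of coordinates -/
lemma Adapted.coord_unique {α β γ α' β' γ' : K}
    (h : α • v + β • w + γ • v' = α' • v + β' • w + γ' • v') : α = α' ∧ β = β' ∧ γ = γ' := by
  have h1 : (α - α') • v + (β - β') • w + (γ - γ') • v' = 0 := by
    rw [sub_smul, sub_smul, sub_smul]
    have := sub_eq_zero.mpr h
    rw [← this]
    abel
  obtain ⟨h2, h3, h4⟩ := had.indep _ _ _ h1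
  exact ⟨sub_eq_zero.mp h2, sub_eq_zero.mp h3, sub_eq_zero.mp h4⟩

/-- vectors perpendicular to `v` are combinations of `v` and `w` -/
lemma Adapted.perp_decomp {u : Fin 3 → K} (hu : stdHerm hK 3 u v = 0) :
    ∃ α β : K, u = α • v + β • w := by
  obtain ⟨α, β, γ, rfl⟩ := had.span u
  set B := stdHerm hK 3
  rw [B.add_left, B.add_left, B.smul_left, B.smul_left, B.smul_left, had.vv, had.wv, mul_zero,
    mul_zero, zero_add, zero_add] at hu
  have hγ : γ = 0 := by
    rcases mul_eq_zero.mp hu with h2 | h2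
    · exact h2
    · exact absurd h2 had.v'v
  exact ⟨α, β, by rw [hγ, zero_smul, add_zero]⟩

/-- the shape of an element of the point stabilizer -/
lemma Adapted.tri_of_mem_Bv {g : Cfsg.SU 3 K q} (hg : g ∈ Bv v had.v0) :
    ∃ χ μ a : K, χ ≠ 0 ∧ μ ≠ 0 ∧ mat g *ᵥ v = χ • v ∧ mat g *ᵥ w = μ • w + a • v := by
  obtain ⟨χ, hχ⟩ := hg
  have hχ0 : χ ≠ 0 := by
    rintro rfl
    rw [zero_smul] at hχ
    apply had.v0
    rw [← inv_mulVec_mulVec g v, hχ, Matrix.mulVec_zero]
  set B := stdHerm hK 3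
  have h1 : B (mat g *ᵥ w) v = 0 := by
    have h2 : v = χ⁻¹ • (mat g *ᵥ v) := by rw [hχ, smul_smul, inv_mul_cancel₀ hχ0, one_smul]
    rw [h2, B.smul_right, std_mat, had.wv, mul_zero]
  obtain ⟨α, β, hαβ⟩ := had.perp_decomp h1
  refine ⟨χ, β, α, hχ0, ?_, hχ, by rw [hαβ, add_comm]⟩
  rintro rfl
  rw [zero_smul, add_zero] at hαβ
  have h3 : mat g *ᵥ w = mat g *ᵥ ((α / χ) • v) := by
    rw [Matrix.mulVec_smul, hχ, smul_smul, div_mul_cancel₀ _ hχ0, hαβ]
  have h4 := mulVec_injective g h3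
  have h5 : (-(α / χ)) • v + (1 : K) • w + (0 : K) • v' = 0 := by
    rw [h4, zero_smul, add_zero, one_smul, neg_smul, neg_add_cancel]
  exact one_ne_zero (had.indep _ _ _ h5).2.1

omit had in
lemma tri_mul {g h : Cfsg.SU 3 K q} {χ₁ μ₁ a₁ χ₂ μ₂ a₂ : K}
    (h1 : mat g *ᵥ v = χ₁ • v) (h2 : mat g *ᵥ w = μ₁ • w + a₁ • v)
    (h3 : mat h *ᵥ v = χ₂ • v) (h4 : mat h *ᵥ w = μ₂ • w + a₂ • v) :
    mat (g * h) *ᵥ v = (χ₁ * χ₂) • v ∧
      mat (g * h) *ᵥ w = (μ₁ * μ₂) • w + (μ₂ * a₁ + a₂ * χ₁) • v := by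
  constructor
  · rw [mat_mul, ← Matrix.mulVec_mulVec, h3, Matrix.mulVec_smul, h1, smul_smul, mul_comm]
  · rw [mat_mul, ← Matrix.mulVec_mulVec, h4, Matrix.mulVec_add, Matrix.mulVec_smul,
      Matrix.mulVec_smul, h2, h1, smul_add, smul_smul, smul_smul, smul_smul, add_smul, add_assoc,
      mul_comm μ₂ μ₁]

lemma Adapted.tri_unique {M : Matrix (Fin 3) (Fin 3) K} {χ μ a χ' μ' a' : K}
    (h1 : M *ᵥ v = χ • v) (h2 : M *ᵥ w = μ • w + a • v)
    (h3 : M *ᵥ v = χ' • v) (h4 : M *ᵥ w = μ' • w + a' • v) : χ = χ' ∧ μ = μ' := by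
  constructor
  · have h5 : χ • v + (0 : K) • w + (0 : K) • v' = χ' • v + (0 : K) • w + (0 : K) • v' := by
      rw [← h1, ← h3]
    exact (had.coord_unique h5).1
  · have h5 : a • v + μ • w + (0 : K) • v' = a' • v + μ' • w + (0 : K) • v' := by
      rw [zero_smul, add_zero, add_zero, add_comm, ← h2, add_comm, ← h4]
    exact (had.coord_unique h5).2.1

/-- commutators of the point stabilizer lie in the unipotent radical -/
theorem Adapted.commutator_mem_Uv {g₁ g₂ : Cfsg.SU 3 K q} (hg₁ : g₁ ∈ Bv v had.v0)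
    (hg₂ : g₂ ∈ Bv v had.v0) : ⁅g₁, g₂⁆ ∈ Uv v w := by
  have hc : ⁅g₁, g₂⁆ ∈ Bv v had.v0 := by
    rw [commutatorElement_def]
    exact (Bv v had.v0).mul_mem ((Bv v had.v0).mul_mem ((Bv v had.v0).mul_mem hg₁ hg₂)
      ((Bv v had.v0).inv_mem hg₁)) ((Bv v had.v0).inv_mem hg₂)
  obtain ⟨χ, μ, a, hχ, hμ, e1, e2⟩ := had.tri_of_mem_Bv hc
  obtain ⟨χ₁, μ₁, a₁, hχ₁, hμ₁, e3, e4⟩ := had.tri_of_mem_Bv hg₁
  obtain ⟨χ₂, μ₂, a₂, hχ₂, hμ₂, e5, e6⟩ := had.tri_of_mem_Bv hg₂
  have hid : ⁅g₁, g₂⁆ * (g₂ * g₁) = g₁ * g₂ := by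
    rw [commutatorElement_def]; group
  obtain ⟨f1, f2⟩ := tri_mul e5 e6 e3 e4
  obtain ⟨f3, f4⟩ := tri_mul e1 e2 f1 f2
  obtain ⟨f5, f6⟩ := tri_mul e3 e4 e5 e6
  rw [hid] at f3 f4
  obtain ⟨k1, k2⟩ := had.tri_unique f3 f4 f5 f6
  have hχ1 : χ = 1 := by
    have : χ * (χ₂ * χ₁) = 1 * (χ₂ * χ₁) := by rw [k1]; ring
    exact mul_right_cancel₀ (mul_ne_zero hχ₂ hχ₁) this
  have hμ1 : μ = 1 := by
    have : μ * (μ₂ * μ₁) = 1 * (μ₂ * μ₁) := by rw [k2]; ring
    exact mul_right_cancel₀ (mul_ne_zero hμ₂ hμ₁) this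
  refine ⟨by rw [e1, hχ1, one_smul], a, by rw [e2, hμ1, one_smul]⟩


/-- the image of `v'` under an element fixing `v` -/
lemma Adapted.apply_v' {g : Cfsg.SU 3 K q} (hg : mat g *ᵥ v = v) :
    ∃ α β : K, mat g *ᵥ v' = α • v + β • w + v' := by
  obtain ⟨α, β, γ, h⟩ := had.span (mat g *ᵥ v')
  set B := stdHerm hK 3
  have h1 : B (mat g *ᵥ v') v = B v' v := by
    conv_lhs => rw [← hg]
    rw [std_mat]
  rw [h, B.add_left, B.add_left, B.smul_left, B.smul_left, B.smul_left, had.vv, had.wv, mul_zero,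
    mul_zero, zero_add, zero_add] at h1
  have hγ : γ = 1 := by
    have : γ * B v' v = 1 * B v' v := by rw [h1, one_mul]
    exact mul_right_cancel₀ had.v'v this
  exact ⟨α, β, by rw [h, hγ, one_smul]⟩

/-- a matrix fixing `v`, `w`, `v'` is the identity -/
lemma Adapted.eq_one_of_fix {M : Matrix (Fin 3) (Fin 3) K} (h1 : M *ᵥ v = v) (h2 : M *ᵥ w = w)
    (h3 : M *ᵥ v' = v') : M = 1 := by
  have h : M - 1 = 0 := by
    apply matrix_eq_zero_of_mulVec
    intro u
    obtain ⟨α, β, γ, rfl⟩ := had.span u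
    rw [Matrix.sub_mulVec, Matrix.one_mulVec, Matrix.mulVec_add, Matrix.mulVec_add,
      Matrix.mulVec_smul, Matrix.mulVec_smul, Matrix.mulVec_smul, h1, h2, h3, sub_self]
  exact sub_eq_zero.mp h

/-- elements of the unipotent radical have order dividing `p ^ 2` -/
theorem Adapted.pow_eq_one_of_mem_Uv {p : ℕ} [Fact p.Prime] [CharP K p] {g : Cfsg.SU 3 K q}
    (hg : g ∈ Uv v w) : g ^ (p ^ 2) = 1 := by
  obtain ⟨hgv, a, hgw⟩ := hg
  obtain ⟨α, β, hgv'⟩ := had.apply_v' hgv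
  set N : Matrix (Fin 3) (Fin 3) K := mat g - 1 with hN
  have n1 : N *ᵥ v = 0 := by
    rw [hN, Matrix.sub_mulVec, Matrix.one_mulVec, hgv, sub_self]
  have n2 : N *ᵥ w = a • v := by
    rw [hN, Matrix.sub_mulVec, Matrix.one_mulVec, hgw, add_sub_cancel_left]
  have n3 : N *ᵥ v' = α • v + β • w := by
    rw [hN, Matrix.sub_mulVec, Matrix.one_mulVec, hgv', add_sub_cancel_right]
  have hN3 : N ^ 3 = 0 := by
    apply matrix_eq_zero_of_mulVec
    intro u
    obtain ⟨x, y, z, rfl⟩ := had.span u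
    have e1 : N *ᵥ (x • v + y • w + z • v') = (y * a + z * α) • v + (z * β) • w := by
      rw [Matrix.mulVec_add, Matrix.mulVec_add, Matrix.mulVec_smul, Matrix.mulVec_smul,
        Matrix.mulVec_smul, n1, n2, n3, smul_zero, zero_add, smul_add, smul_smul, smul_smul,
        smul_smul, add_smul]
      abel
    have e2 : N *ᵥ ((y * a + z * α) • v + (z * β) • w) = (z * β * a) • v := by
      rw [Matrix.mulVec_add, Matrix.mulVec_smul, Matrix.mulVec_smul, n1, n2, smul_zero, zero_add,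
        smul_smul]
    have e3 : N *ᵥ ((z * β * a) • v) = 0 := by
      rw [Matrix.mulVec_smul, n1, smul_zero]
    have : N ^ 3 = N * (N * N) := by rw [pow_succ, pow_two, mul_assoc]
    rw [this, ← Matrix.mulVec_mulVec, ← Matrix.mulVec_mulVec, e1, e2, e3]
  have hp : p.Prime := Fact.out
  have hN' : N ^ (p ^ 2) = 0 := by
    have h3 : 3 ≤ p ^ 2 := by nlinarith [hp.two_le]
    obtain ⟨k, hk⟩ := Nat.exists_eq_add_of_le h3
    rw [hk, pow_add, hN3, zero_mul]
  have hcomm : Commute (mat g) 1 := Commute.one_right _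
  have h1 : mat g ^ (p ^ 2) = 1 := by
    have := sub_pow_char_pow_of_commute (p := p) (n := 2) hcomm
    rw [← hN, hN', one_pow] at this
    exact (sub_eq_zero.mp this.symm)
  apply mat_injective
  rw [mat_pow, h1, mat_one]

end adapted

/-- the action of `SU₃` on isotropic vectors -/
instance isoAction : MulAction (Cfsg.SU 3 K q) {u : Fin 3 → K // Cfsg.hermForm 3 K q u u = 0} where
  smul g u := ⟨mat g *ᵥ u.1, by rw [herm_mat]; exact u.2⟩
  one_smul u := Subtype.ext (by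
    show mat 1 *ᵥ u.1 = u.1
    rw [mat_one, Matrix.one_mulVec])
  mul_smul g h u := Subtype.ext (by
    show mat (g * h) *ᵥ u.1 = mat g *ᵥ (mat h *ᵥ u.1)
    rw [mat_mul, Matrix.mulVec_mulVec])

lemma iso_smul_val (g : Cfsg.SU 3 K q) (u : {u : Fin 3 → K // Cfsg.hermForm 3 K q u u = 0}) :
    (g • u).1 = mat g *ᵥ u.1 := rfl

variable (hK)

include hK in
/-- the number of isotropic vectors is divisible by `q` -/
theorem q_dvd_card_iso : q ∣ Nat.card {u : Fin 3 → K // Cfsg.hermForm 3 K q u u = 0} := by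
  have h1 : Nat.card {u : Fin 3 → K // Cfsg.hermForm 3 K q u u = 0} = hermCount K q 3 0 :=
    card_norm hK 3 (Fin 3 → K) (stdHerm hK 3) (stdHerm_nondeg hK 3) (Module.finrank_fin_fun K) 0
  rw [h1]
  have h2 := (hermCount_formula hK 3).1
  have hq0 : (q : ℤ) ≠ 0 := by
    have := q_ne_zero hK
    exact_mod_cast this
  have h3 : (hermCount K q 3 0 : ℤ) = (q : ℤ) * ((q : ℤ) ^ 4 - (q : ℤ) ^ 2 + (q : ℤ)) := by
    apply mul_left_cancel₀ hq0
    rw [h2]
    ring
  have h4 : (q : ℤ) ∣ (hermCount K q 3 0 : ℤ) := ⟨_, h3⟩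
  exact Int.natCast_dvd_natCast.mp h4

/-- a `p`-subgroup of `SU₃(q)`, `q` a power of `p`, fixes a nonzero isotropic vector -/
theorem exists_fixed_isotropic {p : ℕ} [Fact p.Prime] (hpq : p ∣ q) (P : Subgroup (Cfsg.SU 3 K q))
    (hP : IsPGroup p P) :
    ∃ v : Fin 3 → K, v ≠ 0 ∧ stdHerm hK 3 v v = 0 ∧ ∀ g ∈ P, mat g *ᵥ v = v := by
  have hq := q_ne_zero hK
  have hdvd : p ∣ Nat.card {u : Fin 3 → K // Cfsg.hermForm 3 K q u u = 0} :=
    hpq.trans (q_dvd_card_iso hK)
  let a : {u : Fin 3 → K // Cfsg.hermForm 3 K q u u = 0} :=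
    ⟨0, by simp [Cfsg.hermForm, hq]⟩
  have ha : a ∈ MulAction.fixedPoints P {u : Fin 3 → K // Cfsg.hermForm 3 K q u u = 0} := by
    intro g
    apply Subtype.ext
    show mat (g : Cfsg.SU 3 K q) *ᵥ (0 : Fin 3 → K) = 0
    rw [Matrix.mulVec_zero]
  obtain ⟨b, hb, hab⟩ := hP.exists_fixed_point_of_prime_dvd_card_of_fixed_point _ hdvd ha
  refine ⟨b.1, ?_, ?_, ?_⟩
  · intro h0
    apply hab
    apply Subtype.ext
    exact h0.symm
  · rw [stdHerm_apply]; exact b.2
  · intro g hg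
    have := hb ⟨g, hg⟩
    exact congrArg Subtype.val this


section adapted2

variable {hK}
variable {v w v' : Fin 3 → K} (had : Adapted hK v w v')
include had

omit had in
/-- powers of a triangular element -/
lemma tri_pow {g : Cfsg.SU 3 K q} {μ a : K} (h1 : mat g *ᵥ v = v)
    (h2 : mat g *ᵥ w = μ • w + a • v) (m : ℕ) :
    ∃ b : K, mat (g ^ m) *ᵥ w = (μ ^ m) • w + b • v := by
  induction m with
  | zero => exact ⟨0, by rw [pow_zero, pow_zero, mat_one, Matrix.one_mulVec, one_smul, zero_smul,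
      add_zero]⟩
  | succ m ih =>
    obtain ⟨b, hb⟩ := ih
    have hv : mat (g ^ m) *ᵥ v = v := by
      clear hb
      induction m with
      | zero => rw [pow_zero, mat_one, Matrix.one_mulVec]
      | succ m ih => rw [pow_succ, mat_mul, ← Matrix.mulVec_mulVec, h1, ih]
    refine ⟨μ * b + a, ?_⟩
    rw [pow_succ, mat_mul, ← Matrix.mulVec_mulVec, h2, Matrix.mulVec_add, Matrix.mulVec_smul,
      Matrix.mulVec_smul, hb, hv, smul_add, smul_smul, smul_smul, add_smul, add_assoc, pow_succ,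
      mul_comm μ (μ ^ m)]

/-- the normalizer of a nontrivial `p`-subgroup fixing `v` stabilizes the point spanned by `v` -/
theorem Adapted.mem_Bv_of_normalizer {p : ℕ} [Fact p.Prime] [CharP K p]
    {P : Subgroup (Cfsg.SU 3 K q)} (hP : IsPGroup p P) (hne : P ≠ ⊥)
    (hfix : ∀ g ∈ P, mat g *ᵥ v = v) {x : Cfsg.SU 3 K q}
    (hx : x ∈ Subgroup.normalizer (P : Set (Cfsg.SU 3 K q))) : x ∈ Bv v had.v0 := by
  set B := stdHerm hK 3 with hB
  have hp : p.Prime := Fact.out
  obtain ⟨α₂, β₂, γ₂, h2⟩ := had.span (mat x *ᵥ v)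
  have hiso : B (mat x *ᵥ v) (mat x *ᵥ v) = 0 := by rw [std_mat, had.vv]
  have hfix2 : ∀ g ∈ P, mat g *ᵥ (mat x *ᵥ v) = mat x *ᵥ v := by
    intro g hg
    have h1 : x⁻¹ * g * x ∈ P := (Subgroup.mem_normalizer_iff''.mp hx g).mp hg
    have h3 := hfix _ h1
    rw [mat_mul, mat_mul, ← Matrix.mulVec_mulVec, ← Matrix.mulVec_mulVec] at h3
    have h4 : mat x *ᵥ (mat x⁻¹ *ᵥ (mat g *ᵥ (mat x *ᵥ v))) = mat x *ᵥ v := by rw [h3]
    rw [mulVec_inv_mulVec] at h4
    exact h4
  by_cases hγ : γ₂ = 0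
  · rw [hγ, zero_smul, add_zero] at h2
    have h3 : B (mat x *ᵥ v) (mat x *ᵥ v) = β₂ * β₂ ^ q * B w w := by
      rw [h2, B.add_left, B.add_right hK, B.add_right hK, B.smul_left, B.smul_left, B.smul_left,
        B.smul_left, B.smul_right, B.smul_right, B.smul_right, B.smul_right, had.vv, had.vw,
        had.wv]
      ring
    rw [hiso] at h3
    have hβ : β₂ = 0 := by
      rcases mul_eq_zero.mp h3.symm with h4 | h4
      · rcases mul_eq_zero.mp h4 with h5 | h5
        · exact h5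
        · exact pow_eq_zero_iff (q_ne_zero hK) |>.mp h5
      · exact absurd h4 had.ww
    exact ⟨α₂, by rw [h2, hβ, zero_smul, add_zero]⟩
  · exfalso
    apply hne
    rw [Subgroup.eq_bot_iff_forall]
    intro g hg
    have hgv := hfix g hg
    have hgB : g ∈ Bv v had.v0 := ⟨1, by rw [hgv, one_smul]⟩
    obtain ⟨χ, μ, a, hχ, hμ, e1, e2⟩ := had.tri_of_mem_Bv hgB
    obtain ⟨k, hk⟩ := hP ⟨g, hg⟩
    have hk' : g ^ (p ^ k) = 1 := by
      have := congrArg Subtype.val hk
      simpa using this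
    obtain ⟨b, hb⟩ := tri_pow hgv e2 (p ^ k)
    rw [hk', mat_one, Matrix.one_mulVec] at hb
    have hμpk : μ ^ (p ^ k) = 1 := by
      have h5 : (0 : K) • v + (1 : K) • w + (0 : K) • v' = b • v + (μ ^ (p ^ k)) • w + (0 : K) • v' := by
        rw [zero_smul, zero_smul, zero_add, add_zero, add_zero, one_smul, add_comm]
        exact hb
      exact (had.coord_unique h5).2.1.symm
    have hμ1 : μ = 1 := by
      have h6 : (μ - 1) ^ (p ^ k) = 0 := by
        rw [sub_pow_char_pow, hμpk, one_pow, sub_self]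
      exact sub_eq_zero.mp (pow_eq_zero_iff (pow_ne_zero k hp.ne_zero) |>.mp h6)
    rw [hμ1, one_smul] at e2
    obtain ⟨α, β, e3⟩ := had.apply_v' hgv
    have e4 := hfix2 g hg
    rw [h2, Matrix.mulVec_add, Matrix.mulVec_add, Matrix.mulVec_smul, Matrix.mulVec_smul,
      Matrix.mulVec_smul, hgv, e2, e3] at e4
    have e5 : (α₂ + β₂ * a + γ₂ * α) • v + (β₂ + γ₂ * β) • w + γ₂ • v'
        = α₂ • v + β₂ • w + γ₂ • v' := by
      rw [← e4]
      simp only [smul_add, add_smul, smul_smul]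
      abel
    obtain ⟨c1, c2, -⟩ := had.coord_unique e5
    have hβ : β = 0 := by
      have : γ₂ * β = 0 := by linear_combination c2
      exact (mul_eq_zero.mp this).resolve_left hγ
    have r1 : B (mat g *ᵥ w) (mat g *ᵥ v') = B w v' := std_mat hK g w v'
    rw [e2, e3, hβ, zero_smul, add_zero] at r1
    simp only [B.add_left, B.add_right hK, B.smul_left, B.smul_right] at r1
    have hwv : B w v = 0 := had.wv
    have hvv : B v v = 0 := had.vv
    have ha : a = 0 := by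
      have : a * B v v' = 0 := by linear_combination r1 - α ^ q * hwv - a * α ^ q * hvv
      exact (mul_eq_zero.mp this).resolve_right had.vv'
    have hα : α = 0 := by
      have : γ₂ * α = 0 := by rw [ha] at c1; linear_combination c1
      exact (mul_eq_zero.mp this).resolve_left hγ
    rw [ha, zero_smul, add_zero] at e2
    rw [hα, hβ, zero_smul, zero_smul, zero_add, zero_add] at e3
    apply mat_injective
    rw [mat_one]
    exact had.eq_one_of_fix hgv e2 e3

end adapted2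

/-- **`p`-local structure of `SU₃(q)`**: the derived subgroup of the normalizer of a nontrivial
`p`-subgroup consists of `p`-elements. -/
theorem derived_normalizer_pElements {p n : ℕ} [Fact p.Prime] [CharP K p]
    (hK : Fintype.card K = (p ^ n) ^ 2) (hn : 1 ≤ n) (P : Subgroup (Cfsg.SU 3 K (p ^ n)))
    (hP : IsPGroup p P) (hne : P ≠ ⊥) :
    ∀ x ∈ ⁅Subgroup.normalizer (P : Set (Cfsg.SU 3 K (p ^ n))),
        Subgroup.normalizer (P : Set (Cfsg.SU 3 K (p ^ n)))⁆, ∃ k : ℕ, x ^ (p ^ k) = 1 := by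
  obtain ⟨v, hv0, hvv, hfix⟩ := exists_fixed_isotropic hK (dvd_pow_self p (by omega)) P hP
  obtain ⟨w, v', had⟩ := exists_adapted hK v hv0 hvv
  have h1 : Subgroup.normalizer (P : Set (Cfsg.SU 3 K (p ^ n))) ≤ Bv v hv0 :=
    fun x hx => had.mem_Bv_of_normalizer hP hne hfix hx
  have h2 : ⁅Subgroup.normalizer (P : Set (Cfsg.SU 3 K (p ^ n))),
      Subgroup.normalizer (P : Set (Cfsg.SU 3 K (p ^ n)))⁆ ≤ Uv v w := by
    rw [Subgroup.commutator_le]
    intro g₁ hg₁ g₂ hg₂
    exact had.commutator_mem_Uv (h1 hg₁) (h1 hg₂)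
  intro x hx
  exact ⟨2, had.pow_eq_one_of_mem_Uv (h2 hx)⟩

end Cfsg.Agent.Helper63.SU3
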