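import Mathlib
import Cfsg.Agent.Lib.Helper62.SUO0

/-!
# SUO piece (C1) `exists_R` (helper63, for helper62's server, S2282)
-/

set_option autoImplicit false
set_option linter.unusedSectionVars false
set_option linter.unusedVariables false
set_option quotPrecheck false

namespace Cfsg.Agent.Helper63.SUO

open Matrix Cfsg Cfsg.Agent.Helper13 Cfsg.Agent.Helper87.PsuA Cfsg.Agent.Helper62.SUO
open Cfsg.Agent.Helper87.PsuB0

section U
variable {F : Type*} [Field F] [Fintype F] {q n : ℕ} (hF : Fintype.card F = q ^ 2)
  {b : Fin n → Fin n → F}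

local notation "V" => Fin n → F
local notation "G" => ↥(Cfsg.SU n F q)
local notation "H" => Cfsg.hermForm n F q

include hF

/-- superdiagonal entries add (own copy of U1) -/
theorem h63_superdiag_mul (hb : HB q b) {g h : G} (hg : g ∈ Usub hb) (hh : h ∈ Usub hb)
    (i j : Fin n) (hij : i.val + 1 = j.val) :
    co q b (actv (g * h) (b j)) i = co q b (actv g (b j)) i + co q b (actv h (b j)) i := by
  have hgU := (mem_Usub_iff hb).1 hg
  have hhU := (mem_Usub_iff hb).1 hh
  have hne : i ≠ j := by
    intro h0; rw [h0] at hij; omega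
  rw [← rhoM_apply, ← rhoM_apply, ← rhoM_apply, rhoM_mul hb, Matrix.mul_apply,
    Finset.sum_eq_add i j hne]
  · simp only [rhoM_apply]
    rw [hgU i i le_rfl, hhU j j le_rfl, if_pos rfl, if_pos rfl]
    ring
  · intro k _ hk
    simp only [rhoM_apply]
    rcases lt_or_gt_of_ne hk.1 with h1 | h1
    · rw [hgU i k h1.le, if_neg (ne_of_gt h1), zero_mul]
    · have h2 : j < k := by
        have h3 : k.val ≠ j.val := fun h => hk.2 (Fin.ext h)
        have h4 : i.val < k.val := h1
        rw [Fin.lt_def]; omega
      rw [hhU k j h2.le, if_neg (ne_of_gt h2), mul_zero]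
  · intro h0; exact absurd (Finset.mem_univ _) h0
  · intro h0; exact absurd (Finset.mem_univ _) h0

end U

section C
variable {F : Type*} [Field F] [Fintype F] {q m : ℕ} (hF : Fintype.card F = q ^ 2)
  {b : Fin (2 * m + 5) → Fin (2 * m + 5) → F}

local notation "V" => Fin (2 * m + 5) → F
local notation "G" => ↥(Cfsg.SU (2 * m + 5) F q)
local notation "H" => Cfsg.hermForm (2 * m + 5) F q

include hF

theorem h63_R_aux (hb : HB q b) (k : ℕ) (hk : k ≤ m) :
    ∃ R : G, R ∈ Usub hb ∧
      (∀ i : Fin (2 * m + 5), k + 1 ≤ i.val → i.val + k ≤ 2 * m + 4 → actv R (b i) = b i) ∧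
      (∀ i j : Fin (2 * m + 5), i.val + 1 = j.val → (j.val ≤ k ∨ 2 * m + 5 ≤ j.val + k) →
        co q b (actv R (b j)) i ≠ 0) := by
  induction k with
  | zero =>
    refine ⟨1, Subgroup.one_mem _, fun i _ _ => actv_one _, fun i j hij h => ?_⟩
    exfalso
    have := j.isLt
    omega
  | succ k ih =>
    obtain ⟨R, hRU, hfix, hnz⟩ := ih (by omega)
    have hkk0 : k < 2 * m + 5 := by omega
    have hww0 : 2 * m + 3 - k < 2 * m + 5 := by omega
    set kk : Fin (2 * m + 5) := ⟨k, hkk0⟩ with hkkdef
    set ww : Fin (2 * m + 5) := ⟨2 * m + 3 - k, hww0⟩ with hwwdef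
    have hrevkk : (Fin.rev kk).val = 2 * m + 4 - k := by
      rw [Fin.val_rev]; simp only [hkkdef]; omega
    have hkk : kk < Fin.rev kk := by
      rw [Fin.lt_def, hrevkk]; simp only [hkkdef]; omega
    have hrevww : (Fin.rev ww).val = k + 1 := by
      rw [Fin.val_rev]; simp only [hwwdef]; omega
    have hwwne : ww ≠ Fin.rev ww := by
      intro h0
      have := congrArg Fin.val h0
      rw [hrevww] at this
      simp only [hwwdef] at this
      omega
    have hcow : ∀ i, co q b (-(b ww)) i = -(if i = ww then (1 : F) else 0) := by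
      intro i; rw [co_neg hF, co_b hb]
    have hHww : H (-(b ww)) (-(b ww)) = 0 := by
      rw [H_neg_left hF, H_neg_right hF, b_isotropic hb hwwne]; simp
    have ha : (0 : F) + (0 : F) ^ q + H (-(b ww)) (-(b ww)) = 0 := by
      rw [hHww, frob_zero hF]; simp
    have hwlow : ∀ i : Fin (2 * m + 5), Fin.rev kk ≤ i → co q b (-(b ww)) i = 0 := by
      intro i hi
      rw [hcow, if_neg, neg_zero]
      intro h0
      rw [Fin.le_def, hrevkk, h0] at hi
      simp only [hwwdef] at hi
      omega
    have hEU : eich hF (b kk) (-(b ww)) 0 ∈ Usub hb :=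
      eich_mem_Usub hF hb kk hkk _ 0 hwlow ha
    have huw : H (b kk) (-(b ww)) = 0 := by
      rw [H_b_right hF, hwlow _ le_rfl, frob_zero hF]
    -- coordinates of E b_j
    have hco : ∀ j i : Fin (2 * m + 5),
        co q b (actv (eich hF (b kk) (-(b ww)) 0) (b j)) i =
          (if i = j then (1 : F) else 0)
            + (if kk = Fin.rev j then (1 : F) else 0) * (-(if i = ww then (1 : F) else 0))
            + (if Fin.rev j = ww then (1 : F) else 0) * (if i = kk then (1 : F) else 0) := by
      intro j i
      rw [co_eich_b hF hb kk hkk.ne _ 0 huw ha j i, hcow, hcow, frob_neg hF]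
      by_cases h1 : Fin.rev j = ww
      · rw [if_pos h1, one_pow]; ring
      · rw [if_neg h1, frob_zero hF]; ring
    -- E fixes b_j for j ≠ k+1, 2m+4-k
    have hEfix : ∀ j : Fin (2 * m + 5), j.val ≠ k + 1 → j.val + k ≠ 2 * m + 4 →
        actv (eich hF (b kk) (-(b ww)) 0) (b j) = b j := by
      intro j h1 h2
      apply ext_co hb
      intro i
      have e1 : ¬ (kk = Fin.rev j) := by
        intro h0
        have := congrArg Fin.val h0
        rw [Fin.val_rev] at this
        simp only [hkkdef] at this
        have := j.isLt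
        omega
      have e2 : ¬ (Fin.rev j = ww) := by
        intro h0
        have := congrArg Fin.val h0
        rw [Fin.val_rev] at this
        simp only [hwwdef] at this
        have := j.isLt
        omega
      rw [hco, co_b hb, if_neg e1, if_neg e2]
      ring
    refine ⟨eich hF (b kk) (-(b ww)) 0 * R, Subgroup.mul_mem _ hEU hRU, ?_, ?_⟩
    · intro i h1 h2
      rw [actv_mul, hfix i (by omega) (by omega)]
      exact hEfix i (by omega) (by omega)
    · intro i j hij h
      rw [h63_superdiag_mul hF hb hEU hRU i j hij]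
      have e4 : ¬ (i = j) := by
        intro h0; rw [h0] at hij; omega
      by_cases hj1 : j.val = k + 1
      · -- R fixes b_j, E gives 1
        have e1 : ¬ (kk = Fin.rev j) := by
          intro h0
          have := congrArg Fin.val h0
          rw [Fin.val_rev] at this
          simp only [hkkdef] at this
          omega
        have e2 : Fin.rev j = ww := by
          apply Fin.ext; rw [Fin.val_rev]; simp only [hwwdef]; omega
        have e3 : i = kk := by
          apply Fin.ext; simp only [hkkdef]; omega
        rw [hfix j (by omega) (by omega), co_b hb, if_neg e4, add_zero, hco, if_neg e4,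
          if_neg e1, if_pos e2, if_pos e3]
        simp
      · by_cases hj2 : j.val + k = 2 * m + 4
        · have e1 : kk = Fin.rev j := by
            apply Fin.ext; rw [Fin.val_rev]; simp only [hkkdef]; omega
          have e2 : ¬ (Fin.rev j = ww) := by
            intro h0
            have := congrArg Fin.val h0
            rw [Fin.val_rev] at this
            simp only [hwwdef] at this
            have := j.isLt
            omega
          have e3 : i = ww := by
            apply Fin.ext; simp only [hwwdef]; omega
          rw [hfix j (by omega) (by omega), co_b hb, if_neg e4, add_zero, hco, if_neg e4,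
            if_pos e1, if_neg e2, if_pos e3]
          simp
        · rw [hEfix j hj1 hj2, co_b hb, if_neg e4, zero_add]
          apply hnz i j hij
          rcases h with h | h
          · left; omega
          · right; omega

/-- (C1) induction on `j ≤ m`: `R_0 = 1`, `R_{j+1} = eich (b j) (-(b (2m+3-j))) 0 * R_j`
(`eich_mem_Usub`, `co_eich_b`, U1) -/
theorem exists_R (hb : HB q b) :
    ∃ R : G, R ∈ Usub hb ∧
      actv R (b ⟨m + 3, by omega⟩) = b ⟨m + 3, by omega⟩ ∧
      actv R (b ⟨m + 4, by omega⟩) = b ⟨m + 4, by omega⟩ ∧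
      (∀ i j : Fin (2 * m + 5), i.val + 1 = j.val → (j.val ≤ m ∨ m + 5 ≤ j.val) →
        co q b (actv R (b j)) i ≠ 0) ∧
      (∀ i j : Fin (2 * m + 5), i.val + 1 = j.val → m + 1 ≤ j.val → j.val ≤ m + 4 →
        co q b (actv R (b j)) i = 0) := by
  obtain ⟨R, hRU, hfix, hnz⟩ := h63_R_aux hF hb m le_rfl
  refine ⟨R, hRU, hfix _ (by simp) (by simp; omega), hfix _ (by simp) (by simp; omega), ?_, ?_⟩
  · intro i j hij h
    apply hnz i j hij
    rcases h with h | h
    · left; exact h
    · right; omega
  · intro i j hij h1 h2
    rw [hfix j (by omega) (by omega), co_b hb, if_neg]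
    intro h0; rw [h0] at hij; omega

end C

end Cfsg.Agent.Helper63.SUO
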