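import Mathlib

/-!
# A multiplicative generator of a finite field spreads additive subgroups (helper63, for S2282 SUO)

Design-independent brick for the `hom` hypothesis of the SUO abstract core
(helper13 `core_top` / helper8 `h8_suo_core`).
-/

set_option autoImplicit false

namespace Cfsg.Agent.Helper63.SUO

variable {F : Type*} [Field F] [Fintype F]

/-- If `om` generates `Fˣ`, every additive subgroup of `F` that is nonzero and stable under
multiplication by `om` is everything. -/
theorem h63_top_of_gen (g : Fˣ) (hg : ∀ x : Fˣ, x ∈ Subgroup.zpowers g)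
    (S : AddSubgroup F) (hS : ∃ a ∈ S, a ≠ 0) (hmul : ∀ a ∈ S, (g : F) * a ∈ S) : S = ⊤ := by
  classical
  obtain ⟨a, haS, ha0⟩ := hS
  -- stable under all natural powers of g
  have hpow : ∀ k : ℕ, ∀ a ∈ S, ((g : F) ^ k) * a ∈ S := by
    intro k
    induction k with
    | zero => intro a ha; simpa using ha
    | succ k ih =>
      intro a ha
      have h2 := ih _ (hmul a ha)
      have e : (g : F) ^ (k + 1) * a = (g : F) ^ k * ((g : F) * a) := by ring
      rw [e]
      exact h2
  have hfin : ∀ x : Fˣ, ∃ k : ℕ, g ^ k = x := by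
    intro x
    have hx := hg x
    rw [← mem_powers_iff_mem_zpowers] at hx
    obtain ⟨k, hk⟩ := hx
    exact ⟨k, hk⟩
  rw [eq_top_iff]
  intro b _
  by_cases hb : b = 0
  · rw [hb]; exact S.zero_mem
  · have hu : b / a ≠ 0 := div_ne_zero hb ha0
    obtain ⟨k, hk⟩ := hfin (Units.mk0 (b / a) hu)
    have h1 : ((g : F) ^ k) = b / a := by
      have := congrArg (fun x : Fˣ => (x : F)) hk
      simpa using this
    have h2 := hpow k a haS
    rw [h1, div_mul_cancel₀ _ ha0] at h2
    exact h2

/-- Existence: an element `om` of a finite field of order `q ^ 2` (`q ≥ 2`) with `om ^ q ≠ om`,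
`om ≠ 0`, such that every nonzero `om`-stable additive subgroup of `F` is `⊤`. -/
theorem exists_om {q : ℕ} (hF : Fintype.card F = q ^ 2) :
    ∃ om : F, om ≠ 0 ∧ om ^ q ≠ om ∧
      (∀ S : AddSubgroup F, (∃ a ∈ S, a ≠ 0) → (∀ a ∈ S, om * a ∈ S) → S = ⊤) ∧
      (∀ S : AddSubgroup F, S ≠ ⊥ → (∀ a ∈ S, om * a ∈ S) → S = ⊤) := by
  classical
  obtain ⟨g, hg⟩ := IsCyclic.exists_generator (α := Fˣ)
  have hq2 : 2 ≤ q := by
    rcases Nat.lt_or_ge q 2 with h | h
    · exfalso
      have h1 : 1 < Fintype.card F := Fintype.one_lt_card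
      interval_cases q <;> simp_all
    · exact h
  have key : ∀ S : AddSubgroup F, (∃ a ∈ S, a ≠ 0) → (∀ a ∈ S, (g : F) * a ∈ S) → S = ⊤ :=
    fun S hS hmul => h63_top_of_gen g hg S hS hmul
  refine ⟨(g : F), g.ne_zero, ?_, key, ?_⟩
  · -- g ^ q ≠ g since the order of g is q^2 - 1 > q - 1
    intro h
    have h1 : (g : F) ^ (q - 1) = 1 := by
      have h2 : (g : F) ^ (q - 1) * g = 1 * g := by
        rw [← pow_succ, Nat.sub_add_cancel (by omega), one_mul]; exact h
      exact mul_right_cancel₀ g.ne_zero h2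
    have h3 : g ^ (q - 1) = 1 := by
      apply Units.ext
      simpa using h1
    have hord : orderOf g = Fintype.card Fˣ := by
      rw [orderOf_eq_card_of_forall_mem_zpowers hg, Nat.card_eq_fintype_card]
    have hcard : Fintype.card Fˣ = q ^ 2 - 1 := by
      rw [Fintype.card_units, hF]
    have hdvd : orderOf g ∣ q - 1 := orderOf_dvd_of_pow_eq_one h3
    rw [hord, hcard] at hdvd
    have hle := Nat.le_of_dvd (by omega) hdvd
    have h4 : q ^ 2 = q * q := by ring
    have h5 : 2 * q ≤ q * q := Nat.mul_le_mul_right q hq2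
    omega
  · intro S hS hmul
    apply key S _ hmul
    by_contra hno
    apply hS
    rw [eq_bot_iff]
    intro a ha
    by_contra ha0
    exact hno ⟨a, ha, fun h => ha0 (by rw [h]; exact AddSubgroup.zero_mem _)⟩

end Cfsg.Agent.Helper63.SUO
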