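import Mathlib
import Cfsg.Agent.Lib.Helper87.SVKit

/-!
# No nonabelian simple group of order 4536 = 2^3 * 3^4 * 7 (exercise order for S0983)

`n_7 ∈ {36, 162}`.  `n_7 = 36`: an element of order `3` in `C(P)` has no admissible number of fixed
points on `Syl_7`.  `n_7 = 162`: `|C(P)| = 14`; for an involution `t ∈ C(P)` the subgroup
`H = N(⟨t⟩)` has order divisible by `8` (parity of `t` on `G ⧸ ⟨t⟩`), `|H| = a * m'` with
`a ≡ 1 mod 7` and `14 ∣ m' ∣ 28`, so `|H| ∈ {504, 4536}`; index `9` is impossible by the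
fixed-point endgame of `S1017`, and `H = G` makes `⟨t⟩` normal.
-/

set_option autoImplicit false

namespace Cfsg.Agent.Helper63.SV

open Nat MulAction Cfsg.Agent.Helper17 Cfsg.Agent.Helper17.Sieve Cfsg.Agent.Helper75.FixKill
  Cfsg.Agent.Helper87.SV

set_option maxRecDepth 100000 in
theorem h63_4536_adm7 : ∀ d ∈ List.range (648 + 1), d ∣ 648 → d % 7 = 1 →
    ¬ Bad (7 ^ 1 * 648) 7 1 648 d → d = 36 ∨ d = 162 := by
  decide +kernel

/-- the Sylow `p`-subgroups of `G` contained in `H` are counted by the Sylow number of `H`. -/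
theorem h63_card_sylow_le {G : Type*} [Group G] [Finite G] {p : ℕ} [Fact p.Prime]
    (H : Subgroup G) (P : Sylow p G) (hP : (P : Subgroup G) ≤ H) :
    Nat.card {Q : Sylow p G // (Q : Subgroup G) ≤ H} = Nat.card (Sylow p ↥H) := by
  apply Nat.card_congr
  refine Equiv.ofBijective (fun Q => Q.1.subtype Q.2) ⟨?_, ?_⟩
  · intro Q Q' h
    exact Subtype.ext (Sylow.subtype_injective h)
  · intro R
    obtain ⟨h, hh⟩ := MulAction.exists_smul_eq ↥H (P.subtype hP) R
    rw [Sylow.smul_subtype] at hh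
    exact ⟨⟨h • P, Sylow.smul_le hP h⟩, hh⟩

/-- In a simple group of order `> 2`, the normalizer of a subgroup of order `2` has order
congruent to `|G|` mod `8`. -/
theorem h63_card_normalizer_mod_eight {G : Type*} [Group G] [Finite G] [IsSimpleGroup G]
    (h2 : 2 < Nat.card G) (t : G) (ht : orderOf t = 2) :
    Nat.card (Subgroup.normalizer ((Subgroup.zpowers t : Subgroup G) : Set G)) ≡
      Nat.card G [MOD 8] := by
  set Z : Subgroup G := Subgroup.zpowers t with hZ
  have hZc : Nat.card Z = 2 := by rw [hZ, Nat.card_zpowers, ht]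
  have h4 := Cfsg.Agent.S1017.card_fixedBy_mod_four h2 (α := G ⧸ Z) t ht
  rw [← Cfsg.Agent.S1017.fixedPoints_zpowers_eq, ← hZ] at h4
  have e0 : Nat.card (fixedPoints ↥Z (G ⧸ Z)) =
      Nat.card (↥(Subgroup.normalizer (Z : Set G)) ⧸
        Z.subgroupOf (Subgroup.normalizer (Z : Set G))) :=
    Nat.card_congr (Sylow.fixedPointsMulLeftCosetsEquivQuotient Z)
  have h4'' : Nat.card (↥(Subgroup.normalizer (Z : Set G)) ⧸
      Z.subgroupOf (Subgroup.normalizer (Z : Set G))) ≡ Nat.card (G ⧸ Z) [MOD 4] := by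
    rw [← e0]; exact h4
  have e1 := Subgroup.card_eq_card_quotient_mul_card_subgroup Z
  have e2 := Subgroup.card_eq_card_quotient_mul_card_subgroup
    (Z.subgroupOf (Subgroup.normalizer (Z : Set G)))
  have e3 : Nat.card (Z.subgroupOf (Subgroup.normalizer (Z : Set G))) = 2 := by
    rw [Nat.card_congr (Subgroup.subgroupOfEquivOfLe Subgroup.le_normalizer).toEquiv, hZc]
  rw [e3] at e2
  rw [hZc] at e1
  have h4' : Nat.card (↥(Subgroup.normalizer (Z : Set G)) ⧸
      Z.subgroupOf (Subgroup.normalizer (Z : Set G))) ≡ Nat.card (G ⧸ Z) [MOD 4] := h4''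
  unfold Nat.ModEq at h4' ⊢
  omega

set_option maxRecDepth 100000 in
theorem h63_arith14 : ∀ a ∈ List.range 325, a % 7 = 1 → (a * 14) % 8 = 0 → a * 14 ∣ 4536 →
    a * 14 = 504 := by
  decide +kernel

set_option maxRecDepth 100000 in
theorem h63_arith28 : ∀ a ∈ List.range 163, a % 7 = 1 → (a * 28) % 8 = 0 → a * 28 ∣ 4536 →
    a * 28 = 4536 := by
  decide +kernel

theorem h63_arith (n a m' : ℕ) (h : n = a * m') (ha : a % 7 = 1) (hm1 : m' ∣ 28)
    (hm2 : 14 ∣ m') (h8 : n % 8 = 0) (hd : n ∣ 4536) : n = 504 ∨ n = 4536 := by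
  have hm'le : m' ≤ 28 := Nat.le_of_dvd (by norm_num) hm1
  obtain ⟨k, rfl⟩ := hm2
  have hnle : n ≤ 4536 := Nat.le_of_dvd (by norm_num) hd
  have hk : k = 1 ∨ k = 2 := by
    rcases Nat.eq_zero_or_pos k with h0 | h0
    · subst h0
      simp at hm1
    · omega
  rcases hk with rfl | rfl
  · left
    subst h
    have hale : a < 325 := by omega
    exact h63_arith14 a (List.mem_range.2 hale) ha (by omega) (by simpa using hd)
  · right
    subst h
    have hale : a < 163 := by omega
    exact h63_arith28 a (List.mem_range.2 hale) ha (by omega) (by simpa using hd)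

/-- the case `n_7 = 162`. -/
theorem h63_case162 {G : Type*} [Group G] [Finite G] [IsSimpleGroup G] [Fact (Nat.Prime 7)]
    (hG : Nat.card G = 4536) (P : Sylow 7 G) (hP : Nat.card (P : Subgroup G) = 7)
    (hC : Nat.card (Subgroup.centralizer ((P : Subgroup G) : Set G)) = 14)
    (hN : Nat.card (Subgroup.normalizer ((P : Subgroup G) : Set G)) = 28) : False := by
  have h2 : 2 < Nat.card G := by rw [hG]; norm_num
  -- the involution
  obtain ⟨t', ht'⟩ := exists_prime_orderOf_dvd_card'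
    (G := ↥(Subgroup.centralizer ((P : Subgroup G) : Set G))) 2 (by rw [hC]; norm_num)
  obtain ⟨t, htdef⟩ : ∃ t : G, t = (t' : G) := ⟨_, rfl⟩
  have ht : orderOf t = 2 := by rw [htdef, Subgroup.orderOf_coe]; exact ht'
  have htC : t ∈ Subgroup.centralizer ((P : Subgroup G) : Set G) := by rw [htdef]; exact t'.2
  -- the element of order 7
  obtain ⟨c', hc'⟩ := exists_prime_orderOf_dvd_card' (G := ↥(P : Subgroup G)) 7 (by rw [hP])
  obtain ⟨c, hcdef⟩ : ∃ c : G, c = (c' : G) := ⟨_, rfl⟩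
  have hc : orderOf c = 7 := by rw [hcdef, Subgroup.orderOf_coe]; exact hc'
  have hcP : c ∈ (P : Subgroup G) := by rw [hcdef]; exact c'.2
  have hcomm : Commute c t := Subgroup.mem_centralizer_iff.mp htC c hcP
  -- the subgroup `H = N(⟨t⟩)`
  obtain ⟨Z, hZ⟩ : ∃ Z : Subgroup G, Z = Subgroup.zpowers t := ⟨_, rfl⟩
  obtain ⟨H, hH⟩ : ∃ H : Subgroup G, H = Subgroup.normalizer (Z : Set G) := ⟨_, rfl⟩
  have htH : t ∈ H := by
    rw [hH, hZ]; exact Subgroup.le_normalizer (Subgroup.mem_zpowers t)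
  have hPH : (P : Subgroup G) ≤ H := by
    intro x hx
    rw [hH, hZ]
    apply Subgroup.centralizer_le_normalizer
    rw [Subgroup.mem_centralizer_iff]
    rintro h ⟨k, rfl⟩
    have h1 : Commute x t := Subgroup.mem_centralizer_iff.mp htC x hx
    show t ^ k * x = x * t ^ k
    exact (h1.zpow_right k).eq.symm
  have hcard := Cfsg.Agent.S1017.card_eq_card_mul H P hPH
  rw [h63_card_sylow_le H P hPH] at hcard
  have ha := card_sylow_modEq_one 7 ↥H
  have hm1 : Nat.card ↥(Subgroup.normalizer ((P : Subgroup G) : Set G) ⊓ H) ∣ 28 := by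
    rw [← hN]; exact Subgroup.card_dvd_of_le inf_le_left
  have hm2 : 14 ∣ Nat.card ↥(Subgroup.normalizer ((P : Subgroup G) : Set G) ⊓ H) := by
    have h7d : 7 ∣ Nat.card ↥(Subgroup.normalizer ((P : Subgroup G) : Set G) ⊓ H) := by
      conv_lhs => rw [← hP]
      exact Subgroup.card_dvd_of_le (le_inf Subgroup.le_normalizer hPH)
    have h2d : 2 ∣ Nat.card ↥(Subgroup.normalizer ((P : Subgroup G) : Set G) ⊓ H) := by
      rw [← ht]
      exact Subgroup.orderOf_dvd_natCard _ ⟨Subgroup.centralizer_le_normalizer _ htC, htH⟩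
    omega
  have h8 := h63_card_normalizer_mod_eight h2 t ht
  rw [← hZ, ← hH, hG] at h8
  have hHdvd : Nat.card H ∣ 4536 := by rw [← hG]; exact Subgroup.card_subgroup_dvd_card H
  have ha' : Nat.card (Sylow 7 ↥H) % 7 = 1 := by
    unfold Nat.ModEq at ha; omega
  have h8' : Nat.card H % 8 = 0 := by
    unfold Nat.ModEq at h8; omega
  rcases h63_arith _ _ _ hcard ha' hm1 hm2 h8' hHdvd with h504 | htop
  · have hidx : Nat.card (G ⧸ H) = 9 := by
      have := Subgroup.card_eq_card_quotient_mul_card_subgroup H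
      rw [hG, h504] at this
      omega
    exact Cfsg.Agent.S1017.endgame2016 H hidx c t hc ht hcomm (hPH hcP) htH
  · have hHtop : H = ⊤ := Subgroup.eq_top_of_card_eq H (by rw [htop, hG])
    have hZn : Z.Normal := Subgroup.normalizer_eq_top_iff.mp (hH ▸ hHtop)
    apply normal_card_absurd Z hZn
    · rw [hZ, Nat.card_zpowers, ht]; norm_num
    · rw [hZ, Nat.card_zpowers, ht, hG]; norm_num

/-- no nonabelian simple group of order 4536 -/
theorem no_4536.{u} : NoSimple.{u} 4536 := by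
  intro G _ _ _ hna hn0
  have h7 : Fact (Nat.Prime 7) := ⟨by norm_num⟩
  have hn7 : Nat.card G = 7 ^ 1 * 648 := by rw [hn0]; norm_num
  obtain ⟨hP7, hr7, hd7, hm7, hb7, hone7, he7⟩ :=
    h87_data hna 7 648 (by norm_num) hn7 (by norm_num)
  obtain ⟨P7⟩ : Nonempty (Sylow 7 G) := inferInstance
  obtain ⟨e7, he7a, he7b, he7c⟩ := he7 P7
  have he7le : e7 ≤ 6 := Nat.le_of_dvd (by norm_num) he7a
  rcases h63_4536_adm7 _ hr7 hd7 hm7 hb7 with h | h
  · -- `n_7 = 36`: an element of order 3 in `C(P7)` has no admissible number of fixed points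
    rw [h] at he7c
    have h3c : 3 ∣ Nat.card (Subgroup.centralizer ((P7 : Subgroup G) : Set G)) := by
      generalize Nat.card (Subgroup.centralizer ((P7 : Subgroup G) : Set G)) = c at he7c
      interval_cases e7 <;> omega
    have h3 : Fact (Nat.Prime 3) := ⟨by norm_num⟩
    obtain ⟨f, m', -, hf1, hf2, -, hf3, hf4⟩ :=
      exists_fix (G := G) (by rw [hn0]; norm_num) (p := 7) (r := 3) (by norm_num) P7 (hP7 P7)
        hone7 h3c
    rw [h] at hf2 hf3 hf4
    have hf15 : f = 15 := by omega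
    subst hf15
    obtain ⟨-, -, hdv⟩ := hf4 (by norm_num)
    rw [hn0] at hdv
    have h5 : 5 ∣ 4536 := Dvd.dvd.trans ⟨3 * m', by ring⟩ hdv
    omega
  · -- `n_7 = 162`
    rw [h] at he7c
    have hC : Nat.card (Subgroup.centralizer ((P7 : Subgroup G) : Set G)) = 14 := by
      generalize Nat.card (Subgroup.centralizer ((P7 : Subgroup G) : Set G)) = c at he7c
      interval_cases e7 <;> omega
    have hN : Nat.card (Subgroup.normalizer ((P7 : Subgroup G) : Set G)) = 28 := by
      rw [h87_card_normalizer P7, hn0, h]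
    exact h63_case162 hn0 P7 (hP7 P7) hC hN

end Cfsg.Agent.Helper63.SV
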