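import Mathlib
import Cfsg.Prelude.Def_TwoFusion
import Cfsg.Prelude.Def_CaseTheorems
import Cfsg.Agent.Lib.Helper20.ZStarCor
import Cfsg.Agent.Lib.Helper11.ZJ1

set_option autoImplicit false
set_option linter.style.haveILetI false

/-!
Goldschmidt's lemma on strongly closed subgroups normalizing a subgroup with trivial odd core,
conditional on the `Z*`-theorem in the form `Cfsg.Agent.Helper20.ZStarHyp`.
-/

namespace Cfsg.Agent.Helper63.StrClosedZ

open Cfsg.Agent.Helper20

universe u

section core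

variable {K : Type u} [Group K] [Finite K]

/-- Core application of `Z*`: an automorphism `α` of order at most two of `K` (with `O(K) = 1`)
fixing a Sylow 2-subgroup `R` pointwise and such that `h α(h)⁻¹ ∈ R` only when `α h = h` is trivial. -/
theorem core (hZ : ZStarHyp.{u}) (hO : Cfsg.oddCore K = ⊥)
    (α : MulAut K) (hα : α * α = 1) (R : Subgroup K) (hR2 : IsPGroup 2 R) (hRidx : ¬ 2 ∣ R.index)
    (hfix : ∀ r ∈ R, α r = r) (hF : ∀ h : K, h * α h⁻¹ ∈ R → α h = h) : ∀ h : K, α h = h := by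
  classical
  by_cases h1 : α = 1
  · intro h; rw [h1]; rfl
  haveI : Fact (Nat.Prime 2) := ⟨Nat.prime_two⟩
  let Z : Subgroup (MulAut K) := Subgroup.zpowers α
  let φ : Z →* MulAut K := Z.subtype
  haveI : Finite (K ⋊[φ] Z) := Finite.of_equiv _ (SemidirectProduct.equivProd (φ := φ)).symm
  let a₀ : Z := ⟨α, Subgroup.mem_zpowers α⟩
  let t : K ⋊[φ] Z := SemidirectProduct.inr a₀
  have hφa : φ a₀ = α := rfl
  have hα2 : orderOf α = 2 := orderOf_eq_prime (by rw [pow_two]; exact hα) h1
  have ht2 : orderOf t = 2 := by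
    have e1 : orderOf t = orderOf a₀ :=
      orderOf_injective (SemidirectProduct.inr : Z →* K ⋊[φ] Z) SemidirectProduct.inr_injective a₀
    rw [e1, Subgroup.orderOf_mk, hα2]
  have htinv : t⁻¹ = SemidirectProduct.inr a₀⁻¹ := (map_inv _ _).symm
  -- conjugation by `t` on `inl`
  have hconj : ∀ n : K, t * SemidirectProduct.inl n * t⁻¹ = SemidirectProduct.inl (α n) := by
    intro n
    rw [htinv, ← SemidirectProduct.inl_aut, hφa]
  have hcommR : ∀ r ∈ R, t * (SemidirectProduct.inl r : K ⋊[φ] Z) * t⁻¹ = SemidirectProduct.inl r := by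
    intro r hr
    rw [hconj, hfix r hr]
  -- the 2-group generated by `t` and `inl R`
  have hp1 : IsPGroup 2 (Subgroup.zpowers t) := by
    apply IsPGroup.of_card (n := 1)
    rw [Nat.card_zpowers, ht2, pow_one]
  have hp2 : IsPGroup 2 (R.map (SemidirectProduct.inl : K →* K ⋊[φ] Z)) := hR2.map _
  have hnorm : Subgroup.zpowers t ≤
      Subgroup.normalizer ((R.map (SemidirectProduct.inl : K →* K ⋊[φ] Z) : Subgroup (K ⋊[φ] Z)) : Set (K ⋊[φ] Z)) := by
    rw [Subgroup.zpowers_le]
    rw [Subgroup.mem_normalizer_iff]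
    intro x
    constructor
    · rintro ⟨r, hr, rfl⟩
      rw [hcommR r hr]
      exact ⟨r, hr, rfl⟩
    · rintro ⟨r, hr, hrx⟩
      have hx : x = t⁻¹ * (t * x * t⁻¹) * t := by group
      rw [hx, ← hrx]
      have h2 : t⁻¹ * (SemidirectProduct.inl r : K ⋊[φ] Z) * t = SemidirectProduct.inl r := by
        have := hcommR r hr
        calc t⁻¹ * (SemidirectProduct.inl r : K ⋊[φ] Z) * t
            = t⁻¹ * (t * SemidirectProduct.inl r * t⁻¹) * t := by rw [this]
          _ = SemidirectProduct.inl r := by group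
      rw [h2]
      exact ⟨r, hr, rfl⟩
  have hQ0 : IsPGroup 2 (Subgroup.zpowers t ⊔ R.map (SemidirectProduct.inl : K →* K ⋊[φ] Z) :
      Subgroup (K ⋊[φ] Z)) := hp1.to_sup_of_normal_right' hp2 hnorm
  obtain ⟨P, hP⟩ := hQ0.exists_le_sylow
  have htP : t ∈ P := hP (Subgroup.mem_sup_left (Subgroup.mem_zpowers t))
  have hRP : ∀ r ∈ R, (SemidirectProduct.inl r : K ⋊[φ] Z) ∈ P := fun r hr =>
    hP (Subgroup.mem_sup_right ⟨r, hr, rfl⟩)
  -- `comap inl P = R`
  have hcomap : ∀ n : K, (SemidirectProduct.inl n : K ⋊[φ] Z) ∈ P → n ∈ R := by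
    set C : Subgroup K := (P : Subgroup (K ⋊[φ] Z)).comap (SemidirectProduct.inl : K →* K ⋊[φ] Z) with hC
    have hC2 : IsPGroup 2 C := P.isPGroup'.comap_of_injective _ SemidirectProduct.inl_injective
    have hRC : R ≤ C := fun r hr => hRP r hr
    obtain ⟨k, hk⟩ := hC2.index (R.subgroupOf C)
    have hdvd : R.relIndex C ∣ R.index := Subgroup.relIndex_dvd_index_of_le hRC
    have hk0 : k = 0 := by
      by_contra hk0
      apply hRidx
      refine dvd_trans ?_ hdvd
      show 2 ∣ (R.subgroupOf C).index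
      rw [hk]
      exact dvd_pow_self 2 hk0
    have hrel : R.relIndex C = 1 := by
      show (R.subgroupOf C).index = 1
      rw [hk, hk0, pow_zero]
    have hCR : C ≤ R := Subgroup.relIndex_eq_one.mp hrel
    intro n hn
    exact hCR hn
  -- isolation
  have hiso : ∀ g : K ⋊[φ] Z, g * t * g⁻¹ ∈ P → g * t * g⁻¹ = t := by
    intro g hg
    have hgdec : g = SemidirectProduct.inl g.left * SemidirectProduct.inr g.right :=
      (SemidirectProduct.inl_left_mul_inr_right g).symm
    set n := g.left with hn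
    set z := g.right with hzz
    have hzt : (SemidirectProduct.inr z : K ⋊[φ] Z) * t * (SemidirectProduct.inr z)⁻¹ = t := by
      show (SemidirectProduct.inr z : K ⋊[φ] Z) * SemidirectProduct.inr a₀ * (SemidirectProduct.inr z)⁻¹ = _
      rw [← map_inv, ← map_mul, ← map_mul]
      have hcz : z * a₀ = a₀ * z := by
        obtain ⟨k, hk⟩ := Subgroup.mem_zpowers_iff.mp z.2
        apply Subtype.ext
        show (z : MulAut K) * α = α * (z : MulAut K)
        rw [← hk]
        exact ((Commute.refl α).zpow_left k).eq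
      have : z * a₀ * z⁻¹ = a₀ := by
        rw [hcz, mul_assoc, mul_inv_cancel, mul_one]
      rw [this]
    have e1 : g * t * g⁻¹ = SemidirectProduct.inl (n * α n⁻¹) * t := by
      have h3 : t * (SemidirectProduct.inl n⁻¹ : K ⋊[φ] Z) = SemidirectProduct.inl (α n⁻¹) * t := by
        have := hconj n⁻¹
        calc t * (SemidirectProduct.inl n⁻¹ : K ⋊[φ] Z)
            = (t * SemidirectProduct.inl n⁻¹ * t⁻¹) * t := by group
          _ = SemidirectProduct.inl (α n⁻¹) * t := by rw [this]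
      calc g * t * g⁻¹
          = SemidirectProduct.inl n * (SemidirectProduct.inr z * t * (SemidirectProduct.inr z)⁻¹) *
              (SemidirectProduct.inl n)⁻¹ := by rw [hgdec]; group
        _ = SemidirectProduct.inl n * t * (SemidirectProduct.inl n)⁻¹ := by rw [hzt]
        _ = SemidirectProduct.inl n * (t * SemidirectProduct.inl n⁻¹) := by
            rw [map_inv, mul_assoc]
        _ = SemidirectProduct.inl n * (SemidirectProduct.inl (α n⁻¹) * t) := by rw [h3]
        _ = SemidirectProduct.inl (n * α n⁻¹) * t := by rw [map_mul, mul_assoc]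
    rw [e1] at hg ⊢
    have h4 : (SemidirectProduct.inl (n * α n⁻¹) : K ⋊[φ] Z) ∈ P := by
      have := (P : Subgroup (K ⋊[φ] Z)).mul_mem hg ((P : Subgroup (K ⋊[φ] Z)).inv_mem htP)
      rwa [mul_inv_cancel_right] at this
    have h5 : α n = n := hF n (hcomap _ h4)
    have h6 : n * α n⁻¹ = 1 := by rw [map_inv, h5, mul_inv_cancel]
    rw [h6, map_one, one_mul]
  obtain ⟨N, hN, hodd, hcomm⟩ := hZ (K ⋊[φ] Z) P t ht2 htP hiso
  set M : Subgroup K := N.comap (SemidirectProduct.inl : K →* K ⋊[φ] Z) with hM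
  have hMn : M.Normal := hN.comap _
  have hMdvd : Nat.card M ∣ Nat.card N :=
    Subgroup.card_comap_dvd_of_injective N _ SemidirectProduct.inl_injective
  have hModd : Odd (Nat.card M) := Odd.of_dvd_nat hodd hMdvd
  have hMcop : (Nat.card M).Coprime 2 := Nat.coprime_two_right.mpr hModd
  have hMbot : M ≤ Cfsg.oddCore K := Cfsg.Agent.Helper55.le_pPrimeCore hMn hMcop
  rw [hO] at hMbot
  intro h
  have h7 : (SemidirectProduct.inl (α h * h⁻¹) : K ⋊[φ] Z) ∈ N := by
    have := hcomm (SemidirectProduct.inl h)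
    rw [hconj h, ← map_inv, ← map_mul] at this
    exact this
  have h8 : α h * h⁻¹ ∈ M := h7
  have h9 : α h * h⁻¹ = 1 := by
    have := hMbot h8
    rwa [Subgroup.mem_bot] at this
  exact mul_inv_eq_one.mp h9

end core

section main

variable {G : Type u} [Group G] [Finite G]

/-- conjugation by a normalizing element as an automorphism of `H` -/
def conjAut (H : Subgroup G) (a : G) (ha : a ∈ Subgroup.normalizer (H : Set G)) : MulAut ↥H where
  toFun h := ⟨a * h * a⁻¹, (Subgroup.mem_normalizer_iff.mp ha h).mp h.2⟩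
  invFun h := ⟨a⁻¹ * h * a, by
    have := (Subgroup.mem_normalizer_iff.mp ha (a⁻¹ * h * a)).mpr (by
      have e : a * (a⁻¹ * (h : G) * a) * a⁻¹ = h := by group
      rw [e]; exact h.2)
    exact this⟩
  left_inv h := by
    apply Subtype.ext
    show a⁻¹ * (a * (h : G) * a⁻¹) * a = h
    group
  right_inv h := by
    apply Subtype.ext
    show a * (a⁻¹ * (h : G) * a) * a⁻¹ = h
    group
  map_mul' x y := by
    apply Subtype.ext
    show a * ((x : G) * y) * a⁻¹ = (a * x * a⁻¹) * (a * y * a⁻¹)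
    group

omit [Finite G] in
theorem conjAut_apply (H : Subgroup G) (a : G) (ha : a ∈ Subgroup.normalizer (H : Set G)) (h : ↥H) :
    ((conjAut H a ha h : ↥H) : G) = a * h * a⁻¹ := rfl

/-- Goldschmidt's lemma, conditional on `Z*`. -/
theorem main (hZ : ZStarHyp.{u}) (S : Sylow 2 G) (A : Subgroup G)
    (hA : Cfsg.IsStronglyClosed A (S : Subgroup G)) (H : Subgroup G)
    (hAH : A ≤ Subgroup.normalizer (H : Set G)) (hO : Cfsg.oddCore ↥H = ⊥) (hdisj : A ⊓ H = ⊥) :
    A ≤ Subgroup.centralizer (H : Set G) := by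
  classical
  haveI : Fact (Nat.Prime 2) := ⟨Nat.prime_two⟩
  have hA2 : IsPGroup 2 A := S.isPGroup'.to_le hA.1
  set X : Subgroup G := A ⊔ H with hX
  have hAX : A ≤ X := le_sup_left
  have hHX : H ≤ X := le_sup_right
  have hXN : X ≤ Subgroup.normalizer (H : Set G) := sup_le hAH Subgroup.le_normalizer
  haveI hHn : (H.subgroupOf X).Normal := Subgroup.normal_subgroupOf_of_le_normalizer hXN
  obtain ⟨Q, hQ⟩ := (hA2.comap_subtype (K := X)).exists_le_sylow
  set T₀ : Subgroup G := (Q : Subgroup X).map X.subtype with hT₀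
  have hT₀2 : IsPGroup 2 T₀ := Q.isPGroup'.map _
  have hAT : A ≤ T₀ := by
    intro a ha
    exact ⟨⟨a, hAX ha⟩, hQ (show (⟨a, hAX ha⟩ : X) ∈ A.subgroupOf X from ha), rfl⟩
  set R : Subgroup G := T₀ ⊓ H with hR
  have hRH : R ≤ H := inf_le_right
  have hRT : R ≤ T₀ := inf_le_left
  have hRidx : ¬ 2 ∣ R.relIndex H := by
    have h1 := Cfsg.Agent.Helper11.ZJ.not_dvd_relIndex_normal Q (H.subgroupOf X)
    have h2 : ((Q : Subgroup X).map X.subtype).relIndex ((H.subgroupOf X).map X.subtype) =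
        (Q : Subgroup X).relIndex (H.subgroupOf X) :=
      Subgroup.relIndex_map_map_of_injective _ _ X.subtype_injective
    rw [Subgroup.map_subgroupOf_eq_of_le hHX] at h2
    rw [hR, Subgroup.inf_relIndex_right, hT₀, h2]
    exact h1
  obtain ⟨P, hP⟩ := hT₀2.exists_le_sylow
  obtain ⟨g, hg⟩ := MulAction.exists_smul_eq G S P
  have hPS : (P : Subgroup G) = (S : Subgroup G).map (MulAut.conj g).toMonoidHom := by
    rw [← hg]; rfl
  have hmemP : ∀ x : G, x ∈ P → g⁻¹ * x * g ∈ S := by
    intro x hx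
    have hx' : x ∈ (P : Subgroup G) := hx
    rw [hPS] at hx'
    obtain ⟨s, hs, rfl⟩ := hx'
    have e : g⁻¹ * ((MulAut.conj g).toMonoidHom s) * g = s := by
      show g⁻¹ * (g * s * g⁻¹) * g = s
      group
    rw [e]; exact hs
  have hAP : A ≤ P := hAT.trans hP
  -- `g⁻¹ A g ≤ A`, hence equality
  have hgA' : ∀ a ∈ A, g⁻¹ * a * g ∈ A := by
    intro a ha
    have h1 := hmemP a (hAP ha)
    have h2 := hA.2 a ha g⁻¹
    rw [inv_inv] at h2
    exact h2 h1
  have hgA : ∀ a ∈ A, g * a * g⁻¹ ∈ A := by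
    have hle : A.map (MulAut.conj g⁻¹).toMonoidHom ≤ A := by
      rintro _ ⟨a, ha, rfl⟩
      show g⁻¹ * a * g⁻¹⁻¹ ∈ A
      rw [inv_inv]
      exact hgA' a ha
    have hcard : Nat.card A ≤ Nat.card (A.map (MulAut.conj g⁻¹).toMonoidHom) := by
      rw [Subgroup.card_map_of_injective (MulAut.conj g⁻¹).injective]
    have heq : A.map (MulAut.conj g⁻¹).toMonoidHom = A := Subgroup.eq_of_le_of_card_ge hle hcard
    intro a ha
    rw [← heq] at ha
    obtain ⟨a', ha', rfl⟩ := ha
    have e : g * ((MulAut.conj g⁻¹).toMonoidHom a') * g⁻¹ = a' := by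
      show g * (g⁻¹ * a' * g⁻¹⁻¹) * g⁻¹ = a'
      group
    rw [e]; exact ha'
  have hSC : ∀ a ∈ A, ∀ x : G, x * a * x⁻¹ ∈ P → x * a * x⁻¹ ∈ A := by
    intro a ha x hx
    have h1 := hmemP _ hx
    have e : g⁻¹ * (x * a * x⁻¹) * g = (g⁻¹ * x) * a * (g⁻¹ * x)⁻¹ := by group
    rw [e] at h1
    have h2 := hA.2 a ha (g⁻¹ * x) h1
    have h3 := hgA _ h2
    have e2 : g * (g⁻¹ * x * a * (g⁻¹ * x)⁻¹) * g⁻¹ = x * a * x⁻¹ := by group
    rwa [e2] at h3
  have hNP : ∀ t ∈ P, ∀ a ∈ A, t * a * t⁻¹ ∈ A := by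
    intro t ht a ha
    apply hSC a ha t
    exact (P : Subgroup G).mul_mem ((P : Subgroup G).mul_mem ht (hAP ha)) ((P : Subgroup G).inv_mem ht)
  have hbot : ∀ c : G, c ∈ A → c ∈ H → c = 1 := by
    intro c hcA hcH
    have : c ∈ A ⊓ H := ⟨hcA, hcH⟩
    rw [hdisj] at this
    exact Subgroup.mem_bot.mp this
  have hcommAR : ∀ a ∈ A, ∀ r ∈ R, a * r * a⁻¹ = r := by
    intro a ha r hr
    have hrH : r ∈ H := hRH hr
    have hrP : r ∈ P := hP (hRT hr)
    have h1 : a * r * a⁻¹ * r⁻¹ ∈ H := by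
      have := (Subgroup.mem_normalizer_iff.mp (hAH ha) r).mp hrH
      exact H.mul_mem this (H.inv_mem hrH)
    have h2 : a * r * a⁻¹ * r⁻¹ ∈ A := by
      have := hNP r hrP a⁻¹ (A.inv_mem ha)
      have e : a * r * a⁻¹ * r⁻¹ = a * (r * a⁻¹ * r⁻¹) := by group
      rw [e]
      exact A.mul_mem ha this
    have := hbot _ h2 h1
    exact mul_inv_eq_one.mp this
  have hF : ∀ a ∈ A, ∀ h ∈ H, h * a * h⁻¹ * a⁻¹ ∈ R → h * a * h⁻¹ = a := by
    intro a ha h hh hr
    have h1 : h * a * h⁻¹ ∈ P := by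
      have e : h * a * h⁻¹ = (h * a * h⁻¹ * a⁻¹) * a := by group
      rw [e]
      exact (P : Subgroup G).mul_mem (hP (hRT hr)) (hAP ha)
    have h2 := hSC a ha h h1
    have h3 : h * a * h⁻¹ * a⁻¹ ∈ A := A.mul_mem h2 (A.inv_mem ha)
    have := hbot _ h3 (hRH hr)
    exact mul_inv_eq_one.mp this
  -- induction on the order
  have key : ∀ n : ℕ, ∀ a ∈ A, orderOf a = n → ∀ h ∈ H, a * h * a⁻¹ = h := by
    intro n
    induction n using Nat.strong_induction_on with
    | _ n ih =>
      intro a ha hn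
      by_cases ha1 : a = 1
      · intro h _
        rw [ha1]; group
      -- order of `a` is a positive power of two
      obtain ⟨k, hk⟩ := (IsPGroup.iff_orderOf.mp hA2) ⟨a, ha⟩
      rw [Subgroup.orderOf_mk] at hk
      have hk0 : k ≠ 0 := by
        intro h0
        rw [h0, pow_zero, orderOf_eq_one_iff] at hk
        exact ha1 hk
      have hsq : orderOf (a ^ 2) < n := by
        rw [orderOf_pow' a (by norm_num : (2 : ℕ) ≠ 0), ← hn, hk]
        have hg2 : Nat.gcd (2 ^ k) 2 = 2 := by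
          apply Nat.gcd_eq_right
          exact dvd_pow_self 2 hk0
        rw [hg2]
        exact Nat.div_lt_self (pow_pos (by norm_num) k) (by norm_num)
      have ih2 := ih _ hsq (a ^ 2) (A.pow_mem ha 2) rfl
      have haN := hAH ha
      set α := conjAut H a haN with hαdef
      have hα : α * α = 1 := by
        ext h
        show ((α (α h) : ↥H) : G) = h
        rw [conjAut_apply, conjAut_apply]
        have := ih2 h h.2
        calc a * (a * (h : G) * a⁻¹) * a⁻¹ = a ^ 2 * (h : G) * (a ^ 2)⁻¹ := by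
              rw [pow_two]; group
          _ = h := this
      have hR2 : IsPGroup 2 (R.subgroupOf H) := (hT₀2.to_le hRT).comap_subtype
      have hfix : ∀ r ∈ R.subgroupOf H, α r = r := by
        intro r hr
        apply Subtype.ext
        rw [conjAut_apply]
        exact hcommAR a ha r hr
      have hF' : ∀ h : ↥H, h * α h⁻¹ ∈ R.subgroupOf H → α h = h := by
        intro h hh
        have h1 : (h : G) * a * (h : G)⁻¹ * a⁻¹ ∈ R := by
          have : ((h * α h⁻¹ : ↥H) : G) ∈ R := hh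
          rw [Subgroup.coe_mul, conjAut_apply] at this
          have e : (h : G) * (a * ((h⁻¹ : ↥H) : G) * a⁻¹) = (h : G) * a * (h : G)⁻¹ * a⁻¹ := by
            rw [Subgroup.coe_inv]; group
          rwa [e] at this
        have h2 := hF a ha h h.2 h1
        apply Subtype.ext
        rw [conjAut_apply]
        calc a * (h : G) * a⁻¹ = ((h : G) * a * (h : G)⁻¹) * (h : G) * a⁻¹ := by rw [h2]
          _ = h := by group
      have hcore := core hZ hO α hα (R.subgroupOf H) hR2 hRidx hfix hF'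
      intro h hh
      have := hcore ⟨h, hh⟩
      have h3 : ((α ⟨h, hh⟩ : ↥H) : G) = h := congrArg (fun x : ↥H => (x : G)) this
      rw [conjAut_apply] at h3
      exact h3
  intro a ha
  rw [Subgroup.mem_centralizer_iff]
  intro h hh
  have := key _ a ha rfl h hh
  calc h * a = (a * h * a⁻¹) * a := by rw [this]
    _ = a * h := by group

end main

end Cfsg.Agent.Helper63.StrClosedZ
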