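import Mathlib
import Cfsg.Prelude.Def_Local
import Cfsg.Agent.Lib.Helper89.TH1Defs
import Cfsg.Agent.Lib.Helper81.TH1BDefs

/-!
# (FGC) `exists_k` of helper81's sub-server "TH1B" (piece COREB of helper89's TH1 server, S3797)
-/

set_option autoImplicit false

namespace Cfsg.Agent.Helper63.TH1B

open Cfsg Subgroup Cfsg.Agent.Helper89.TH1 Cfsg.Agent.Helper81.TH1B
open scoped commutatorElement

universe u

variable {G : Type u} [Group G]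

/-- conjugation by an element normalising `K`, as an automorphism of `↥K` -/
def helper63_conjAut (K : Subgroup G) (e : G) (he : ∀ k ∈ K, e * k * e⁻¹ ∈ K)
    (he' : ∀ k ∈ K, e⁻¹ * k * e ∈ K) : MulAut ↥K where
  toFun k := ⟨e * k * e⁻¹, he k k.2⟩
  invFun k := ⟨e⁻¹ * k * e, he' k k.2⟩
  left_inv k := by
    apply Subtype.ext
    show e⁻¹ * (e * (k : G) * e⁻¹) * e = k
    group
  right_inv k := by
    apply Subtype.ext
    show e * (e⁻¹ * (k : G) * e) * e⁻¹ = k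
    group
  map_mul' a b := by
    apply Subtype.ext
    show e * ((a : G) * (b : G)) * e⁻¹ = e * (a : G) * e⁻¹ * (e * (b : G) * e⁻¹)
    group

theorem helper63_conjAut_apply (K : Subgroup G) (e : G) (he : ∀ k ∈ K, e * k * e⁻¹ ∈ K)
    (he' : ∀ k ∈ K, e⁻¹ * k * e ∈ K) (k : ↥K) :
    ((helper63_conjAut K e he he' k : ↥K) : G) = e * k * e⁻¹ := rfl

variable [Finite G] {W Y K₁ E Q₀ N : Subgroup G}

/-- the construction of `k` from a `σ`-fixed `c` -/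
theorem helper63_k_of_c (hC : Core G W Y K₁ E Q₀ N) (τ σ c : G) (hτ : τ ∈ E) (hσ : σ ∈ E)
    (hc : c ∈ K₁) (hσc : σ * c * σ⁻¹ = c) (hcn : ⁅τ, c⁆ ∉ kerM W Y) :
    ∃ k ∈ K₁, k ∉ kerM W Y ∧ τ * k * τ⁻¹ = k⁻¹ ∧ σ * k * σ⁻¹ = k := by
  have hEK : ∀ e ∈ E, ∀ k ∈ K₁, e * k * e⁻¹ ∈ K₁ := fun e he k hk => hC.N_K e (hC.E_le_N he) k hk
  obtain ⟨d, hd⟩ : ∃ d, d = τ * c * τ⁻¹ := ⟨_, rfl⟩
  have hdK : d ∈ K₁ := by rw [hd]; exact hEK τ hτ c hc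
  -- `τ² c τ⁻² = c`
  have h2 : τ * τ * c = c * (τ * τ) := by
    have := hC.Q₀_K _ (hC.E_sq τ hτ) c hc
    rwa [pow_two] at this
  have hA : τ * d * τ⁻¹ = c := by
    calc τ * d * τ⁻¹ = (τ * τ * c) * (τ * τ)⁻¹ := by rw [hd]; group
      _ = c * (τ * τ) * (τ * τ)⁻¹ := by rw [h2]
      _ = c := by group
  refine ⟨c⁻¹ * d, K₁.mul_mem (K₁.inv_mem hc) hdK, ?_, ?_, ?_⟩
  · intro hk
    apply hcn
    have h1 : ⁅τ, c⁆ = c * (c⁻¹ * d) * c⁻¹ := by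
      rw [hd, commutatorElement_def]
      group
    rw [h1]
    exact conj_mem_kerM (K₁_le_actG hC hc) hk
  · calc τ * (c⁻¹ * d) * τ⁻¹ = (τ * c * τ⁻¹)⁻¹ * (τ * d * τ⁻¹) := by group
      _ = d⁻¹ * c := by rw [← hd, hA]
      _ = (c⁻¹ * d)⁻¹ := by group
  · obtain ⟨q, hq⟩ : ∃ q, q = ⁅σ, τ⁆ := ⟨_, rfl⟩
    have hqQ : q ∈ Q₀ := by rw [hq]; exact hC.E_comm σ hσ τ hτ
    have hqd : q * d = d * q := hC.Q₀_K q hqQ d hdK
    have hσd : σ * d * σ⁻¹ = d := by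
      calc σ * d * σ⁻¹ = q * (τ * (σ * c * σ⁻¹) * τ⁻¹) * q⁻¹ := by
            rw [hd, hq, commutatorElement_def]
            group
        _ = q * d * q⁻¹ := by rw [hσc, ← hd]
        _ = d := by rw [hqd]; group
    calc σ * (c⁻¹ * d) * σ⁻¹ = (σ * c * σ⁻¹)⁻¹ * (σ * d * σ⁻¹) := by group
      _ = c⁻¹ * d := by rw [hσc, hσd]

theorem exists_k (hC : Core G W Y K₁ E Q₀ N) (hQ : Q₀ ≤ kerM W Y)
    (htriv : ∀ e ∈ E, e ^ 2 ∈ kerM W Y → (∀ k ∈ K₁, ⁅e, k⁆ ∈ kerM W Y) → e ∈ kerM W Y)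
    (hgen : ∀ (α β : MulAut ↥K₁), α * α = 1 → β * β = 1 → α * β = β * α → ∀ Z : Subgroup ↥K₁,
      (∀ k, α k = k → k ∈ Z) → (∀ k, β k = k → k ∈ Z) → (∀ k, α (β k) = k → k ∈ Z) → Z = ⊤)
    (τ τ' : G) (hτ : τ ∈ E) (hτ' : τ' ∈ E) (hτk : τ ∉ kerM W Y) :
    ∃ k ∈ K₁, k ∉ kerM W Y ∧ τ * k * τ⁻¹ = k⁻¹ ∧
      (τ' * k * τ'⁻¹ = k ∨ (τ * τ') * k * (τ * τ')⁻¹ = k) := by
  classical
  have hEK : ∀ e ∈ E, ∀ k ∈ K₁, e * k * e⁻¹ ∈ K₁ := fun e he k hk => hC.N_K e (hC.E_le_N he) k hk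
  have hEK' : ∀ e ∈ E, ∀ k ∈ K₁, e⁻¹ * k * e ∈ K₁ := by
    intro e he k hk
    have := hEK e⁻¹ (E.inv_mem he) k hk
    rwa [inv_inv] at this
  set α : MulAut ↥K₁ := helper63_conjAut K₁ τ (hEK τ hτ) (hEK' τ hτ) with hα
  set β : MulAut ↥K₁ := helper63_conjAut K₁ τ' (hEK τ' hτ') (hEK' τ' hτ') with hβ
  have hαv : ∀ k : ↥K₁, ((α k : ↥K₁) : G) = τ * k * τ⁻¹ := fun k => rfl
  have hβv : ∀ k : ↥K₁, ((β k : ↥K₁) : G) = τ' * k * τ'⁻¹ := fun k => rfl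
  -- squares of elements of `E` centralise `K₁`
  have hsq : ∀ e ∈ E, ∀ k ∈ K₁, e * (e * k * e⁻¹) * e⁻¹ = k := by
    intro e he k hk
    have h2 : e * e * k = k * (e * e) := by
      have := hC.Q₀_K _ (hC.E_sq e he) k hk
      rwa [pow_two] at this
    calc e * (e * k * e⁻¹) * e⁻¹ = (e * e * k) * (e * e)⁻¹ := by group
      _ = k * (e * e) * (e * e)⁻¹ := by rw [h2]
      _ = k := by group
  have hαα : α * α = 1 := by
    apply MulEquiv.ext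
    intro k
    apply Subtype.ext
    rw [MulAut.mul_apply, hαv, hαv, MulAut.one_apply]
    exact hsq τ hτ k k.2
  have hββ : β * β = 1 := by
    apply MulEquiv.ext
    intro k
    apply Subtype.ext
    rw [MulAut.mul_apply, hβv, hβv, MulAut.one_apply]
    exact hsq τ' hτ' k k.2
  have hαβ : α * β = β * α := by
    apply MulEquiv.ext
    intro k
    apply Subtype.ext
    rw [MulAut.mul_apply, MulAut.mul_apply, hαv, hβv, hβv, hαv]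
    obtain ⟨q, hq⟩ : ∃ q, q = ⁅τ, τ'⁆ := ⟨_, rfl⟩
    have hqQ : q ∈ Q₀ := by rw [hq]; exact hC.E_comm τ hτ τ' hτ'
    obtain ⟨d, hd⟩ : ∃ d, d = τ' * (τ * (k : G) * τ⁻¹) * τ'⁻¹ := ⟨_, rfl⟩
    have hdK : d ∈ K₁ := by rw [hd]; exact hEK τ' hτ' _ (hEK τ hτ _ k.2)
    have hqd : q * d = d * q := hC.Q₀_K q hqQ d hdK
    calc τ * (τ' * (k : G) * τ'⁻¹) * τ⁻¹ = q * d * q⁻¹ := by
          rw [hd, hq, commutatorElement_def]
          group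
      _ = d := by rw [hqd]; group
      _ = τ' * (τ * (k : G) * τ⁻¹) * τ'⁻¹ := hd
  -- the subgroup `Z`
  let Z : Subgroup ↥K₁ :=
    { carrier := {k | ⁅τ, (k : G)⁆ ∈ kerM W Y}
      one_mem' := by
        show ⁅τ, ((1 : ↥K₁) : G)⁆ ∈ kerM W Y
        rw [Subgroup.coe_one, commutatorElement_one_right]
        exact (kerM W Y).one_mem
      mul_mem' := by
        intro a b ha hb
        show ⁅τ, ((a * b : ↥K₁) : G)⁆ ∈ kerM W Y
        have e1 : ⁅τ, ((a * b : ↥K₁) : G)⁆ = ⁅τ, (a : G)⁆ * ((a : G) * ⁅τ, (b : G)⁆ * (a : G)⁻¹) := by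
          rw [Subgroup.coe_mul]
          simp only [commutatorElement_def]
          group
        rw [e1]
        exact (kerM W Y).mul_mem ha (conj_mem_kerM (K₁_le_actG hC a.2) hb)
      inv_mem' := by
        intro a ha
        show ⁅τ, ((a⁻¹ : ↥K₁) : G)⁆ ∈ kerM W Y
        have e1 : ⁅τ, ((a⁻¹ : ↥K₁) : G)⁆ = (a : G)⁻¹ * (⁅τ, (a : G)⁆)⁻¹ * (a : G) := by
          rw [Subgroup.coe_inv]
          simp only [commutatorElement_def]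
          group
        rw [e1]
        exact conj_inv_mem_kerM (K₁_le_actG hC a.2) ((kerM W Y).inv_mem ha) }
  have hZmem : ∀ k : ↥K₁, k ∈ Z ↔ ⁅τ, (k : G)⁆ ∈ kerM W Y := fun k => Iff.rfl
  have hZα : ∀ k, α k = k → k ∈ Z := by
    intro k hk
    rw [hZmem]
    have h1 : τ * (k : G) * τ⁻¹ = k := by
      rw [← hαv, hk]
    rw [commutatorElement_def, h1, mul_inv_cancel]
    exact (kerM W Y).one_mem
  have hZne : Z ≠ ⊤ := by
    intro htop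
    apply hτk
    apply htriv τ hτ (hQ (hC.E_sq τ hτ))
    intro k hk
    have : (⟨k, hk⟩ : ↥K₁) ∈ Z := by rw [htop]; exact Subgroup.mem_top _
    exact (hZmem _).mp this
  have hnot : ¬ ((∀ k, β k = k → k ∈ Z) ∧ (∀ k, α (β k) = k → k ∈ Z)) :=
    fun h => hZne (hgen α β hαα hββ hαβ Z hZα h.1 h.2)
  rw [not_and_or] at hnot
  rcases hnot with h | h
  · push Not at h
    obtain ⟨c, hc1, hc2⟩ := h
    have hσc : τ' * (c : G) * τ'⁻¹ = c := by rw [← hβv, hc1]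
    obtain ⟨k, hk, hkn, hkτ, hkσ⟩ :=
      helper63_k_of_c hC τ τ' c hτ hτ' c.2 hσc (fun hh => hc2 ((hZmem c).mpr hh))
    exact ⟨k, hk, hkn, hkτ, Or.inl hkσ⟩
  · push Not at h
    obtain ⟨c, hc1, hc2⟩ := h
    have hσc : (τ * τ') * (c : G) * (τ * τ')⁻¹ = c := by
      have h1 : ((α (β c) : ↥K₁) : G) = c := by rw [hc1]
      rw [hαv, hβv] at h1
      calc (τ * τ') * (c : G) * (τ * τ')⁻¹ = τ * (τ' * (c : G) * τ'⁻¹) * τ⁻¹ := by group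
        _ = c := h1
    obtain ⟨k, hk, hkn, hkτ, hkσ⟩ :=
      helper63_k_of_c hC τ (τ * τ') c hτ (E.mul_mem hτ hτ') c.2 hσc
        (fun hh => hc2 ((hZmem c).mpr hh))
    exact ⟨k, hk, hkn, hkτ, Or.inr hkσ⟩

end Cfsg.Agent.Helper63.TH1B
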