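import Mathlib
import Cfsg.Prelude.Def_Local
import Cfsg.Agent.Lib.Helper89.TH1Defs

/-!
# (HB1) `H_hyps` of helper89's lemma server "TH1" (S3797)

`H = N_G(K)` inherits the hypotheses `TwoInv`, `OneClass` and is a proper subgroup.
-/

set_option autoImplicit false

namespace Cfsg.Agent.Helper63.TH1

open Cfsg Subgroup Cfsg.Agent.Helper89.TH1
open scoped commutatorElement

universe u

variable {G : Type u} [Group G] [Finite G]

theorem H_hyps {W K : Subgroup G} (hB : Base G W) (hK : KData G K) (hKne : K ≠ ⊥)
    (hKW : ∀ w ∈ W, ∀ k ∈ K, k * w = w * k) :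
    TwoInv ↥(normalizer (K : Set G)) ∧ OneClass ↥(normalizer (K : Set G)) ∧
      normalizer (K : Set G) ≠ ⊤ := by
  classical
  set H : Subgroup G := normalizer (K : Set G) with hH
  -- `W ≤ H`
  have hWH : W ≤ H := by
    intro w hw
    apply Subgroup.centralizer_le_normalizer
    rw [Subgroup.mem_centralizer_iff]
    intro k hk
    exact hKW w hw k hk
  refine ⟨?_, ?_, ?_⟩
  · -- two distinct commuting involutions inside `W`
    have : Fintype W := Fintype.ofFinite W
    have hcard : 2 < Fintype.card W := by
      rw [← Nat.card_eq_fintype_card]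
      have := hB.W_card
      omega
    obtain ⟨a, b, c, hab, hac, hbc⟩ := Fintype.two_lt_card_iff.mp hcard
    -- among three distinct elements two are nontrivial
    have key : ∀ x y : W, x ≠ y → x ≠ 1 → y ≠ 1 → TwoInv ↥H := by
      intro x y hxy hx hy
      refine ⟨⟨x.1, hWH x.2⟩, ⟨y.1, hWH y.2⟩, ?_, ?_, ?_, ?_, ?_, ?_⟩
      · intro h
        apply hxy
        apply Subtype.ext
        exact congrArg (fun z : ↥H => (z : G)) h
      · intro h
        apply hx
        apply Subtype.ext
        exact congrArg (fun z : ↥H => (z : G)) h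
      · apply Subtype.ext
        exact hB.W_exp x.1 x.2
      · intro h
        apply hy
        apply Subtype.ext
        exact congrArg (fun z : ↥H => (z : G)) h
      · apply Subtype.ext
        exact hB.W_exp y.1 y.2
      · apply Subtype.ext
        exact hB.W_central x.1 x.2 y.1 (hB.W_le y.2)
    by_cases ha : a = 1
    · have hb : b ≠ 1 := fun h => hab (ha.trans h.symm)
      have hc : c ≠ 1 := fun h => hac (ha.trans h.symm)
      exact key b c hbc hb hc
    · by_cases hb : b = 1
      · have hc : c ≠ 1 := fun h => hbc (hb.trans h.symm)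
        exact key a c hac ha hc
      · exact key a b hab ha hb
  · -- one class of involutions
    intro x y hx1 hx2 hy1 hy2
    have hxG : (x : G) ^ 2 = 1 := by
      have := congrArg (fun z : ↥H => (z : G)) hx2
      simpa using this
    have hyG : (y : G) ^ 2 = 1 := by
      have := congrArg (fun z : ↥H => (z : G)) hy2
      simpa using this
    have hxG1 : (x : G) ≠ 1 := fun h => hx1 (Subtype.ext h)
    have hyG1 : (y : G) ≠ 1 := fun h => hy1 (Subtype.ext h)
    have hxW : (x : G) ∈ W := hB.inv_mem _ hxG
    have hyW : (y : G) ∈ W := hB.inv_mem _ hyG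
    obtain ⟨g, hg⟩ := hB.W_trans _ hxW _ hyW hxG1 hyG1
    obtain ⟨q, hq, hqg⟩ := hK.frat g
    rw [isConj_iff]
    refine ⟨⟨q * g, hqg⟩, ?_⟩
    apply Subtype.ext
    show q * g * (x : G) * (q * g)⁻¹ = (y : G)
    have h1 : q * g * (x : G) * (q * g)⁻¹ = q * (g * (x : G) * g⁻¹) * q⁻¹ := by group
    rw [h1, hg, ← hB.W_central _ hyW q hq, mul_inv_cancel_right]
  · -- `H ≠ ⊤`
    intro htop
    apply hKne
    have hKn : K.Normal := Subgroup.normalizer_eq_top_iff.mp htop
    have hcop : (Nat.card K).Coprime 2 := Nat.Coprime.symm (Nat.coprime_two_left.mpr hK.K_odd)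
    have hle : K ≤ pPrimeCore 2 G := le_sSup ⟨hKn, hcop⟩
    rw [hB.core] at hle
    exact le_bot_iff.mp hle

end Cfsg.Agent.Helper63.TH1
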