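import Mathlib
import Cfsg.Prelude.Def_OddOrderLocal
import Cfsg.Agent.Lib.Helper98.TIHDefs

/-!
# (P3a) `sup_normalizer_eq_top_of_prime` of helper98's lemma server "TIH" (S4118): the Frattini argument
-/

set_option autoImplicit false

namespace Cfsg.Agent.Helper63.TIH

open Cfsg.Agent.Helper98.TIH

universe u

/-- (P3a) Frattini. -/
theorem sup_normalizer_eq_top_of_prime {G : Type u} [Group G] [Finite G] {H : Subgroup G}
    (hH : Hyp H) (hall : (Nat.card H).Coprime H.index) (K : Subgroup G) (hK : K.Normal)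
    (p : ℕ) (hp : p.Prime) (hpK : p ∣ Nat.card K) (hpH : p ∣ Nat.card H) :
    K ⊔ Subgroup.normalizer (H : Set G) = ⊤ := by
  classical
  have : Fact p.Prime := ⟨hp⟩
  have : K.Normal := hK
  obtain ⟨Q0⟩ : Nonempty (Sylow p ↥K) := inferInstance
  have hfrat := Sylow.normalizer_sup_eq_top Q0
  set Q : Subgroup G := (Q0 : Subgroup ↥K).map K.subtype with hQ
  -- a nontrivial element of `Q`
  have hQ0ne : (Q0 : Subgroup ↥K) ≠ ⊥ := Sylow.ne_bot_of_dvd_card Q0 hpK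
  obtain ⟨⟨q0, hq0⟩, hq01⟩ := (Subgroup.ne_bot_iff_exists_ne_one).mp hQ0ne
  have hq0Q : (q0 : G) ∈ Q := ⟨q0, hq0, rfl⟩
  have hq0ne : (q0 : G) ≠ 1 := by
    intro h
    apply hq01
    apply Subtype.ext
    apply Subtype.ext
    exact h
  -- `Q` is a `p`-group, so it fixes a coset of `H`
  have hQp : IsPGroup p Q := (Q0.2).map K.subtype
  have hpidx : ¬ p ∣ Nat.card (G ⧸ H) := by
    intro hdvd
    rw [← Subgroup.index_eq_card] at hdvd
    have h1 : p ∣ Nat.gcd (Nat.card H) H.index := Nat.dvd_gcd hpH hdvd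
    rw [Nat.Coprime.gcd_eq_one hall] at h1
    exact hp.one_lt.ne' (Nat.dvd_one.mp h1)
  obtain ⟨c, hc⟩ := hQp.nonempty_fixed_point_of_prime_not_dvd_card (G ⧸ H) hpidx
  obtain ⟨g, rfl⟩ := QuotientGroup.mk_surjective c
  have hconj : ∀ q ∈ Q, g⁻¹ * q * g ∈ H := by
    intro q hq
    have h1 : (⟨q, hq⟩ : Q) • (QuotientGroup.mk g : G ⧸ H) = QuotientGroup.mk g := hc ⟨q, hq⟩
    have h2 : (⟨q, hq⟩ : Q) • (QuotientGroup.mk g : G ⧸ H) = QuotientGroup.mk (q * g) := rfl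
    rw [h2, QuotientGroup.eq] at h1
    have h3 := H.inv_mem h1
    have e : ((q * g)⁻¹ * g)⁻¹ = g⁻¹ * q * g := by group
    rwa [e] at h3
  -- every `g⁻¹ n g`, `n ∈ N(Q)`, normalises `H` by the TI property
  have hnorm : ∀ n ∈ Subgroup.normalizer (Q : Set G), g⁻¹ * n * g ∈ Subgroup.normalizer (H : Set G) := by
    intro n hn
    by_contra hnot
    have hq1H : g⁻¹ * (q0 : G) * g ∈ (H : Set G) := hconj _ hq0Q
    have hnq : n * (q0 : G) * n⁻¹ ∈ Q := (Subgroup.mem_normalizer_iff.mp hn _).mp hq0Q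
    have h2 : (g⁻¹ * n * g) * (g⁻¹ * (q0 : G) * g) * (g⁻¹ * n * g)⁻¹ ∈ (H : Set G) := by
      have e : (g⁻¹ * n * g) * (g⁻¹ * (q0 : G) * g) * (g⁻¹ * n * g)⁻¹ =
          g⁻¹ * (n * (q0 : G) * n⁻¹) * g := by group
      rw [e]
      exact hconj _ hnq
    have h3 := hH.ti _ hnot _ hq1H h2
    apply hq0ne
    have e : (q0 : G) = g * (g⁻¹ * (q0 : G) * g) * g⁻¹ := by group
    rw [e, h3]
    group
  -- assemble
  rw [eq_top_iff]
  intro a _
  have hmem : g * a * g⁻¹ ∈ ((Subgroup.normalizer (Q : Set G) ⊔ K : Subgroup G) : Set G) := by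
    rw [hfrat]
    exact Subgroup.mem_top _
  rw [Subgroup.mul_normal] at hmem
  obtain ⟨n, hn, k, hk, hnk⟩ := Set.mem_mul.mp hmem
  have e : a = (g⁻¹ * n * g) * (g⁻¹ * k * g) := by
    have : g⁻¹ * (n * k) * g = (g⁻¹ * n * g) * (g⁻¹ * k * g) := by group
    rw [← this, hnk]
    group
  rw [e]
  apply Subgroup.mul_mem
  · exact Subgroup.mem_sup_right (hnorm n hn)
  · apply Subgroup.mem_sup_left
    have := hK.conj_mem k hk g⁻¹
    rwa [inv_inv] at this

end Cfsg.Agent.Helper63.TIH
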