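import Mathlib
import Cfsg.Agent.Lib.Helper93.U20

/-!
# (G4) `aMat_injective` of helper93's lemma server "U2" (S2335)
-/

set_option autoImplicit false

namespace Cfsg.Agent.Helper63.U2

open Matrix Cfsg.Agent.Helper13 Cfsg.Agent.Helper93.U2

section GRP

variable {F : Type*} [Field F] [Fintype F] {q : ℕ} (hF : Fintype.card F = q ^ 2)

/-- `Q* P = 1` -/
theorem frame_qp {n m : ℕ} (fr : Frame hF n m) : cT hF fr.Q * fr.P = 1 := by
  have h := congrArg (cT hF) fr.pq
  rwa [cT_mul, cT_cT, cT_one] at h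

/-- piece G4 -/
theorem aMat_injective {n m : ℕ} (fr : Frame hF n m) (ε : F) (hε0 : ε ≠ 0)
    (H K : Matrix (Fin m) (Fin m) F) (h : aMat hF fr ε H = aMat hF fr ε K) : H = K := by
  unfold aMat at h
  have h1 : ε • (fr.P * H * cT hF fr.P) = ε • (fr.P * K * cT hF fr.P) := add_left_cancel h
  have h2 : fr.P * H * cT hF fr.P = fr.P * K * cT hF fr.P := smul_right_injective _ hε0 h1
  have h3 : cT hF fr.Q * (fr.P * H * cT hF fr.P) * fr.Q =
      cT hF fr.Q * (fr.P * K * cT hF fr.P) * fr.Q := by rw [h2]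
  have e : ∀ X : Matrix (Fin m) (Fin m) F,
      cT hF fr.Q * (fr.P * X * cT hF fr.P) * fr.Q = X := by
    intro X
    calc cT hF fr.Q * (fr.P * X * cT hF fr.P) * fr.Q
        = (cT hF fr.Q * fr.P) * X * (cT hF fr.P * fr.Q) := by simp only [Matrix.mul_assoc]
      _ = X := by rw [frame_qp, fr.pq, Matrix.one_mul, Matrix.mul_one]
  rwa [e, e] at h3

end GRP

end Cfsg.Agent.Helper63.U2
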