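import Mathlib
import Cfsg.Agent.Lib.Helper93.U20
import Cfsg.Agent.Lib.Helper63.U2G4

/-!
# (G3) `lMat_mul_aMat` of helper93's lemma server "U2" (S2335)
-/

set_option autoImplicit false

namespace Cfsg.Agent.Helper63.U2

open Matrix Cfsg.Agent.Helper13 Cfsg.Agent.Helper93.U2

section GRP

variable {F : Type*} [Field F] [Fintype F] {q : ℕ} (hF : Fintype.card F = q ^ 2)

/-- piece G3 -/
theorem lMat_mul_aMat {n m : ℕ} (fr : Frame hF n m) (ε : F) (E H : Matrix (Fin m) (Fin m) F)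
    (hE : E * E = 0) :
    lMat hF fr E * aMat hF fr ε H =
      aMat hF fr ε ((1 + E) * H * cT hF (1 + E)) * lMat hF fr E := by
  have pp := fr.pp
  have pq := fr.pq
  have qp := frame_qp hF fr
  have hEs : cT hF E * cT hF E = 0 := by rw [← cT_mul, hE, cT_zero]
  have hcT1E : cT hF (1 + E) = 1 + cT hF E := by rw [cT_add, cT_one]
  have hNP : (fr.P * E * cT hF fr.Q - fr.Q * cT hF E * cT hF fr.P) * fr.P = fr.P * E := by
    rw [Matrix.sub_mul, Matrix.mul_assoc (fr.P * E) (cT hF fr.Q) fr.P, qp, Matrix.mul_one,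
      Matrix.mul_assoc (fr.Q * cT hF E) (cT hF fr.P) fr.P, pp, Matrix.mul_zero, sub_zero]
  have hPsN : cT hF fr.P * (fr.P * E * cT hF fr.Q - fr.Q * cT hF E * cT hF fr.P) =
      -(cT hF E * cT hF fr.P) := by
    rw [Matrix.mul_sub, ← Matrix.mul_assoc, ← Matrix.mul_assoc, pp, Matrix.zero_mul,
      Matrix.zero_mul, ← Matrix.mul_assoc, ← Matrix.mul_assoc, pq, Matrix.one_mul, zero_sub]
  unfold lMat aMat
  generalize fr.P * E * cT hF fr.Q - fr.Q * cT hF E * cT hF fr.P = N at hNP hPsN ⊢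
  have hL : (1 + N) * (1 + ε • (fr.P * H * cT hF fr.P)) =
      1 + N + ε • (fr.P * ((1 + E) * H) * cT hF fr.P) := by
    have h1 : N * (fr.P * H * cT hF fr.P) = fr.P * (E * H) * cT hF fr.P := by
      rw [← Matrix.mul_assoc, ← Matrix.mul_assoc, hNP, Matrix.mul_assoc fr.P E H]
    rw [Matrix.mul_add, Matrix.mul_one, Matrix.mul_smul, Matrix.add_mul, Matrix.one_mul, h1,
      ← Matrix.add_mul, ← Matrix.mul_add, Matrix.add_mul 1 E H, Matrix.one_mul]
  have hR : (1 + ε • (fr.P * ((1 + E) * H * cT hF (1 + E)) * cT hF fr.P)) * (1 + N) =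
      1 + N + ε • (fr.P * ((1 + E) * H) * cT hF fr.P) := by
    have key : (1 + E) * H * (1 + cT hF E) - (1 + E) * H * (1 + cT hF E) * cT hF E =
        (1 + E) * H := by
      have e1 : (1 + E) * H * (1 + cT hF E) - (1 + E) * H * (1 + cT hF E) * cT hF E =
          (1 + E) * H * (1 - cT hF E * cT hF E) := by noncomm_ring
      rw [e1, hEs, sub_zero, Matrix.mul_one]
    have h1 : fr.P * ((1 + E) * H * cT hF (1 + E)) * cT hF fr.P * N =
        -(fr.P * ((1 + E) * H * cT hF (1 + E) * cT hF E) * cT hF fr.P) := by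
      rw [Matrix.mul_assoc _ (cT hF fr.P) N, hPsN, Matrix.mul_neg]
      simp only [Matrix.mul_assoc]
    rw [Matrix.add_mul, Matrix.one_mul, Matrix.smul_mul, Matrix.mul_add, Matrix.mul_one, h1,
      hcT1E]
    have h2 : fr.P * ((1 + E) * H * (1 + cT hF E)) * cT hF fr.P +
        -(fr.P * ((1 + E) * H * (1 + cT hF E) * cT hF E) * cT hF fr.P) =
        fr.P * ((1 + E) * H) * cT hF fr.P := by
      rw [← sub_eq_add_neg, ← Matrix.sub_mul, ← Matrix.mul_sub, key]
    rw [← h2, smul_add]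
  rw [hL, hR]

end GRP

end Cfsg.Agent.Helper63.U2
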