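import Mathlib
import Cfsg.Agent.Lib.Helper93.U20
import Cfsg.Agent.Lib.Helper78.U2B2
import Cfsg.Agent.Lib.Helper40.U2G1a
import Cfsg.Agent.Lib.Helper40.U2G1b
import Cfsg.Agent.Lib.Helper40.U2G1c
import Cfsg.Agent.Lib.Helper40.U2G2a
import Cfsg.Agent.Lib.Helper40.U2G3
import Cfsg.Agent.Lib.Helper40.U2G4
import Cfsg.Agent.Lib.Helper10.U2G2b

/-!
# (G6a)-(G6e) of helper93's lemma server "U2" (S2335): the group-level statements
-/

set_option autoImplicit false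

namespace Cfsg.Agent.Helper63.U2

open Matrix Cfsg.Agent.Helper13 Cfsg.Agent.Helper93.U2

section GRP

variable {F : Type*} [Field F] [Fintype F] {q : ℕ} (hF : Fintype.card F = q ^ 2)

/-- piece G6a -/
theorem aEl_val {n m : ℕ} (fr : Frame hF n m) (ε : F) (hε : ε ^ q = -ε) (a : ↥(hermSub hF m)) :
    (((aEl hF fr ε a : ↥(Cfsg.SU n F q)) : Matrix.SpecialLinearGroup (Fin n) F) :
      Matrix (Fin n) (Fin n) F) = aMat hF fr ε a.1 :=
  suOf_val _ (Cfsg.Agent.Helper40.U2.aMat_det hF fr ε a.1)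
    (fun u v => Cfsg.Agent.Helper78.U2.unitary_preserves hF _ (Cfsg.Agent.Helper40.U2.aMat_unitary hF fr ε hε a.1 a.2) u v)

/-- piece G6b -/
theorem lEl_val {n m : ℕ} (fr : Frame hF n m) (E : Matrix (Fin m) (Fin m) F) (hE : E * E = 0) :
    (((lEl hF fr E : ↥(Cfsg.SU n F q)) : Matrix.SpecialLinearGroup (Fin n) F) :
      Matrix (Fin n) (Fin n) F) = lMat hF fr E :=
  suOf_val _ (Cfsg.Agent.Helper10.U2.lMat_det hF fr E hE)
    (fun u v => Cfsg.Agent.Helper78.U2.unitary_preserves hF _ (Cfsg.Agent.Helper40.U2.lMat_unitary hF fr E hE) u v)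

/-- piece G6c -/
theorem aEl_add {n m : ℕ} (fr : Frame hF n m) (ε : F) (hε : ε ^ q = -ε)
    (a b : ↥(hermSub hF m)) :
    aEl hF fr ε (a + b) = (aEl hF fr ε a * aEl hF fr ε b : ↥(Cfsg.SU n F q)) := by
  apply Subtype.ext
  apply Subtype.ext
  rw [Subgroup.coe_mul, Matrix.SpecialLinearGroup.coe_mul, aEl_val hF fr ε hε, aEl_val hF fr ε hε,
    aEl_val hF fr ε hε, AddSubgroup.coe_add, Cfsg.Agent.Helper40.U2.aMat_add]

/-- piece G6d -/
theorem aEl_injective {n m : ℕ} (fr : Frame hF n m) (ε : F) (hε : ε ^ q = -ε) (hε0 : ε ≠ 0) :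
    Function.Injective (aEl hF fr ε : ↥(hermSub hF m) → ↥(Cfsg.SU n F q)) := by
  intro a b h
  have h1 := congrArg (fun g : ↥(Cfsg.SU n F q) =>
    ((g : Matrix.SpecialLinearGroup (Fin n) F) : Matrix (Fin n) (Fin n) F)) h
  simp only [aEl_val hF fr ε hε] at h1
  exact Subtype.ext (Cfsg.Agent.Helper40.U2.aMat_injective hF fr ε hε0 _ _ h1)

/-- piece G6e -/
theorem lEl_conj {n m : ℕ} (fr : Frame hF n m) (ε : F) (hε : ε ^ q = -ε)
    (E : Matrix (Fin m) (Fin m) F) (hE : E * E = 0) (a : ↥(hermSub hF m)) :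
    (lEl hF fr E * aEl hF fr ε a * (lEl hF fr E)⁻¹ : ↥(Cfsg.SU n F q)) =
      aEl hF fr ε (congH hF (1 + E) a) := by
  rw [mul_inv_eq_iff_eq_mul]
  apply Subtype.ext
  apply Subtype.ext
  rw [Subgroup.coe_mul, Matrix.SpecialLinearGroup.coe_mul, Subgroup.coe_mul,
    Matrix.SpecialLinearGroup.coe_mul, aEl_val hF fr ε hε, aEl_val hF fr ε hε, lEl_val hF fr E hE,
    congH_val, Cfsg.Agent.Helper40.U2.lMat_mul_aMat hF fr ε E a.1 hE]

end GRP

end Cfsg.Agent.Helper63.U2
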