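import Mathlib
import Cfsg.Agent.Lib.Helper73.W44Defs

/-!
# W44 pieces (CK) and (CARD) for helper73's server (S4414)
-/

set_option autoImplicit false

namespace Cfsg.Agent.Helper63.W44

open Cfsg.Agent.Helper73.W44

section misc
variable {k : Type*} [Field k] {G : Type*} [Group G] {V : Type*} [AddCommGroup V] [Module k V]

/-- **(CK)** a nontrivial normal subgroup acting faithfully on an irreducible module has no
nonzero fixed vector -/
theorem fixS_eq_bot_of_irr_faithful (ρ : G →* Module.End k V) (K : Subgroup G) [K.Normal]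
    (hirr : ∀ N : Submodule k V, (∀ s : G, ∀ m ∈ N, ρ s m ∈ N) → N = ⊥ ∨ N = ⊤)
    (hK : K ≠ ⊥) (hfaith : ∀ x ∈ K, ρ x = 1 → x = 1) : fixS ρ K = ⊥ := by
  have hinv : ∀ s : G, ∀ m ∈ fixS ρ K, ρ s m ∈ fixS ρ K := by
    intro s m hm x hx
    have hx' : s⁻¹ * x * s ∈ K := by
      have h1 := (inferInstance : K.Normal).conj_mem x hx s⁻¹
      rwa [inv_inv] at h1
    have h1 : x * s = s * (s⁻¹ * x * s) := by group
    calc ρ x (ρ s m) = (ρ (x * s)) m := by rw [map_mul, Module.End.mul_apply]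
      _ = ρ (s * (s⁻¹ * x * s)) m := by rw [h1]
      _ = ρ s (ρ (s⁻¹ * x * s) m) := by rw [map_mul, Module.End.mul_apply]
      _ = ρ s m := by rw [hm _ hx']
  rcases hirr _ hinv with h | h
  · exact h
  · exfalso
    apply hK
    rw [Subgroup.eq_bot_iff_forall]
    intro x hx
    apply hfaith x hx
    ext v
    have hv : v ∈ fixS ρ K := by rw [h]; exact Submodule.mem_top
    rw [hv x hx, Module.End.one_apply]

/-- **(CARD)** -/
theorem card_fixed_eq_two_pow {E : Type*} [AddCommGroup E] [Module (ZMod 2) E] [Finite E]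
    (ρ : G →* Module.End (ZMod 2) E) (P : Subgroup G) :
    Nat.card {v : E // ∀ s ∈ P, ρ s v = v} = 2 ^ Module.finrank (ZMod 2) (fixS ρ P) := by
  have h1 : Nat.card ↥(fixS ρ P) = Nat.card (ZMod 2) ^ Module.finrank (ZMod 2) ↥(fixS ρ P) :=
    Module.natCard_eq_pow_finrank
  rw [Nat.card_zmod] at h1
  exact h1

end misc

end Cfsg.Agent.Helper63.W44
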