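import Mathlib
import Cfsg.Agent.Lib.Helper73.W44Defs

/-!
# W44 piece (WM) `map_wt` for helper73's server (S4414)
-/

set_option autoImplicit false

namespace Cfsg.Agent.Helper63.W44

open Cfsg.Agent.Helper73.W44

section weights
variable {k : Type*} [Field k] {G : Type*} [Group G] {V : Type*} [AddCommGroup V] [Module k V]

/-- one inclusion of (WM) -/
theorem h63_map_wt_le (ρ : G →* Module.End k V) (K : Subgroup G) [K.Normal] (g : G)
    (χ : Wt K k) (v : V) (hv : v ∈ wt ρ K χ) : ρ g v ∈ wt ρ K (g • χ) := by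
  rw [mem_wt] at hv ⊢
  intro n
  have h1 := hv (MulAut.conjNormal g⁻¹ n)
  have e : (n : G) * g = g * ((MulAut.conjNormal g⁻¹ n : K) : G) := by
    rw [MulAut.conjNormal_apply]; group
  rw [← Module.End.mul_apply, ← map_mul, e, map_mul, Module.End.mul_apply, h1, map_smul,
    Wt.smul_apply]

/-- **(WM)** `ρ g` maps the weight space of `χ` onto that of `g • χ` -/
theorem map_wt (ρ : G →* Module.End k V) (K : Subgroup G) [K.Normal] (g : G) (χ : Wt K k) :
    (wt ρ K χ).map (ρ g) = wt ρ K (g • χ) := by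
  ext w
  rw [Submodule.mem_map]
  constructor
  · rintro ⟨v, hv, rfl⟩
    exact h63_map_wt_le ρ K g χ v hv
  · intro hw
    refine ⟨ρ g⁻¹ w, ?_, ?_⟩
    · have h1 := h63_map_wt_le ρ K g⁻¹ (g • χ) w hw
      rwa [inv_smul_smul] at h1
    · rw [← Module.End.mul_apply, ← map_mul, mul_inv_cancel, map_one, Module.End.one_apply]

end weights

end Cfsg.Agent.Helper63.W44
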